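/-
Unitary matrix groups over a field with involution, commutator predicate, three-by-three blocks.
-/
import Mathlib

set_option autoImplicit false
set_option linter.unusedSectionVars false

namespace Cfsg.Agent.H31.OreSU

open Matrix

/-- An involution with surjective trace and norm. -/
structure UConj (F : Type*) [Field F] where
  σ : F →+* F
  inv : ∀ x, σ (σ x) = x
  ne : ∃ x, σ x ≠ x
  tr : ∃ θ, θ + σ θ = 1
  nrm : ∀ x, σ x = x → ∃ y, y * σ y = x

variable {F : Type*} [Field F] (S : UConj F)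
variable {ι κ μ : Type} [Fintype ι] [DecidableEq ι] [Fintype κ] [DecidableEq κ] [Fintype μ]
  [DecidableEq μ]

theorem UConj.trace_surj {s : F} (hs : S.σ s = s) : ∃ t, t + S.σ t = s := by
  obtain ⟨θ, hθ⟩ := S.tr
  exact ⟨s * θ, by rw [map_mul, hs, ← mul_add, hθ, mul_one]⟩

/-- Conjugate transpose. -/
def cT (M : Matrix ι κ F) : Matrix κ ι F := Mᵀ.map S.σ

theorem cT_apply (M : Matrix ι κ F) (i : κ) (j : ι) : cT S M i j = S.σ (M j i) := rfl

@[simp] theorem cT_mul (A : Matrix ι κ F) (B : Matrix κ μ F) :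
    cT S (A * B) = cT S B * cT S A := by
  rw [cT, transpose_mul, Matrix.map_mul]; rfl

@[simp] theorem cT_one : cT S (1 : Matrix ι ι F) = 1 := by simp [cT]

@[simp] theorem cT_zero : cT S (0 : Matrix ι κ F) = 0 := by ext i j; simp [cT_apply]

@[simp] theorem cT_cT (A : Matrix ι κ F) : cT S (cT S A) = A := by ext i j; simp [cT_apply, S.inv]

@[simp] theorem cT_add (A B : Matrix ι κ F) : cT S (A + B) = cT S A + cT S B := by
  ext i j; simp [cT_apply]

@[simp] theorem cT_neg (A : Matrix ι κ F) : cT S (-A) = -cT S A := by ext i j; simp [cT_apply]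

@[simp] theorem cT_sub (A B : Matrix ι κ F) : cT S (A - B) = cT S A - cT S B := by
  ext i j; simp [cT_apply]

@[simp] theorem cT_smul (c : F) (A : Matrix ι κ F) : cT S (c • A) = S.σ c • cT S A := by
  ext i j; simp [cT_apply]

theorem cT_diagonal (d : ι → F) : cT S (diagonal d) = diagonal fun i => S.σ (d i) := by
  ext i j
  by_cases h : i = j
  · subst h; simp [cT_apply]
  · simp [cT_apply, diagonal_apply_ne _ h, diagonal_apply_ne _ (Ne.symm h)]

theorem det_cT (A : Matrix ι ι F) : (cT S A).det = S.σ A.det := by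
  rw [cT, ← det_transpose A, RingHom.map_det]; rfl

/-- The isometry group of `J`. -/
def U (J : Matrix ι ι F) : Subgroup (GL ι F) where
  carrier := {g | cT S (g : Matrix ι ι F) * J * (g : Matrix ι ι F) = J}
  mul_mem' {a b} ha hb := by
    simp only [Set.mem_ofPred_eq, Units.val_mul, cT_mul] at *
    calc cT S (b : Matrix ι ι F) * cT S (a : Matrix ι ι F) * J * (↑a * ↑b)
        = cT S (b : Matrix ι ι F) * (cT S (a : Matrix ι ι F) * J * ↑a) * ↑b := by
          simp only [Matrix.mul_assoc]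
      _ = J := by rw [ha, hb]
  one_mem' := by simp
  inv_mem' {a} ha := by
    simp only [Set.mem_ofPred_eq] at *
    calc cT S (↑a⁻¹ : Matrix ι ι F) * J * ↑a⁻¹
        = cT S ((a : Matrix ι ι F) * ↑a⁻¹) * J * ((a : Matrix ι ι F) * ↑a⁻¹) := by
          conv_lhs => rw [← ha]
          simp only [cT_mul, Matrix.mul_assoc]
      _ = J := by simp

theorem mem_U {J : Matrix ι ι F} {g : GL ι F} :
    g ∈ U S J ↔ cT S (g : Matrix ι ι F) * J * (g : Matrix ι ι F) = J := Iff.rfl

/-- A commutator of isometries of determinant one. -/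
def Com (J : Matrix ι ι F) (g : GL ι F) : Prop :=
  ∃ a ∈ U S J, ∃ b ∈ U S J, (a : Matrix ι ι F).det = 1 ∧ (b : Matrix ι ι F).det = 1 ∧
    g = a * b * a⁻¹ * b⁻¹

theorem Com.one (J : Matrix ι ι F) : Com S J 1 :=
  ⟨1, one_mem _, 1, one_mem _, by simp, by simp, by simp⟩

/-- Change of basis. -/
def transport (P : Matrix ι κ F) (Q : Matrix κ ι F) (h1 : P * Q = 1) (h2 : Q * P = 1) :
    GL κ F →* GL ι F :=
  let φ : Matrix κ κ F →* Matrix ι ι F :=
    { toFun := fun x => P * x * Q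
      map_one' := by rw [Matrix.mul_one, h1]
      map_mul' := fun x y => by
        calc P * (x * y) * Q = P * x * (Q * P) * y * Q := by rw [h2]; simp [Matrix.mul_assoc]
          _ = P * x * Q * (P * y * Q) := by simp [Matrix.mul_assoc] }
  Units.map φ

theorem transport_val (P : Matrix ι κ F) (Q : Matrix κ ι F) (h1 : P * Q = 1) (h2 : Q * P = 1)
    (x : GL κ F) :
    (transport P Q h1 h2 x : Matrix ι ι F) = P * (x : Matrix κ κ F) * Q := rfl

theorem Com.of_transport {J : Matrix ι ι F} (P : Matrix ι κ F) (Q : Matrix κ ι F) (h1 : P * Q = 1)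
    (h2 : Q * P = 1) {g : GL κ F} (h : Com S (cT S P * J * P) g) :
    Com S J (transport P Q h1 h2 g) := by
  obtain ⟨a, ha, b, hb, hda, hdb, rfl⟩ := h
  have mem : ∀ x : GL κ F, x ∈ U S (cT S P * J * P) → transport P Q h1 h2 x ∈ U S J := fun x hx => by
    rw [mem_U] at hx ⊢
    rw [transport_val, cT_mul, cT_mul]
    calc cT S Q * (cT S (x : Matrix κ κ F) * cT S P) * J * (P * (x : Matrix κ κ F) * Q)
        = cT S Q * (cT S (x : Matrix κ κ F) * (cT S P * J * P) * (x : Matrix κ κ F)) * Q := by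
          simp only [Matrix.mul_assoc]
      _ = cT S (P * Q) * J * (P * Q) := by rw [hx]; simp only [cT_mul, Matrix.mul_assoc]
      _ = J := by simp [h1]
  have det1 : ∀ x : GL κ F, (x : Matrix κ κ F).det = 1 →
      (transport P Q h1 h2 x : Matrix ι ι F).det = 1 := fun x hx => by
    rw [transport_val, Matrix.det_conj_of_mul_eq_one h1 h2, hx]
  exact ⟨_, mem a ha, _, mem b hb, det1 a hda, det1 b hdb, by simp only [map_mul, map_inv]⟩

/-! ### Three-by-three blocks -/

variable {α β γ δ ε η : Type} [Fintype α] [Fintype β] [Fintype γ] [Fintype δ] [Fintype ε] [Fintype η]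

/-- A block matrix with three rows and three columns. -/
def b3 {α' β' γ' : Type} (a : Matrix α' α F) (b : Matrix α' β F) (c : Matrix α' γ F)
    (d : Matrix β' α F) (e : Matrix β' β F) (f : Matrix β' γ F) (g : Matrix γ' α F)
    (h : Matrix γ' β F) (i : Matrix γ' γ F) : Matrix (α' ⊕ (β' ⊕ γ')) (α ⊕ (β ⊕ γ)) F :=
  fromBlocks a (fromCols b c) (fromRows d g) (fromBlocks e f h i)

theorem b3_inj {α' β' γ' : Type} {a a' : Matrix α' α F} {b b' : Matrix α' β F}
    {c c' : Matrix α' γ F} {d d' : Matrix β' α F} {e e' : Matrix β' β F} {f f' : Matrix β' γ F}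
    {g g' : Matrix γ' α F} {h h' : Matrix γ' β F} {i i' : Matrix γ' γ F} :
    b3 a b c d e f g h i = b3 a' b' c' d' e' f' g' h' i' ↔
      a = a' ∧ b = b' ∧ c = c' ∧ d = d' ∧ e = e' ∧ f = f' ∧ g = g' ∧ h = h' ∧ i = i' := by
  constructor
  · intro heq
    simp only [b3, fromBlocks_inj, fromCols_ext_iff, fromRows_ext_iff] at heq
    obtain ⟨h1, ⟨h2, h3⟩, ⟨h4, h5⟩, h6, h7, h8, h9⟩ := heq
    exact ⟨h1, h2, h3, h4, h6, h7, h5, h8, h9⟩
  · rintro ⟨rfl, rfl, rfl, rfl, rfl, rfl, rfl, rfl, rfl⟩; rfl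

theorem b3_mul {α' β' γ' α'' β'' γ'' : Type} [Fintype α'] [Fintype β'] [Fintype γ']
    (a : Matrix α'' α' F) (b : Matrix α'' β' F) (c : Matrix α'' γ' F)
    (d : Matrix β'' α' F) (e : Matrix β'' β' F) (f : Matrix β'' γ' F)
    (g : Matrix γ'' α' F) (h : Matrix γ'' β' F) (i : Matrix γ'' γ' F)
    (a' : Matrix α' α F) (b' : Matrix α' β F) (c' : Matrix α' γ F)
    (d' : Matrix β' α F) (e' : Matrix β' β F) (f' : Matrix β' γ F)
    (g' : Matrix γ' α F) (h' : Matrix γ' β F) (i' : Matrix γ' γ F) :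
    b3 a b c d e f g h i * b3 a' b' c' d' e' f' g' h' i' =
      b3 (a * a' + b * d' + c * g') (a * b' + b * e' + c * h') (a * c' + b * f' + c * i')
        (d * a' + e * d' + f * g') (d * b' + e * e' + f * h') (d * c' + e * f' + f * i')
        (g * a' + h * d' + i * g') (g * b' + h * e' + i * h') (g * c' + h * f' + i * i') := by
  ext (x | x | x) (y | y | y) <;>
    simp [b3, Matrix.mul_apply, Fintype.sum_sum_type, add_assoc]

theorem cT_b3 (a : Matrix α α F) (b : Matrix α β F) (c : Matrix α γ F) (d : Matrix β α F)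
    (e : Matrix β β F) (f : Matrix β γ F) (g : Matrix γ α F) (h : Matrix γ β F) (i : Matrix γ γ F) :
    cT S (b3 a b c d e f g h i) =
      b3 (cT S a) (cT S d) (cT S g) (cT S b) (cT S e) (cT S h) (cT S c) (cT S f) (cT S i) := by
  ext (x | x | x) (y | y | y) <;> simp [b3, cT_apply]

theorem b3_one [DecidableEq α] [DecidableEq β] [DecidableEq γ] :
    b3 (1 : Matrix α α F) 0 0 0 (1 : Matrix β β F) 0 0 0 (1 : Matrix γ γ F) = 1 := by
  ext (x | x | x) (y | y | y) <;> simp [b3, Matrix.one_apply]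

theorem exists_b3 {α' β' γ' : Type} (M : Matrix (α' ⊕ (β' ⊕ γ')) (α ⊕ (β ⊕ γ)) F) :
    ∃ a b c d e f g h i, M = b3 a b c d e f g h i :=
  ⟨M.toBlocks₁₁, M.toBlocks₁₂.toCols₁, M.toBlocks₁₂.toCols₂, M.toBlocks₂₁.toRows₁,
    M.toBlocks₂₂.toBlocks₁₁, M.toBlocks₂₂.toBlocks₁₂, M.toBlocks₂₁.toRows₂,
    M.toBlocks₂₂.toBlocks₂₁, M.toBlocks₂₂.toBlocks₂₂, by
    ext (x | x | x) (y | y | y) <;> rfl⟩

theorem det_b3_upper [DecidableEq α] [DecidableEq β] [DecidableEq γ] (a : Matrix α α F)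
    (b : Matrix α β F) (c : Matrix α γ F) (e : Matrix β β F) (f : Matrix β γ F)
    (i : Matrix γ γ F) : (b3 a b c 0 e f 0 0 i).det = a.det * (e.det * i.det) := by
  rw [b3, fromRows_zero, det_fromBlocks_zero₂₁, det_fromBlocks_zero₂₁]

theorem det_b3_lower [DecidableEq α] [DecidableEq β] [DecidableEq γ] (a : Matrix α α F)
    (d : Matrix β α F) (e : Matrix β β F) (g : Matrix γ α F) (h : Matrix γ β F)
    (i : Matrix γ γ F) : (b3 a 0 0 d e 0 g h i).det = a.det * (e.det * i.det) := by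
  rw [b3, fromCols_zero, det_fromBlocks_zero₁₂, det_fromBlocks_zero₁₂]

end Cfsg.Agent.H31.OreSU
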