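/-
Products of two cyclic matrices in characteristic two, in a basis of two interleaved chains.
-/
import Cfsg.Agent.H60.Ore.Units

set_option autoImplicit false
set_option linter.unusedSectionVars false

namespace Cfsg.Agent.H31.OreSU

open Matrix Polynomial
open Cfsg.Agent.H60.Ore (Sim Cyc Hess compOf)

variable {F : Type*} [Field F]

/-- Even part. -/
noncomputable def evp (p : F[X]) : F[X] := contract 2 p

/-- Odd part. -/
noncomputable def odp (p : F[X]) : F[X] := contract 2 p.divX

theorem coeff_evp (p : F[X]) (i : ℕ) : (evp p).coeff i = p.coeff (2 * i) := by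
  rw [evp, coeff_contract two_ne_zero, mul_comm]

theorem coeff_odp (p : F[X]) (i : ℕ) : (odp p).coeff i = p.coeff (2 * i + 1) := by
  rw [odp, coeff_contract two_ne_zero, coeff_divX, mul_comm]

theorem evp_add (p r : F[X]) : evp (p + r) = evp p + evp r := by ext; simp [coeff_evp]

theorem odp_add (p r : F[X]) : odp (p + r) = odp p + odp r := by ext; simp [coeff_odp]

theorem evp_smul (a : F) (p : F[X]) : evp (C a * p) = C a * evp p := by ext; simp [coeff_evp]

theorem odp_smul (a : F) (p : F[X]) : odp (C a * p) = C a * odp p := by ext; simp [coeff_odp]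

theorem evp_X_mul (p : F[X]) : evp (X * p) = X * odp p := by
  ext (_ | i)
  · simp [coeff_evp]
  · rw [coeff_evp, coeff_X_mul, coeff_odp, show 2 * (i + 1) = (2 * i + 1) + 1 by ring, coeff_X_mul]

theorem odp_X_mul (p : F[X]) : odp (X * p) = evp p := by
  ext i
  rw [coeff_odp, coeff_X_mul, coeff_evp]

theorem split_even_odd (p : F[X]) : p = expand F 2 (evp p) + X * expand F 2 (odp p) := by
  ext n
  rw [coeff_add]
  rcases Nat.even_or_odd' n with ⟨i, rfl | rfl⟩
  · rw [mul_comm 2 i, coeff_expand_mul two_pos, coeff_evp, mul_comm 2 i]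
    rcases i with _ | i
    · simp
    · rw [show (i + 1) * 2 = (2 * i + 1) + 1 by ring, coeff_X_mul, coeff_expand two_pos,
        if_neg (by omega), add_zero]
  · rw [coeff_X_mul, coeff_expand two_pos, if_neg (by omega), mul_comm 2 i,
      coeff_expand_mul two_pos, coeff_odp, zero_add, mul_comm 2 i]

theorem evp_expand (p : F[X]) : evp (expand F 2 p) = p := contract_expand 2 two_ne_zero

theorem odp_expand (p : F[X]) : odp (expand F 2 p) = 0 := by
  ext i
  rw [coeff_odp, coeff_expand two_pos, if_neg (by omega), coeff_zero]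

theorem evp_mul (p r : F[X]) : evp (p * r) = evp p * evp r + X * (odp p * odp r) := by
  conv_lhs => rw [split_even_odd p, split_even_odd r]
  have h : (expand F 2 (evp p) + X * expand F 2 (odp p)) * (expand F 2 (evp r) + X * expand F 2 (odp r))
      = expand F 2 (evp p * evp r + X * (odp p * odp r)) +
        X * expand F 2 (evp p * odp r + odp p * evp r) := by
    simp only [map_add, map_mul, expand_X]
    ring
  rw [h, evp_add, evp_expand, evp_X_mul, odp_expand, mul_zero, add_zero]

variable {d : ℕ}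

/-- The coefficient vector. -/
def cvec (d : ℕ) (p : F[X]) : Fin d → F := fun i => p.coeff i.val

theorem cvec_add (p r : F[X]) : cvec d (p + r) = cvec d p + cvec d r := by ext; simp [cvec]

theorem cvec_smul (a : F) (p : F[X]) : cvec d (C a * p) = a • cvec d p := by ext; simp [cvec]

theorem cvec_X_pow {j : ℕ} (hj : j < d) : cvec d (X ^ j : F[X]) = Pi.single ⟨j, hj⟩ 1 := by
  ext i
  simp [cvec, coeff_X_pow, Pi.single_apply, Fin.ext_iff]

theorem compOf_mulVec {f : F[X]} (hd : 0 < d) (hf : f.coeff d = 1) (p : F[X]) (hp : p.natDegree < d) :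
    compOf d f *ᵥ cvec d p = cvec d (X * p - C (p.coeff (d - 1)) * f) := by
  obtain ⟨n, rfl⟩ : ∃ n, d = n + 1 := ⟨d - 1, by omega⟩
  funext i
  have h := H60.Ore.comp_mul_apply (fun i : Fin (n + 1) => -f.coeff i.val)
    (Matrix.of fun (k : Fin (n + 1)) (_ : Fin 1) => cvec (n + 1) p k) i 0
  have h2 : (compOf (n + 1) f *ᵥ cvec (n + 1) p) i =
      (H60.Ore.comp (fun i : Fin (n + 1) => -f.coeff i.val) *
        Matrix.of fun (k : Fin (n + 1)) (_ : Fin 1) => cvec (n + 1) p k) i 0 := rfl
  rw [h2, h]
  simp only [cvec, Matrix.of_apply, Fin.val_last, Nat.add_sub_cancel, coeff_sub, coeff_C_mul]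
  rcases i with ⟨_ | k, hk⟩
  · simp; ring
  · simp; ring

/-- A product of two cyclic matrices whose charpoly is the even part of `P * (P + f + G)`. -/
theorem exists_chain (h2 : (2 : F) = 0) (hd : 2 ≤ d) {f G P : F[X]} (hf : f.Monic)
    (hfd : f.natDegree = d) (hG : G.Monic) (hGd : G.natDegree = d) (hP : P.Monic)
    (hPd : P.natDegree = d) (hP0 : P.coeff 0 = f.coeff 0) {H : F[X]} (hH : H.Monic)
    (hHd : H.natDegree = d) (hHe : evp (P * (P + f + G)) = H)
    (hco : ∀ π : F[X], Prime π → π ∣ evp P → π ∣ odp P → π ∣ evp (P + f + G) →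
      π ∣ X * odp (P + f + G) → False) :
    ∃ Y : Matrix (Fin d) (Fin d) F, Sim Y (compOf d G) ∧ Sim (compOf d f * Y) (compOf d H) := by
  classical
  have hneg : ∀ x : F, -x = x := fun x => by linear_combination -x * h2
  have hcd : ∀ p : F[X], p.Monic → p.natDegree = d → p.coeff d = 1 := fun p hp hpd => by
    rw [← hpd]; exact hp.coeff_natDegree
  have hhi : ∀ p : F[X], p.natDegree = d → ∀ k, d < k → p.coeff k = 0 := fun p hpd k hk =>
    coeff_eq_zero_of_natDegree_lt (hpd ▸ hk)
  have hc1 := hcd f hf hfd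
  have hc2 := hcd G hG hGd
  have hc3 := hcd P hP hPd
  have hbnd : ∀ p : F[X], (∀ k, d ≤ k → p.coeff k = 0) → p.natDegree < d := fun p hp => by
    rcases eq_or_ne p 0 with rfl | h0
    · simp; omega
    · by_contra hlt
      exact h0 (leadingCoeff_eq_zero.1 (hp _ (by omega)))
  set Γ : F[X] := (P + f).divX with hΓdef
  have hΓX : X * Γ = P + f := by
    have h1 := divX_mul_X_add (P + f)
    rw [coeff_add, hP0, show f.coeff 0 + f.coeff 0 = 0 by linear_combination f.coeff 0 * h2, map_zero,
      add_zero] at h1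
    rw [mul_comm]; exact h1
  have hΓhi : ∀ k, d - 1 ≤ k → Γ.coeff k = 0 := fun k hk => by
    rw [hΓdef, coeff_divX, coeff_add]
    rcases Nat.lt_or_ge (k + 1) (d + 1) with hlt | hge
    · rw [show k + 1 = d by omega, hc3, hc1]; linear_combination h2
    · rw [hhi P hPd _ (by omega), hhi f hfd _ (by omega), add_zero]
  set s : F := G.coeff (d - 1) + P.coeff (d - 1) + f.coeff (d - 1) with hs
  set w : F[X] := G + X ^ d + P + f with hw
  have hwhi : ∀ k, d ≤ k → w.coeff k = 0 := fun k hk => by
    rw [hw, coeff_add, coeff_add, coeff_add, coeff_X_pow]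
    rcases hk.lt_or_eq with hlt | rfl
    · rw [if_neg (by omega), hhi P hPd _ hlt, hhi f hfd _ hlt, hhi G hGd _ hlt]; simp
    · rw [if_pos rfl, hc1, hc2, hc3]; linear_combination 2 * h2
  have hwtop : w.coeff (d - 1) = s := by
    rw [hw, hs, coeff_add, coeff_add, coeff_add, coeff_X_pow, if_neg (by omega), add_zero]
  set δp : F[X] := w + C s * Γ with hδ
  have hδhi : ∀ k, d ≤ k → δp.coeff k = 0 := fun k hk => by
    rw [hδ, coeff_add, coeff_C_mul, hwhi k hk, hΓhi k (by omega), mul_zero, add_zero]
  set γp : F[X] := X ^ (d - 1) + Γ with hγ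
  have hγhi : ∀ k, d ≤ k → γp.coeff k = 0 := fun k hk => by
    rw [hγ, coeff_add, coeff_X_pow, if_neg (by omega), hΓhi k (by omega), add_zero]
  let Y : Matrix (Fin d) (Fin d) F := Matrix.of fun i j =>
    if j.val + 2 < d then (if i.val = j.val + 1 then 1 else 0)
    else if j.val + 2 = d then γp.coeff i.val else δp.coeff i.val
  have hYH : Hess Y := by
    refine ⟨fun i j hij => ?_, fun i j hij => ?_⟩
    · have hj : j.val + 2 < d := by omega
      simp [Y, hj, show ¬ i.val = j.val + 1 by omega]
    · by_cases hj : j.val + 2 < d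
      · simp [Y, hj, hij]
      · have hj' : j.val + 2 = d := by omega
        simp [Y, hj', γp, coeff_X_pow, show i.val = d - 1 by omega, hΓhi (d - 1) le_rfl]
  have hd1 : d - 1 < d := by omega
  have hd2 : d - 2 < d := by omega
  set e0 : Fin d → F := Pi.single ⟨0, by omega⟩ 1 with he0
  set e1 : Fin d → F := Pi.single ⟨1, by omega⟩ 1 with he1
  have hYcol : ∀ j (hj : j < d), Y *ᵥ cvec d (X ^ j) = fun i => Y i ⟨j, hj⟩ := fun j hj => by
    rw [cvec_X_pow hj, mulVec_single_one]; rfl
  have hYlow : ∀ j, j + 2 < d → Y *ᵥ cvec d (X ^ j) = cvec d (X ^ (j + 1)) := fun j hj => by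
    rw [hYcol j (by omega)]; funext i
    simp [Y, hj, cvec, coeff_X_pow]
  have hYγ : Y *ᵥ cvec d (X ^ (d - 2)) = cvec d γp := by
    rw [hYcol _ hd2]; funext i
    simp [Y, cvec, show d - 2 + 2 = d by omega]
  have hYδ : Y *ᵥ cvec d (X ^ (d - 1)) = cvec d δp := by
    rw [hYcol _ hd1]; funext i
    simp [Y, cvec, show ¬ d - 1 + 2 < d by omega, show ¬ d - 1 + 2 = d by omega]
  -- the first evaluation map
  have hYpow : ∀ j, j + 2 ≤ d → Y ^ j *ᵥ e0 = cvec d (X ^ j) := by
    intro j
    induction j with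
    | zero => intro; rw [pow_zero, one_mulVec, cvec_X_pow (by omega : 0 < d)]
    | succ j ih => intro hj; rw [pow_succ', ← mulVec_mulVec, ih (by omega), hYlow j (by omega)]
  let Ψ : F[X] →ₗ[F] (Fin d → F) :=
    { toFun := fun p => aeval Y p *ᵥ e0
      map_add' := fun p r => by simp [add_mulVec]
      map_smul' := fun a p => by simp [smul_mulVec] }
  have hΨX : ∀ p, Ψ (X * p) = Y *ᵥ Ψ p := fun p => by simp [Ψ, mulVec_mulVec]
  have hΨlow : ∀ p : F[X], (∀ k, d - 1 ≤ k → p.coeff k = 0) → Ψ p = cvec d p := by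
    intro p hp
    have hpd : p.natDegree < d - 1 + 1 := by
      by_contra hlt
      rcases eq_or_ne p 0 with rfl | h0
      · simp at hlt
      · exact h0 (leadingCoeff_eq_zero.1 (hp _ (by omega)))
    rw [p.as_sum_range' (d - 1 + 1) hpd, map_sum]
    have : cvec d (∑ i ∈ Finset.range (d - 1 + 1), monomial i (p.coeff i)) =
        ∑ i ∈ Finset.range (d - 1 + 1), cvec d (monomial i (p.coeff i)) := by
      funext k; simp [cvec, Finset.sum_apply]
    rw [this]
    refine Finset.sum_congr rfl fun i hi => ?_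
    by_cases hi' : i + 2 ≤ d
    · rw [← C_mul_X_pow_eq_monomial, cvec_smul, ← hYpow i hi']
      simp [Ψ, ← Algebra.smul_def, smul_mulVec]
    · rw [hp i (by omega)]; simp; funext k; simp [cvec]
  have hΨγ : Ψ γp = cvec d (X ^ (d - 1)) := by
    rw [hγ, map_add, hΨlow Γ hΓhi, show (X : F[X]) ^ (d - 1) = X * X ^ (d - 2) by
      rw [← pow_succ']; congr 1; omega, hΨX]
    rw [show Ψ (X ^ (d - 2)) = cvec d (X ^ (d - 2)) by simpa [Ψ] using hYpow (d - 2) (by omega), hYγ,
      hγ, cvec_add, add_assoc, show cvec d Γ + cvec d Γ = 0 by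
        funext k; simp only [Pi.add_apply, Pi.zero_apply]; linear_combination cvec d Γ k * h2,
      add_zero, ← pow_succ', show d - 2 + 1 = d - 1 by omega]
  have hδ' : ∀ k, d - 1 ≤ k → (δp + C s * X ^ (d - 1)).coeff k = 0 := fun k hk => by
    rw [coeff_add, coeff_C_mul, coeff_X_pow]
    rcases hk.lt_or_eq with hlt | rfl
    · rw [hδhi k (by omega), if_neg (by omega)]; simp
    · rw [if_pos rfl, hδ, coeff_add, coeff_C_mul, hwtop, hΓhi _ le_rfl]
      linear_combination s * h2
  have hΨG : Ψ G = 0 := by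
    have hG' : G = (X * γp + C s * γp) + (δp + C s * X ^ (d - 1)) := by
      have hx : X * γp = X ^ d + P + f := by
        rw [hγ, mul_add, hΓX, ← pow_succ', show d - 1 + 1 = d by omega, add_assoc]
      have h20 : (2 : F[X]) = 0 := by
        rw [show (2 : F[X]) = C 2 from (map_ofNat C 2).symm, h2, map_zero]
      rw [hx, hδ, hγ, hw]
      linear_combination -(X ^ d + P + f + C s * X ^ (d - 1) + C s * Γ) * h20
    have hsm : ∀ p, Ψ (C s * p) = s • Ψ p := fun p => by rw [← smul_eq_C_mul, map_smul]
    rw [hG', map_add, map_add, hΨlow _ hδ', hΨX, hsm, hΨγ, hYδ, cvec_add δp, cvec_smul]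
    funext k
    simp only [Pi.add_apply, Pi.smul_apply, smul_eq_mul, Pi.zero_apply]
    linear_combination (cvec d δp k + s * cvec d (X ^ (d - 1)) k) * h2
  refine ⟨Y, Cyc.sim hYH.cyc (H60.Ore.cyc_compOf _ _) ?_, ?_⟩
  · rw [H60.Ore.charpoly_compOf hG hGd]
    exact hYH.charpoly_eq (by omega) hG hGd hΨG
  -- the product
  set D := compOf d f * Y with hD
  have hXm : ∀ p : F[X], (∀ k, d ≤ k → p.coeff k = 0) →
      compOf d f *ᵥ cvec d p = cvec d (X * p + C (p.coeff (d - 1)) * f) := fun p hp => by
    rw [compOf_mulVec (by omega) hc1 p (hbnd p hp)]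
    funext k; simp [cvec, sub_eq_add_neg, hneg]
  have hDlow : ∀ j, j + 2 < d → D *ᵥ cvec d (X ^ j) = cvec d (X ^ (j + 2)) := fun j hj => by
    rw [hD, ← mulVec_mulVec, hYlow j hj, hXm _ fun k hk => by rw [coeff_X_pow, if_neg (by omega)]]
    rw [coeff_X_pow, if_neg (by omega), map_zero, zero_mul, add_zero, ← pow_succ']
  have hDγ : D *ᵥ cvec d (X ^ (d - 2)) = cvec d P := by
    rw [hD, ← mulVec_mulVec, hYγ, hXm γp hγhi, hγ, coeff_add, coeff_X_pow, if_pos rfl,
      hΓhi _ le_rfl, add_zero, map_one, one_mul, mul_add, hΓX, ← pow_succ',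
      show d - 1 + 1 = d by omega]
    funext k
    simp [cvec, coeff_X_pow, show ¬ k.val = d by omega]
    linear_combination f.coeff k * h2
  have hDδ : D *ᵥ cvec d (X ^ (d - 1)) = cvec d (X * w + C s * P) := by
    rw [hD, ← mulVec_mulVec, hYδ, hXm δp hδhi]
    have : δp.coeff (d - 1) = s := by
      rw [hδ, coeff_add, coeff_C_mul, hwtop, hΓhi _ le_rfl, mul_zero, add_zero]
    rw [this, hδ, mul_add, mul_left_comm, hΓX]
    funext k
    simp [cvec, mul_add]
    linear_combination s * f.coeff k * h2
  let Φ : F[X] →ₗ[F] (Fin d → F) :=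
    { toFun := fun p => aeval D (evp p) *ᵥ e0 + aeval D (odp p) *ᵥ e1
      map_add' := fun p r => by simp [evp_add, odp_add, add_mulVec]; abel
      map_smul' := fun a p => by
        simp [smul_eq_C_mul, evp_smul, odp_smul, ← Algebra.smul_def, smul_mulVec, smul_add] }
  have hΦX : ∀ p, Φ (X * (X * p)) = D *ᵥ Φ p := fun p => by
    simp [Φ, evp_X_mul, odp_X_mul, mulVec_mulVec, mulVec_add]
  have hΦpow : ∀ j, j < d → Φ (X ^ j) = cvec d (X ^ j) := by
    intro j
    induction j using Nat.twoStepInduction with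
    | zero =>
      intro _
      have a1 : evp (1 : F[X]) = 1 := by ext i; simp [coeff_evp, coeff_one]
      have a2 : odp (1 : F[X]) = 0 := by ext i; simp [coeff_odp, coeff_one]
      rw [cvec_X_pow (by omega : 0 < d), pow_zero]
      change aeval D (evp 1) *ᵥ e0 + aeval D (odp 1) *ᵥ e1 = _
      rw [a1, a2, map_one, map_zero, one_mulVec, zero_mulVec, add_zero]
    | one =>
      intro _
      have a1 : evp (X : F[X]) = 0 := by ext i; simp [coeff_evp, coeff_X]; omega
      have a2 : odp (X : F[X]) = 1 := by ext i; simp [coeff_odp, coeff_X, coeff_one, eq_comm]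
      rw [cvec_X_pow (by omega : 1 < d), pow_one]
      change aeval D (evp X) *ᵥ e0 + aeval D (odp X) *ᵥ e1 = _
      rw [a1, a2, map_one, map_zero, one_mulVec, zero_mulVec, zero_add]
    | more j ih _ =>
      intro hj
      rw [show (X : F[X]) ^ (j + 2) = X * (X * X ^ j) by ring, hΦX, ih (by omega), hDlow j (by omega)]
      congr 1; ring
  have hΦlow : ∀ p : F[X], (∀ k, d ≤ k → p.coeff k = 0) → Φ p = cvec d p := by
    intro p hp
    rw [p.as_sum_range' d (hbnd p hp), map_sum]
    funext k
    rw [Finset.sum_apply]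
    simp only [cvec, finsetSum_coeff]
    refine Finset.sum_congr rfl fun i hi => ?_
    rw [← C_mul_X_pow_eq_monomial, ← smul_eq_C_mul, map_smul, hΦpow i (Finset.mem_range.1 hi)]
    simp [cvec]
  have hΦd : Φ (X ^ d) = cvec d P := by
    rw [show (X : F[X]) ^ d = X * (X * X ^ (d - 2)) by rw [← pow_succ', ← pow_succ']; congr 1; omega,
      hΦX, hΦpow _ hd2, hDγ]
  have hrel1 : Φ P = 0 := by
    have : P = X ^ d + (P + X ^ d) := by
      ext k; simp only [coeff_add]; linear_combination -((X : F[X]) ^ d).coeff k * h2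
    rw [this, map_add, hΦd, hΦlow _ fun k hk => by
      rw [coeff_add, coeff_X_pow]
      rcases hk.lt_or_eq with hlt | rfl
      · rw [hhi P hPd _ hlt, if_neg (by omega), add_zero]
      · rw [hc3, if_pos rfl]; linear_combination h2]
    funext k
    simp [cvec, coeff_X_pow, show ¬ k.val = d by omega]
    linear_combination P.coeff k * h2
  set Q : F[X] := P + f + G with hQ
  have hXw : ∀ k, d ≤ k → (X * w + C s * P).coeff k = 0 := fun k hk => by
    obtain ⟨n, rfl⟩ : ∃ n, k = n + 1 := ⟨k - 1, by omega⟩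
    rw [coeff_add, coeff_X_mul, coeff_C_mul]
    rcases hk.lt_or_eq with hlt | heq
    · rw [hwhi n (by omega), hhi P hPd _ hlt]; simp
    · rw [show n = d - 1 by omega, hwtop, show d - 1 + 1 = d by omega, hc3]
      linear_combination s * h2
  have hrel2 : Φ (X * Q) = 0 := by
    have hsplit : X * Q = X * (X * X ^ (d - 1)) + ((X * w + C s * P) + C s * P) := by
      rw [show X * X ^ (d - 1) = (X : F[X]) ^ d by rw [← pow_succ']; congr 1; omega]
      ext k
      rcases k with _ | k
      · simp; linear_combination -(s * P.coeff 0) * h2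
      · simp [hQ, hw, mul_add]
        linear_combination -((if k = d then (1 : F) else 0) + s * P.coeff (k + 1)) * h2
    rw [hsplit, map_add, map_add, hΦX, hΦpow _ hd1, hDδ, hΦlow _ hXw,
      ← smul_eq_C_mul, map_smul, hrel1, smul_zero, add_zero]
    funext k; simp only [Pi.add_apply, Pi.zero_apply]
    linear_combination cvec d (X * w + s • P) k * h2
  -- a cyclic vector
  have hdet : evp P * evp Q + X * (odp P * odp Q) = H := by rw [← hHe, evp_mul]
  have r1 : aeval D (evp P) *ᵥ e0 + aeval D (odp P) *ᵥ e1 = 0 := hrel1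
  have r2 : aeval D (X * odp Q) *ᵥ e0 + aeval D (evp Q) *ᵥ e1 = 0 := by
    have h' : aeval D (evp (X * Q)) *ᵥ e0 + aeval D (odp (X * Q)) *ᵥ e1 = 0 := hrel2
    rwa [evp_X_mul, odp_X_mul] at h'
  let lam : F[X] := ((UniqueFactorizationMonoid.normalizedFactors H).toFinset.filter
    fun π => ¬(π ∣ evp P ∧ π ∣ odp P)).prod id
  set u := evp P + lam * (X * odp Q) with hu
  set v := odp P + lam * evp Q with hv
  have hH0 : H ≠ 0 := hH.ne_zero
  have hcop : IsCoprime u v := by
    refine isCoprime_of_prime_dvd (fun h0 => ?_) fun π hπ hπu hπv => ?_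
    · refine hH0 ?_
      have h20 : (2 : F[X]) = 0 := by
        rw [show (2 : F[X]) = C 2 from (map_ofNat C 2).symm, h2, map_zero]
      obtain ⟨e1', e2'⟩ := h0
      rw [← hdet]
      linear_combination evp Q * e1' + X * odp Q * e2' - lam * (X * odp Q * evp Q) * h20
    · have hπH : π ∣ H := by
        rw [← hdet]
        have h20 : (2 : F[X]) = 0 := by
          rw [show (2 : F[X]) = C 2 from (map_ofNat C 2).symm, h2, map_zero]
        have : evp P * evp Q + X * (odp P * odp Q) = u * evp Q + v * (X * odp Q) := by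
          rw [hu, hv]; linear_combination -(lam * X * odp Q * evp Q) * h20
        rw [this]; exact dvd_add (hπu.mul_right _) (hπv.mul_right _)
      set π' := normalize π
      have ha : Associated π π' := associated_normalize π
      have hmem : π' ∈ UniqueFactorizationMonoid.normalizedFactors H := by
        obtain ⟨x, hx, hax⟩ :=
          UniqueFactorizationMonoid.exists_mem_normalizedFactors_of_dvd hH0 hπ.irreducible hπH
        rw [show π' = x by rw [← UniqueFactorizationMonoid.normalize_normalized_factor x hx]; exact normalize_eq_normalize hax.dvd hax.symm.dvd]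
        exact hx
      by_cases hboth : π' ∣ evp P ∧ π' ∣ odp P
      · have hnl : ¬ π ∣ lam := by
          intro hl
          obtain ⟨x, hx, hdx⟩ := (hπ.dvd_finsetProd_iff _).1 hl
          simp only [Finset.mem_filter, Multiset.mem_toFinset] at hx
          have hxp := UniqueFactorizationMonoid.prime_of_normalized_factor x hx.1
          have : x = π' := by
            rw [← UniqueFactorizationMonoid.normalize_normalized_factor x hx.1]
            exact normalize_eq_normalize ((hπ.associated_of_dvd hxp hdx).symm.dvd)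
              ((hπ.associated_of_dvd hxp hdx).dvd)
          exact hx.2 (this ▸ hboth)
        have hp1 : π ∣ evp P := ha.dvd.trans hboth.1
        have hp2 : π ∣ odp P := ha.dvd.trans hboth.2
        refine hco π hπ hp1 hp2 ?_ ?_
        · exact ((hπ.dvd_or_dvd ((dvd_add_right hp2).1 hπv)).resolve_left hnl)
        · exact ((hπ.dvd_or_dvd ((dvd_add_right hp1).1 hπu)).resolve_left hnl)
      · have hl : π ∣ lam := ha.dvd.trans (Finset.dvd_prod_of_mem id (Finset.mem_filter.2
          ⟨Multiset.mem_toFinset.2 hmem, hboth⟩))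
        exact hboth ⟨ha.symm.dvd.trans ((dvd_add_left (hl.mul_right _)).1 hπu),
          ha.symm.dvd.trans ((dvd_add_left (hl.mul_right _)).1 hπv)⟩
  obtain ⟨a, b, hab⟩ := hcop
  have rl : aeval D u *ᵥ e0 + aeval D v *ᵥ e1 = 0 := by
    rw [hu, hv, map_add, map_add, map_mul (aeval D) lam, map_mul (aeval D) lam, add_mulVec,
      add_mulVec, ← mulVec_mulVec, ← mulVec_mulVec, add_add_add_comm, r1, ← mulVec_add, r2,
      mulVec_zero, add_zero]
  set z : Fin d → F := aeval D b *ᵥ e0 + aeval D a *ᵥ e1 with hz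
  have hneg' : ∀ x : Fin d → F, x + x = 0 := fun x => by
    funext k; simp only [Pi.add_apply, Pi.zero_apply]; linear_combination x k * h2
  have hcomm : ∀ p r : F[X], ∀ x : Fin d → F,
      aeval D p *ᵥ (aeval D r *ᵥ x) = aeval D (p * r) *ᵥ x := fun p r x => by
    rw [mulVec_mulVec, map_mul]
  have rla : ∀ p : F[X], aeval D (p * u) *ᵥ e0 + aeval D (p * v) *ᵥ e1 = 0 := fun p => by
    rw [← hcomm, ← hcomm, ← mulVec_add, rl, mulVec_zero]
  have hv0 : aeval D v *ᵥ z = e0 := by
    have e : v * b = 1 + a * u + 0 := by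
      have h20 : (2 : F[X]) = 0 := by
        rw [show (2 : F[X]) = C 2 from (map_ofNat C 2).symm, h2, map_zero]
      linear_combination hab - (a * u) * h20
    rw [hz, mulVec_add, hcomm, hcomm, e, add_zero, map_add, map_one, add_mulVec, one_mulVec,
      mul_comm v a, add_assoc, rla, add_zero]
  have hu1 : aeval D u *ᵥ z = e1 := by
    have e : u * a = 1 + b * v := by
      have h20 : (2 : F[X]) = 0 := by
        rw [show (2 : F[X]) = C 2 from (map_ofNat C 2).symm, h2, map_zero]
      linear_combination hab - (b * v) * h20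
    rw [hz, mulVec_add, hcomm, hcomm, e, map_add (aeval D) 1, map_one, add_mulVec, one_mulVec,
      mul_comm u b, add_left_comm, rla, add_zero]
  have hgen : ∀ x : Fin d → F, ∃ p : F[X], aeval D p *ᵥ z = x := by
    intro x
    let px : F[X] := ∑ i : Fin d, C (x i) * X ^ i.val
    have hpc : cvec d px = x := by
      funext k
      simp [cvec, px, finsetSum_coeff, coeff_X_pow, Fin.val_inj]
    have hphi : ∀ k, d ≤ k → px.coeff k = 0 := fun k hk => by
      simp only [px, finsetSum_coeff]
      refine Finset.sum_eq_zero fun i _ => ?_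
      rw [coeff_C_mul, coeff_X_pow, if_neg (by omega), mul_zero]
    refine ⟨evp px * v + odp px * u, ?_⟩
    rw [map_add, add_mulVec, ← hcomm, ← hcomm, hv0, hu1, ← hpc, ← hΦlow px hphi]
    rfl
  have hann : aeval D H = 0 := by
    have hH0' : aeval D H *ᵥ e0 = 0 := by
      have h1 := congrArg (fun x => aeval D (evp Q) *ᵥ x) r1
      have h2' := congrArg (fun x => aeval D (odp P) *ᵥ x) r2
      simp only [mulVec_add, hcomm, mulVec_zero] at h1 h2'
      have h3 := congrArg₂ (· + ·) h1 h2'
      rw [show evp Q * odp P = odp P * evp Q from mul_comm _ _, add_zero] at h3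
      rw [← hdet, map_add, add_mulVec]
      rw [mul_comm (evp P), show X * (odp P * odp Q) = odp P * (X * odp Q) by ring]
      rw [add_add_add_comm, hneg', add_zero] at h3
      exact h3
    have hH1' : aeval D H *ᵥ e1 = 0 := by
      have h1 := congrArg (fun x => aeval D (X * odp Q) *ᵥ x) r1
      have h2' := congrArg (fun x => aeval D (evp P) *ᵥ x) r2
      simp only [mulVec_add, hcomm, mulVec_zero] at h1 h2'
      have h3 := congrArg₂ (· + ·) h1 h2'
      rw [show X * odp Q * evp P = evp P * (X * odp Q) from mul_comm _ _, add_zero,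
        add_add_add_comm, hneg', zero_add] at h3
      rw [← hdet, map_add, add_mulVec, show X * (odp P * odp Q) = X * odp Q * odp P by ring,
        add_comm]
      exact h3
    have hHz : aeval D H *ᵥ z = 0 := by
      rw [hz, mulVec_add, hcomm, hcomm, mul_comm H, mul_comm H, ← hcomm, ← hcomm, hH0', hH1',
        mulVec_zero, mulVec_zero, add_zero]
    refine Matrix.ext_of_mulVec_single fun k => ?_
    obtain ⟨p, hp⟩ := hgen (Pi.single k 1)
    rw [← hp, hcomm, mul_comm, ← hcomm, hHz, mulVec_zero, zero_mulVec]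
  let K : Fin d → Fin d → F := fun i => aeval D (X ^ i.val : F[X]) *ᵥ z
  have hspan : ⊤ ≤ Submodule.span F (Set.range K) := by
    intro x _
    obtain ⟨p, rfl⟩ := hgen x
    have hred : aeval D p *ᵥ z = aeval D (p %ₘ H) *ᵥ z := by
      conv_lhs => rw [← modByMonic_add_div p H]
      rw [map_add, map_mul, hann, zero_mul, add_zero]
    rw [hred]
    have hlt : (p %ₘ H).natDegree < d := by
      have := natDegree_modByMonic_lt p hH (fun e => by rw [e] at hHd; simp at hHd; omega)
      omega
    rw [(p %ₘ H).as_sum_range' d hlt, map_sum, Matrix.sum_mulVec]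
    refine Submodule.sum_mem _ fun i hi => ?_
    rw [aeval_monomial, ← Algebra.smul_def, smul_mulVec]
    exact Submodule.smul_mem _ _ (Submodule.subset_span ⟨⟨i, Finset.mem_range.1 hi⟩, by simp [K]⟩)
  have hli : LinearIndependent F K := linearIndependent_of_top_le_span_of_card_eq_finrank hspan
    (by simp)
  have hcyc : Cyc D := by
    refine H60.Ore.cyc_of_small z fun R hRd hR => ?_
    rw [Fintype.card_fin] at hRd
    have hRhi : ∀ k, d ≤ k → R.coeff k = 0 := fun k hk =>
      coeff_eq_zero_of_degree_lt (hRd.trans_le (by exact_mod_cast hk))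
    refine Polynomial.ext fun k => ?_
    rw [coeff_zero]
    rcases Nat.lt_or_ge k d with hk | hk
    swap
    · exact hRhi k hk
    rw [R.as_sum_range' d (hbnd R hRhi), map_sum, Matrix.sum_mulVec, Finset.sum_range] at hR
    exact Fintype.linearIndependent_iff.1 hli (fun i => R.coeff i.val) (by
      rw [← hR]
      refine Finset.sum_congr rfl fun i _ => ?_
      simp [K, aeval_monomial, ← Algebra.smul_def, smul_mulVec]) ⟨k, hk⟩
  refine Cyc.sim hcyc (H60.Ore.cyc_compOf _ _) ?_
  rw [H60.Ore.charpoly_compOf hH hHd]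
  obtain ⟨v', hv'⟩ := hcyc
  refine (eq_of_monic_of_dvd_of_natDegree_le (charpoly_monic D) hH (hv' H ?_) ?_).symm
  · rw [hann, zero_mulVec]
  · rw [hHd, charpoly_natDegree_eq_dim, Fintype.card_fin]

end Cfsg.Agent.H31.OreSU
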