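/-
Hermitian form of a matrix, adjoints of polynomials in an isometry of finite order.
-/
import Cfsg.Agent.H31.OreSU.Basic

set_option autoImplicit false
set_option linter.unusedSectionVars false

namespace Cfsg.Agent.H31.OreSU

open Matrix Polynomial

variable {F : Type*} [Field F] (S : UConj F)
variable {ι : Type} [Fintype ι] [DecidableEq ι]

/-- The form of the matrix `J`. -/
def hf (J : Matrix ι ι F) (x y : ι → F) : F := (fun i => S.σ (y i)) ⬝ᵥ (J *ᵥ x)

variable {J : Matrix ι ι F}

theorem hf_add_left (x x' y : ι → F) : hf S J (x + x') y = hf S J x y + hf S J x' y := by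
  simp [hf, Matrix.mulVec_add, dotProduct_add]

theorem hf_smul_left (c : F) (x y : ι → F) : hf S J (c • x) y = c * hf S J x y := by
  simp [hf, Matrix.mulVec_smul, dotProduct_smul]

theorem hf_add_right (x y y' : ι → F) : hf S J x (y + y') = hf S J x y + hf S J x y' := by
  rw [hf, hf, hf, ← add_dotProduct]
  congr 1; funext i; simp

theorem hf_smul_right (c : F) (x y : ι → F) : hf S J x (c • y) = S.σ c * hf S J x y := by
  rw [hf, hf, show (fun i => S.σ ((c • y) i)) = S.σ c • fun i => S.σ (y i) by funext i; simp,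
    smul_dotProduct, smul_eq_mul]

@[simp] theorem hf_zero_left (y : ι → F) : hf S J 0 y = 0 := by simp [hf]

@[simp] theorem hf_zero_right (x : ι → F) : hf S J x 0 = 0 := by simp [hf, dotProduct]

theorem hf_mulVec_left (A : Matrix ι ι F) (x y : ι → F) :
    hf S J (A *ᵥ x) y = hf S (J * A) x y := by simp [hf, Matrix.mulVec_mulVec]

theorem hf_mulVec_right (A : Matrix ι ι F) (x y : ι → F) :
    hf S J x (A *ᵥ y) = hf S (cT S A * J) x y := by
  have : (fun i => S.σ ((A *ᵥ y) i)) = Matrix.vecMul (fun i => S.σ (y i)) (cT S A) := by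
    funext i; simp [Matrix.mulVec, Matrix.vecMul, dotProduct, cT_apply, map_sum, mul_comm]
  simp only [hf, this]
  rw [← Matrix.dotProduct_mulVec, Matrix.mulVec_mulVec]

theorem hf_conj (hJ : cT S J = J) (x y : ι → F) : S.σ (hf S J x y) = hf S J y x := by
  have hj : ∀ i j, S.σ (J i j) = J j i := fun i j => by
    conv_rhs => rw [← hJ, cT_apply]
  simp only [hf, dotProduct, Matrix.mulVec, Finset.mul_sum, map_sum, map_mul, S.inv, hj]
  rw [Finset.sum_comm]
  exact Finset.sum_congr rfl fun i _ => Finset.sum_congr rfl fun j _ => by ring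

/-- A vector orthogonal to everything vanishes. -/
theorem hf_nondeg (hJ : IsUnit J.det) (x : ι → F) (h : ∀ y, hf S J x y = 0) : x = 0 := by
  have hx : J *ᵥ x = 0 := by
    funext i
    have := h (Pi.single i 1)
    simpa [hf, dotProduct, Pi.single_apply, apply_ite] using this
  exact Matrix.mulVec_injective_of_isUnit ((Matrix.isUnit_iff_isUnit_det _).2 hJ)
    (hx.trans (Matrix.mulVec_zero _).symm)

/-- A form vanishing on the diagonal vanishes. -/
theorem hf_polar (K : Matrix ι ι F) (h : ∀ x, hf S K x x = 0) : K = 0 := by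
  have hB : ∀ x y, hf S K x y = 0 := by
    intro x y
    obtain ⟨c, hc⟩ := S.ne
    have e1 := h (x + y)
    rw [hf_add_left, hf_add_right, hf_add_right, h x, h y, zero_add, add_zero] at e1
    have e2 := h (c • x + y)
    rw [hf_add_left, hf_add_right, hf_add_right, h y, add_zero, hf_smul_left, hf_smul_right,
      h x, mul_zero, mul_zero, zero_add, hf_smul_left, hf_smul_right] at e2
    refine (mul_eq_zero.1 (show (c - S.σ c) * hf S K x y = 0 by linear_combination e2 - S.σ c * e1)).resolve_left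
      (sub_ne_zero.2 (Ne.symm hc))
  ext i j
  have := hB (Pi.single j 1) (Pi.single i 1)
  simpa [hf, dotProduct, Matrix.mulVec, Pi.single_apply, apply_ite] using this

/-- The polynomial giving the adjoint. -/
noncomputable def tau (N0 : ℕ) : F[X] →+* F[X] :=
  Polynomial.eval₂RingHom (C.comp S.σ) (X ^ (N0 - 1))

@[simp] theorem tau_C (N0 : ℕ) (a : F) : tau S N0 (C a) = C (S.σ a) := by simp [tau]

@[simp] theorem tau_X (N0 : ℕ) : tau S N0 X = (X : F[X]) ^ (N0 - 1) := by simp [tau]

theorem tau_tau {N0 : ℕ} (hN : 0 < N0) {p : F[X]} (hp : p ∣ X ^ N0 - 1) (q : F[X]) :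
    p ∣ tau S N0 (tau S N0 q) - q := by
  rw [← AdjoinRoot.mk_eq_mk]
  revert q
  suffices ((AdjoinRoot.mk p).comp ((tau S N0).comp (tau S N0))) = AdjoinRoot.mk p from
    fun q => RingHom.congr_fun this q
  refine Polynomial.ringHom_ext (fun a => by simp [S.inv]) ?_
  simp only [RingHom.comp_apply, tau_X, map_pow, ← pow_mul]
  have h1 : (AdjoinRoot.root p) ^ N0 = 1 := by
    have := AdjoinRoot.mk_eq_zero.2 hp
    rwa [map_sub, map_pow, AdjoinRoot.mk_X, map_one, sub_eq_zero] at this
  rw [AdjoinRoot.mk_X]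
  obtain ⟨m, rfl⟩ : ∃ m, N0 = m + 1 := ⟨N0 - 1, by omega⟩
  rcases m with _ | m
  · simpa using h1.symm
  · rw [show (m + 1 + 1 - 1) * (m + 1 + 1 - 1) = (m + 1 + 1) * m + 1 by
        simp only [Nat.add_sub_cancel]; ring, pow_add, pow_mul, h1, one_pow, one_mul, pow_one]

theorem cT_pow (A : Matrix ι ι F) (k : ℕ) : cT S (A ^ k) = cT S A ^ k := by
  induction k with
  | zero => simp
  | succ k ih => rw [pow_succ, pow_succ', cT_mul, ih]

/-- Adjoint of a polynomial in an isometry. -/
theorem cT_aeval {g : GL ι F} (hg : g ∈ U S J) {N0 : ℕ} (hN : 0 < N0) (hg1 : g ^ N0 = 1) (p : F[X]) :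
    cT S (aeval (g : Matrix ι ι F) p) * J = J * aeval (g : Matrix ι ι F) (tau S N0 p) := by
  induction p using Polynomial.induction_on' with
  | add p r hp hr => rw [map_add, cT_add, Matrix.add_mul, hp, hr, map_add, map_add, Matrix.mul_add]
  | monomial k a =>
    have hk : cT S (((g ^ k : GL ι F) : Matrix ι ι F)) * J =
        J * ((g ^ (k * (N0 - 1)) : GL ι F) : Matrix ι ι F) := by
      have hm := (mem_U S).1 ((U S J).pow_mem hg k)
      have hinv : (g ^ k) * g ^ (k * (N0 - 1)) = 1 := by
        rw [← pow_add, show k + k * (N0 - 1) = N0 * k by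
          obtain ⟨m, rfl⟩ : ∃ m, N0 = m + 1 := ⟨N0 - 1, by omega⟩
          simp only [Nat.add_sub_cancel]; ring, pow_mul, hg1, one_pow]
      calc cT S ((g ^ k : GL ι F) : Matrix ι ι F) * J
          = cT S ((g ^ k : GL ι F) : Matrix ι ι F) * J *
              (((g ^ k : GL ι F) : Matrix ι ι F) * ((g ^ (k * (N0 - 1)) : GL ι F) : Matrix ι ι F)) := by
            rw [← Units.val_mul, hinv, Units.val_one, Matrix.mul_one]
        _ = _ := by rw [← Matrix.mul_assoc, hm]
    rw [← C_mul_X_pow_eq_monomial, map_mul (tau S N0), map_pow, tau_C, tau_X, ← pow_mul,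
      map_mul, map_mul, aeval_C, aeval_C, map_pow, map_pow, aeval_X, ← Algebra.smul_def,
      ← Algebra.smul_def, cT_smul, Matrix.smul_mul, Matrix.mul_smul, ← Units.val_pow_eq_pow_val,
      ← Units.val_pow_eq_pow_val, hk, mul_comm k]

theorem hf_adj {g : GL ι F} (hg : g ∈ U S J) {N0 : ℕ} (hN : 0 < N0) (hg1 : g ^ N0 = 1) (p : F[X])
    (x y : ι → F) :
    hf S J x (aeval (g : Matrix ι ι F) p *ᵥ y) =
      hf S J (aeval (g : Matrix ι ι F) (tau S N0 p) *ᵥ x) y := by
  rw [hf_mulVec_right, hf_mulVec_left, cT_aeval S hg hN hg1]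

end Cfsg.Agent.H31.OreSU
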