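/-
A non-degenerate cyclic subspace with at most two primes.
-/
import Cfsg.Agent.H31.OreSU.Herm

set_option autoImplicit false
set_option linter.unusedSectionVars false

namespace Cfsg.Agent.H31.OreSU

open Matrix Polynomial

variable {F : Type*} [Field F] [Finite F] (S : UConj F)
variable {ι : Type} [Fintype ι] [DecidableEq ι]

/-- Every prime divisor of `P` is one of the two given primes. -/
def Primes2 (P π π' : F[X]) : Prop :=
  ∀ x : F[X], Prime x → x ∣ P → Associated π x ∨ Associated π' x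

/-- A vector generating a non-degenerate cyclic subspace with annihilator `P`. -/
structure IsPiece (J : Matrix ι ι F) (g : GL ι F) (v : ι → F) (P : F[X]) : Prop where
  monic : P.Monic
  zero : aeval (g : Matrix ι ι F) P *ᵥ v = 0
  nondeg : ∀ p : F[X], (∀ q : F[X],
    hf S J (aeval (g : Matrix ι ι F) p *ᵥ v) (aeval (g : Matrix ι ι F) q *ᵥ v) = 0) → P ∣ p
  primes : ∃ π π' : F[X], Primes2 P π π'

omit [Finite F] in
/-- The degree of the component at one prime is at most that of the other. -/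
theorem part_le [Finite F] {N0 : ℕ} (hN : 0 < N0) {p P1 P2 : F[X]} (hp : p ∣ X ^ N0 - 1)
    (hτp : p ∣ tau S N0 p) (hP1 : P1 ∣ p) (hP1m : P1.Monic) (hP2m : P2.Monic)
    (h : P1 ∣ tau S N0 P2) : P1.natDegree ≤ P2.natDegree := by
  haveI := Fintype.ofFinite F
  let a := P1.natDegree
  let b := P2.natDegree
  let φ : (Fin a → F) → (Fin b → F) := fun r i =>
    ((tau S N0 (∑ j : Fin a, C (r j) * X ^ j.val)) %ₘ P2).coeff i.val
  have hinj : Function.Injective φ := by
    intro r r' hrr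
    set d : F[X] := (∑ j : Fin a, C (r j) * X ^ j.val) - ∑ j : Fin a, C (r' j) * X ^ j.val with hd
    have h1 : P2 ∣ tau S N0 d := by
      rw [← Polynomial.modByMonic_eq_zero_iff_dvd hP2m, hd, map_sub, sub_modByMonic, sub_eq_zero]
      ext i
      rcases Nat.lt_or_ge i b with hi | hi
      · exact congrFun hrr ⟨i, hi⟩
      · rcases eq_or_ne P2 1 with h1 | h1
        · simp [h1]
        · rw [coeff_eq_zero_of_natDegree_lt, coeff_eq_zero_of_natDegree_lt] <;>
            exact lt_of_lt_of_le (natDegree_modByMonic_lt _ hP2m h1) hi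
    have h2 : P1 ∣ tau S N0 (tau S N0 d) := h.trans (map_dvd (tau S N0) h1)
    have h3 : P1 ∣ d := (dvd_sub_right h2).1 (hP1.trans (tau_tau S hN hp d))
    funext i
    have h4 : d = 0 := by
      by_contra h0
      have hle := natDegree_le_of_dvd h3 h0
      have hlt : d.natDegree < a := by
        have hs : ∀ r : Fin a → F, (∑ j : Fin a, C (r j) * X ^ j.val : F[X]).degree < (a : ℕ) := fun r =>
          (degree_sum_le _ _).trans_lt ((Finset.sup_lt_iff (WithBot.bot_lt_coe a)).2 fun j _ =>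
            (degree_C_mul_X_pow_le _ _).trans_lt (WithBot.coe_lt_coe.2 j.isLt))
        rw [natDegree_lt_iff_degree_lt h0]
        exact (degree_sub_le _ _).trans_lt (max_lt (hs r) (hs r'))
      exact absurd hle (not_le.2 hlt)
    have h5 := congrArg (fun q => coeff q i.val) h4
    simp only [hd, coeff_sub, finsetSum_coeff, coeff_C_mul_X_pow, coeff_zero, Fin.val_inj] at h5
    simpa [sub_eq_zero] using h5
  have := Fintype.card_le_of_injective φ hinj
  rw [Fintype.card_fun, Fintype.card_fun, Fintype.card_fin, Fintype.card_fin] at this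
  exact (Nat.pow_le_pow_iff_right Fintype.one_lt_card).1 this

theorem exists_piece [Nonempty ι] {J : Matrix ι ι F} (hJ : IsUnit J.det) (hJh : cT S J = J) {g : GL ι F}
    (hg : g ∈ U S J) :
    ∃ v P, IsPiece S J g v P ∧ 1 ≤ P.natDegree ∧
      (Odd P.natDegree → ∃ π : F[X], Primes2 P π π) := by
  classical
  haveI := Fintype.ofFinite F
  set G : Matrix ι ι F := (g : Matrix ι ι F)
  set N0 := orderOf g
  have hN : 0 < N0 := orderOf_pos g
  have hg1 : g ^ N0 = 1 := pow_orderOf_eq_one g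
  set p := minpoly F G
  have hpm : p.Monic := minpoly.monic (Matrix.isIntegral G)
  have hp0 : p ≠ 0 := hpm.ne_zero
  have hpe : aeval G p = 0 := minpoly.aeval F G
  have hGN : aeval G (X ^ N0 - 1 : F[X]) = 0 := by
    rw [map_sub, map_pow, aeval_X, map_one, ← Units.val_pow_eq_pow_val, hg1, Units.val_one, sub_self]
  have hp : p ∣ X ^ N0 - 1 := minpoly.dvd F G hGN
  have hτp : p ∣ tau S N0 p := by
    refine minpoly.dvd F G ?_
    have h1 := cT_aeval S hg hN hg1 p
    rw [hpe, cT_zero, Matrix.zero_mul] at h1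
    have h2 := congrArg (fun M => J⁻¹ * M) h1
    simpa [← Matrix.mul_assoc, Matrix.nonsing_inv_mul _ hJ] using h2.symm
  have hτ2 : ∀ q, p ∣ tau S N0 (tau S N0 q) - q := tau_tau S hN hp
  obtain ⟨π, hπirr, hπp⟩ := WfDvdMonoid.exists_irreducible_factor
    (minpoly.not_isUnit F G) hp0
  have hπ : Prime π := hπirr.prime
  -- divisibility through the adjoint
  have back : ∀ {a b x : F[X]}, a ∣ p → a ∣ tau S N0 b → (b ∣ tau S N0 x → a ∣ x) :=
    fun ha hab hbx => (dvd_sub_right (hab.trans (map_dvd (tau S N0) hbx))).1 (ha.trans (hτ2 _))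
  set q0 := EuclideanDomain.gcd p (tau S N0 π)
  have hq0 : ¬IsUnit q0 := by
    intro hu
    obtain ⟨a, b, hab⟩ := (EuclideanDomain.gcd_isUnit_iff.1 hu : IsCoprime p (tau S N0 π))
    refine hπ.not_unit (isUnit_of_dvd_one ?_)
    have h1 := congrArg (tau S N0) hab
    rw [map_add, map_mul, map_mul, map_one] at h1
    rw [← h1]
    exact dvd_add ((hπp.trans hτp).mul_left _)
      (Dvd.dvd.mul_left ((dvd_iff_dvd_of_dvd_sub (hπp.trans (hτ2 π))).2 dvd_rfl) _)
  obtain ⟨π', hπ'irr, hπ'q⟩ := WfDvdMonoid.exists_irreducible_factor hq0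
    (fun e => hp0 (zero_dvd_iff.1 (e ▸ EuclideanDomain.gcd_dvd_left p (tau S N0 π))))
  have hπ' : Prime π' := hπ'irr.prime
  have hπ'p : π' ∣ p := hπ'q.trans (EuclideanDomain.gcd_dvd_left _ _)
  have hπ'τ : π' ∣ tau S N0 π := hπ'q.trans (EuclideanDomain.gcd_dvd_right _ _)
  have hπτ' : π ∣ tau S N0 π' := by
    set q1 := EuclideanDomain.gcd p (tau S N0 π')
    have h1 : q1 ∣ π := back (EuclideanDomain.gcd_dvd_left _ _) (EuclideanDomain.gcd_dvd_right _ _) hπ'τ
    rcases hπirr.dvd_iff.1 h1 with h2 | h2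
    · obtain ⟨a, b, hab⟩ := (EuclideanDomain.gcd_isUnit_iff.1 h2 : IsCoprime p (tau S N0 π'))
      refine absurd (isUnit_of_dvd_one ?_) hπ'.not_unit
      have h3 := congrArg (tau S N0) hab
      rw [map_add, map_mul, map_mul, map_one] at h3
      rw [← h3]
      exact dvd_add ((hπ'p.trans hτp).mul_left _)
        (Dvd.dvd.mul_left ((dvd_iff_dvd_of_dvd_sub (hπ'p.trans (hτ2 π'))).2 dvd_rfl) _)
    · exact h2.dvd.trans (EuclideanDomain.gcd_dvd_right _ _)
  have hswap : ∀ x, π ∣ tau S N0 x → π' ∣ x := fun x h => back hπ'p hπ'τ h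
  have hswap' : ∀ x, π' ∣ tau S N0 x → π ∣ x := fun x h => back hπp hπτ' h
  -- the two components
  set M := p.natDegree + 1
  have hfull : ∀ x : F[X], Prime x → x ∣ p →
      ∃ P : F[X], P.Monic ∧ P ∣ p ∧ (∃ m, 1 ≤ m ∧ Associated P (x ^ m) ∧ ¬ x ^ (m + 1) ∣ p) := by
    intro x hx hxp
    have hfin : FiniteMultiplicity x p := FiniteMultiplicity.of_prime_left hx hp0
    refine ⟨normalize (x ^ multiplicity x p), monic_normalize (pow_ne_zero _ hx.ne_zero),
      normalize_dvd_iff.2 (pow_multiplicity_dvd x p), multiplicity x p,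
      hfin.le_multiplicity_of_pow_dvd (by simpa using hxp), normalize_associated _,
      hfin.not_pow_dvd_of_multiplicity_lt (by omega)⟩
  obtain ⟨P1, hP1m, hP1p, a, ha, hP1a, hP1max⟩ := hfull π hπ hπp
  obtain ⟨P2, hP2m, hP2p, b, hb, hP2b, hP2max⟩ := hfull π' hπ' hπ'p
  have hpow_le : ∀ (x : F[X]) (P : F[X]) (m j : ℕ), Prime x → Associated P (x ^ m) → ¬ x ^ (m + 1) ∣ p →
      x ^ j ∣ p → j ≤ m := fun x P m j _ _ hmax hj => by
    by_contra hlt
    exact hmax ((pow_dvd_pow x (by omega)).trans hj)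
  -- what divides a power of `π` and `p` divides `P1`
  have hinP : ∀ (x P : F[X]) (m : ℕ), Prime x → Associated P (x ^ m) → ¬ x ^ (m + 1) ∣ p →
      ∀ y, y ∣ p → ∀ j, y ∣ x ^ j → y ∣ P := by
    intro x P m hx hP hmax y hyp j hy
    obtain ⟨i, -, hi⟩ := (dvd_prime_pow hx j).1 hy
    have : i ≤ m := hpow_le x P m i hx hP hmax (hi.symm.dvd.trans hyp)
    exact hi.dvd.trans ((pow_dvd_pow x this).trans hP.symm.dvd)
  have hτP : ∀ (x y Px Py : F[X]) (m m' : ℕ), Prime x → Prime y → x ∣ p → x ∣ tau S N0 y →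
      y ∣ tau S N0 x → Associated Px (x ^ m) → ¬ x ^ (m + 1) ∣ p → Associated Py (y ^ m') →
      ¬ y ^ (m' + 1) ∣ p → Px ∣ p → Px ∣ tau S N0 Py := by
    intro x y Px Py m m' hx hy hxp hxy hyx hPx hxmax hPy hymax hPxp
    set Q := EuclideanDomain.gcd p ((tau S N0 x) ^ m)
    obtain ⟨u, w, huw⟩ : ∃ u w, Q = p * u + (tau S N0 x) ^ m * w :=
      ⟨_, _, EuclideanDomain.gcd_eq_gcd_ab _ _⟩
    have hQy : Q ∣ Py := by
      -- every prime of `Q` is associated to `y`
      have hsupp : ∀ z : F[X], Prime z → z ∣ Q → Associated y z := by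
        intro z hz hzQ
        have hzp : z ∣ p := hzQ.trans (EuclideanDomain.gcd_dvd_left _ _)
        have hzx : z ∣ tau S N0 x := hz.dvd_of_dvd_pow (hzQ.trans (EuclideanDomain.gcd_dvd_right _ _))
        have h1 : EuclideanDomain.gcd p (tau S N0 z) ∣ x :=
          back (EuclideanDomain.gcd_dvd_left _ _) (EuclideanDomain.gcd_dvd_right _ _) hzx
        have hzy : z ∣ y := by
          rcases hx.irreducible.dvd_iff.1 h1 with h2 | h2
          · obtain ⟨c, e, hce⟩ := (EuclideanDomain.gcd_isUnit_iff.1 h2 : IsCoprime p (tau S N0 z))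
            refine absurd (isUnit_of_dvd_one ?_) hz.not_unit
            have h3 := congrArg (tau S N0) hce
            rw [map_add, map_mul, map_mul, map_one] at h3
            rw [← h3]
            exact dvd_add ((hzp.trans hτp).mul_left _)
              (Dvd.dvd.mul_left ((dvd_iff_dvd_of_dvd_sub (hzp.trans (hτ2 z))).2 dvd_rfl) _)
          · exact back hzp hzx (hxy)
        exact (hz.associated_of_dvd hy hzy).symm
      have hQ0 : Q ≠ 0 := fun e => hp0 (zero_dvd_iff.1 (e ▸ EuclideanDomain.gcd_dvd_left p _))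
      have hdvd : Q ∣ y ^ (Multiset.card (UniqueFactorizationMonoid.normalizedFactors Q)) := by
        refine (UniqueFactorizationMonoid.prod_normalizedFactors hQ0).symm.dvd.trans ?_
        rw [← Multiset.prod_replicate]
        suffices ∀ s : Multiset F[X], (∀ z ∈ s, z ∣ y) → s.prod ∣ (Multiset.replicate (Multiset.card s) y).prod from
          this _ fun z hz => (hsupp z (UniqueFactorizationMonoid.prime_of_normalized_factor z hz)
            (UniqueFactorizationMonoid.dvd_of_mem_normalizedFactors hz)).symm.dvd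
        intro s
        induction s using Multiset.induction with
        | empty => intro; simp
        | cons z s ih =>
          intro hs
          rw [Multiset.prod_cons, Multiset.card_cons, Multiset.replicate_succ, Multiset.prod_cons]
          exact mul_dvd_mul (hs z (by simp)) (ih fun w hw => hs w (by simp [hw]))
      exact hinP y Py m' hy hPy hymax Q (EuclideanDomain.gcd_dvd_left _ _) _ hdvd
    refine dvd_trans ?_ (map_dvd (tau S N0) hQy)
    rw [huw, map_add, map_mul, map_mul, map_pow]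
    refine dvd_add ((hPxp.trans hτp).mul_right _) (Dvd.dvd.mul_right ?_ _)
    have h1 : p ∣ tau S N0 (tau S N0 x) ^ m - x ^ m := (hτ2 x).trans (sub_dvd_pow_sub_pow _ _ m)
    exact (dvd_iff_dvd_of_dvd_sub (hPxp.trans h1)).2 hPx.dvd
  have hτ12 := hτP π π' P1 P2 a b hπ hπ' hπp hπτ' hπ'τ hP1a hP1max hP2b hP2max hP1p
  have hτ21 := hτP π' π P2 P1 b a hπ' hπ hπ'p hπ'τ hπτ' hP2b hP2max hP1a hP1max hP2p
  have back1 : ∀ x, P2 ∣ tau S N0 x → P1 ∣ x := fun x h => back hP1p hτ12 h
  have back2 : ∀ x, P1 ∣ tau S N0 x → P2 ∣ x := fun x h => back hP2p hτ21 h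
  -- the annihilator
  obtain ⟨P, S0, hPm, hP1P, hP2P, hlcm, hPp, hPdeg, hS, hprimes, hodd⟩ : ∃ P S0 : F[X], P.Monic ∧
      P1 ∣ P ∧ P2 ∣ P ∧ (∀ E, P1 ∣ E → P2 ∣ E → P ∣ E) ∧ P ∣ p ∧ 1 ≤ P.natDegree ∧ (¬ P ∣ S0 ∧ ∀ E, E ∣ P → ¬ P1 ∣ E → ¬ P2 ∣ E → E ∣ S0) ∧
      Primes2 P π π' ∧ (Odd P.natDegree → Primes2 P π π) := by
    have hdeg : ∀ (x Q : F[X]) (m : ℕ), Prime x → 1 ≤ m → Associated Q (x ^ m) → 1 ≤ Q.natDegree := by
      intro x Q m hx hm hQ
      rw [natDegree_eq_of_degree_eq (degree_eq_degree_of_associated hQ), natDegree_pow]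
      exact Nat.one_le_iff_ne_zero.2 (Nat.mul_ne_zero (by omega) (Irreducible.natDegree_pos hx.irreducible).ne')
    by_cases hπe : Associated π π'
    · have hprim : Primes2 P1 π π := fun x hx hxP => Or.inl
        ((hπ.associated_of_dvd hx ((hx.dvd_of_dvd_pow (hxP.trans hP1a.dvd)) |> fun h =>
          ((hx.associated_of_dvd hπ h)).symm.dvd)))
      have hP2P1 : P2 ∣ P1 := by
        refine hinP π P1 a hπ hP1a hP1max P2 hP2p b ?_
        exact hP2b.dvd.trans (pow_dvd_pow_of_dvd hπe.symm.dvd b)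
      refine ⟨P1, π ^ (a - 1), hP1m, dvd_rfl, hP2P1, fun _ h _ => h, hP1p, hdeg π P1 a hπ ha hP1a,
        ⟨fun h => ?_, fun E hE hE1 _ => ?_⟩, fun x hx hxP => (hprim x hx hxP).elim Or.inl Or.inl,
        fun _ => hprim⟩
      · have := (pow_dvd_pow_iff hπ.ne_zero hπ.not_unit).1 (hP1a.symm.dvd.trans h)
        omega
      · obtain ⟨i, hi, hEi⟩ := (dvd_prime_pow hπ a).1 (hE.trans hP1a.dvd)
        have : i ≠ a := fun e => hE1 (hP1a.dvd.trans (e ▸ hEi.symm.dvd))
        exact hEi.dvd.trans (pow_dvd_pow π (by omega))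
    · have hne : ¬ π ∣ π' := fun h => hπe (hπ.associated_of_dvd hπ' h)
      have hcop : IsCoprime P1 P2 := by
        refine (IsCoprime.pow ((hπirr.coprime_iff_not_dvd).2 hne) : IsCoprime (π ^ a) (π' ^ b)) |>
          fun h => IsCoprime.of_isCoprime_of_dvd_left (IsCoprime.of_isCoprime_of_dvd_right h hP2b.dvd) hP1a.dvd
      have heq : P1.natDegree = P2.natDegree := le_antisymm
        (part_le S hN hp hτp hP1p hP1m hP2m hτ12) (part_le S hN hp hτp hP2p hP2m hP1m hτ21)
      refine ⟨P1 * P2, π ^ (a - 1) * π' ^ (b - 1), hP1m.mul hP2m, dvd_mul_right _ _, dvd_mul_left _ _,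
        fun _ h h' => hcop.mul_dvd h h', hcop.mul_dvd hP1p hP2p, ?_, ⟨fun h => ?_, fun E hE hE1 hE2 => ?_⟩, fun x hx hxP => ?_, fun ho => ?_⟩
      · rw [hP1m.natDegree_mul hP2m]; exact le_add_right (hdeg π P1 a hπ ha hP1a)
      · have h1 : π ^ a ∣ π ^ (a - 1) * π' ^ (b - 1) :=
          (hP1a.symm.dvd.trans (dvd_mul_right _ _)).trans h
        have h2 := hπ.pow_dvd_of_dvd_mul_right a (fun h3 => hne (hπ.dvd_of_dvd_pow h3)) h1
        have := (pow_dvd_pow_iff hπ.ne_zero hπ.not_unit).1 h2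
        omega
      · obtain ⟨E1, E2, h1, h2, rfl⟩ := exists_dvd_and_dvd_of_dvd_mul hE
        obtain ⟨i, hi, hEi⟩ := (dvd_prime_pow hπ a).1 (h1.trans hP1a.dvd)
        obtain ⟨j, hj, hEj⟩ := (dvd_prime_pow hπ' b).1 (h2.trans hP2b.dvd)
        have : i ≠ a := fun e => hE1 ((hP1a.dvd.trans (e ▸ hEi.symm.dvd)).mul_right _)
        have : j ≠ b := fun e => hE2 ((hP2b.dvd.trans (e ▸ hEj.symm.dvd)).mul_left _)
        exact mul_dvd_mul (hEi.dvd.trans (pow_dvd_pow π (by omega))) (hEj.dvd.trans (pow_dvd_pow π' (by omega)))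
      · rcases hx.dvd_or_dvd hxP with h | h
        · exact Or.inl (hx.associated_of_dvd hπ (hx.dvd_of_dvd_pow (h.trans hP1a.dvd))).symm
        · exact Or.inr (hx.associated_of_dvd hπ' (hx.dvd_of_dvd_pow (h.trans hP2b.dvd))).symm
      · rw [hP1m.natDegree_mul hP2m, heq] at ho
        exact absurd ho (by simp)
  obtain ⟨c, hc⟩ := hPp
  have hπc : ∀ (x Px : F[X]) (m : ℕ), Associated Px (x ^ m) → ¬ x ^ (m + 1) ∣ p → Px ∣ P → ¬ x ∣ c := by
    intro x Px m hPx hmax hPxP hxc
    refine hmax ?_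
    rw [pow_succ, hc]
    exact mul_dvd_mul (hPx.symm.dvd.trans hPxP) hxc
  have hπc1 := hπc π P1 a hP1a hP1max hP1P
  have hπc2 := hπc π' P2 b hP2b hP2max hP2P
  have hcopc : ∀ y, ¬ π ∣ y → ¬ π' ∣ y → IsCoprime P y := by
    intro y h1 h2
    refine isCoprime_of_prime_dvd (fun h => hPm.ne_zero h.1) fun x hx hxP hxy => ?_
    rcases hprimes x hx hxP with h | h
    · exact h1 (h.dvd.trans hxy)
    · exact h2 (h.dvd.trans hxy)
  have hT : aeval G (tau S N0 c * (c * S0)) ≠ 0 := by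
    intro h0
    have h1 : P ∣ tau S N0 c * (c * S0) := (hc ▸ dvd_mul_right P c : P ∣ p).trans (minpoly.dvd F G h0)
    have h2 := (hcopc _ (fun h => hπc2 (hswap c h)) fun h => hπc1 (hswap' c h)).dvd_of_dvd_mul_left h1
    exact hS.1 ((hcopc c hπc1 hπc2).dvd_of_dvd_mul_left h2)
  obtain ⟨w, hw⟩ : ∃ w, hf S J (aeval G (c * S0) *ᵥ w) (aeval G c *ᵥ w) ≠ 0 := by
    by_contra hcon
    push Not at hcon
    have h1 : J * aeval G (tau S N0 c * (c * S0)) = 0 := by
      refine hf_polar S _ fun x => ?_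
      rw [← hf_mulVec_left, map_mul, ← Matrix.mulVec_mulVec, ← hf_adj S hg hN hg1]
      exact hcon x
    refine hT ?_
    have h2 := congrArg (fun X => J⁻¹ * X) h1
    simpa [← Matrix.mul_assoc, Matrix.nonsing_inv_mul _ hJ] using h2
  set v := aeval G c *ᵥ w
  have hmv : ∀ q r : F[X], aeval G q *ᵥ (aeval G r *ᵥ v) = aeval G (q * r) *ᵥ v := fun q r => by
    rw [Matrix.mulVec_mulVec, map_mul]
  have hv0 : aeval G P *ᵥ v = 0 := by
    rw [Matrix.mulVec_mulVec, ← map_mul, ← hc, hpe, Matrix.zero_mulVec]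
  let D : Ideal F[X] :=
    { carrier := {x | ∀ y : F[X], hf S J (aeval G x *ᵥ v) (aeval G y *ᵥ v) = 0}
      zero_mem' := fun y => by simp
      add_mem' := fun {x y} hx hy z => by rw [map_add, Matrix.add_mulVec, hf_add_left, hx, hy, add_zero]
      smul_mem' := fun c x hx y => by
        rw [smul_eq_mul, ← hmv c x, ← hf_conj S hJh, hf_adj S hg hN hg1, hmv, hf_conj S hJh]
        exact hx _ }
  obtain ⟨E, hE⟩ := IsPrincipalIdealRing.principal D
  have hmem : ∀ x, x ∈ D ↔ E ∣ x := fun x => by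
    rw [hE]; exact Ideal.mem_span_singleton
  have hEP : E ∣ P := (hmem P).1 fun y => by rw [hv0, hf_zero_left]
  have hEτ : E ∣ tau S N0 E := by
    refine (hmem _).1 fun y => ?_
    have h3 := (hmem (E * y)).2 (dvd_mul_right _ _) 1
    rw [map_one, Matrix.one_mulVec] at h3
    rw [← hf_adj S hg hN hg1, hmv, ← hf_conj S hJh, h3, map_zero]
  refine ⟨v, P, ⟨hPm, hv0, fun r hr => ?_, π, π', hprimes⟩, hPdeg, fun ho => ⟨π, hodd ho⟩⟩
  refine dvd_trans ?_ ((hmem r).1 hr)
  by_cases h1 : P1 ∣ E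
  · exact hlcm E h1 (back2 E (h1.trans hEτ))
  by_cases h2 : P2 ∣ E
  · exact hlcm E (back1 E (h2.trans hEτ)) h2
  exfalso
  have h3 := (hmem S0).2 (hS.2 E hEP h1 h2) 1
  rw [map_one, Matrix.one_mulVec] at h3
  refine hw ?_
  rw [mul_comm, map_mul, ← Matrix.mulVec_mulVec]
  exact h3

end Cfsg.Agent.H31.OreSU
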