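/-
A generator of a cyclic hermitian module whose first powers are orthogonal to it.
-/
import Cfsg.Agent.H31.OreSU.Decomp

set_option autoImplicit false
set_option linter.unusedSectionVars false

namespace Cfsg.Agent.H31.OreSU

open Polynomial

variable {F : Type*} [Field F] [Finite F] (S : UConj F)

/-- The fixed field has the square root of the cardinality. -/
theorem card_fix_sq : Nat.card {x : F // S.σ x = x} ^ 2 = Nat.card F := by
  obtain ⟨x, hx⟩ := S.ne
  have hne : x - S.σ x ≠ 0 := sub_ne_zero.2 (Ne.symm hx)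
  rw [sq, ← Nat.card_prod]
  refine Nat.card_eq_of_bijective (fun p => p.1.1 + x * p.2.1) ⟨?_, fun r => ?_⟩
  · rintro ⟨⟨a, ha⟩, b, hb⟩ ⟨⟨a', ha'⟩, b', hb'⟩ h
    simp only at h
    have h' := congrArg S.σ h
    simp only [map_add, map_mul, ha, hb, ha', hb'] at h'
    have hbb : b = b' := sub_eq_zero.1 ((mul_eq_zero.1 (show (x - S.σ x) * (b - b') = 0 by
      linear_combination h - h')).resolve_left hne)
    subst hbb
    have haa : a = a' := add_right_cancel h
    subst haa
    rfl
  · set b := (r - S.σ r) / (x - S.σ x)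
    have hb : S.σ b = b := by
      simp only [b, map_div₀, map_sub, S.inv]
      rw [← neg_sub r, ← neg_sub x, neg_div_neg_eq]
    refine ⟨(⟨r - x * b, ?_⟩, ⟨b, hb⟩), by simp⟩
    have : (x - S.σ x) * b = r - S.σ r := by simp only [b]; exact mul_div_cancel₀ _ hne
    rw [map_sub, map_mul, hb]
    linear_combination this

/-- Two proper additive subgroups do not cover. -/
theorem exists_avoid {G : Type*} [AddGroup G] (H K : AddSubgroup G) (hH : ∃ x, x ∉ H) (hK : ∃ x, x ∉ K) :
    ∃ x, x ∉ H ∧ x ∉ K := by
  obtain ⟨a, ha⟩ := hH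
  obtain ⟨b, hb⟩ := hK
  by_cases haK : a ∈ K
  · by_cases hbH : b ∈ H
    · exact ⟨a + b, fun h => ha ((H.add_mem_cancel_right hbH).1 h), fun h => hb ((K.add_mem_cancel_left haK).1 h)⟩
    · exact ⟨b, hbH, hb⟩
  · exact ⟨a, ha, haK⟩

theorem exists_gen {P : F[X]} (hP : P.Monic) (hN : 2 ≤ P.natDegree)
    (t : AdjoinRoot P →+* AdjoinRoot P) (htC : ∀ a : F, t (AdjoinRoot.of P a) = AdjoinRoot.of P (S.σ a))
    (htz : t (AdjoinRoot.root P) * AdjoinRoot.root P = 1) (ℓ : AdjoinRoot P →ₗ[F] F)
    (hℓt : ∀ r, ℓ (t r) = S.σ (ℓ r)) (hnd : ∀ a, (∀ b, ℓ (a * b) = 0) → a = 0)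
    (hpr : ∃ π π' : F[X], Primes2 P π π') :
    ∃ a : (AdjoinRoot P)ˣ,
      (∀ j, j < P.natDegree / 2 → ℓ (AdjoinRoot.root P ^ j * (a * t a)) = 0) ∧
        ℓ (AdjoinRoot.root P ^ (P.natDegree / 2) * (a * t a)) ≠ 0 := by
  classical
  haveI := Fintype.ofFinite F
  set R := AdjoinRoot P
  set N := P.natDegree with hNdef
  set k := N / 2
  have hk : 1 ≤ k := by omega
  let pb := AdjoinRoot.powerBasis hP.ne_zero
  haveI : Module.Finite F R := Module.Finite.of_basis pb.basis
  haveI : Finite R := Module.finite_of_finite F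
  haveI : Fintype R := Fintype.ofFinite R
  have hofne : AdjoinRoot.of P = algebraMap F R := rfl
  set z := AdjoinRoot.root P
  let u : Rˣ := ⟨z, t z, by rw [mul_comm]; exact htz, htz⟩
  have htu : ∀ j : ℤ, t ((u ^ j : Rˣ) : R) = ((u ^ (-j) : Rˣ) : R) := by
    intro j
    have h1 : Units.map (t : R →* R) u = u⁻¹ := Units.ext rfl
    show ((Units.map (t : R →* R) (u ^ j) : Rˣ) : R) = _
    rw [map_zpow, h1, inv_zpow']
  have htt : ∀ r, t (t r) = r := by
    suffices t.comp t = RingHom.id R from fun r => RingHom.congr_fun this r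
    refine AdjoinRoot.ringHom_ext ?_ ?_
    · refine RingHom.ext fun a => ?_
      simp [htC, S.inv]
    · have h := htu (-1)
      rw [zpow_neg_one, neg_neg, zpow_one] at h
      exact h
  have hts : ∀ (c : F) (r : R), t (c • r) = S.σ c • t r := fun c r => by
    rw [Algebra.smul_def, Algebra.smul_def, map_mul, ← hofne, htC]
  -- the fixed part
  let Sym : AddSubgroup R :=
    { carrier := {r | t r = r}
      zero_mem' := map_zero t
      add_mem' := fun {a b} ha hb => show t (a + b) = a + b by rw [map_add, ha, hb]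
      neg_mem' := fun {a} ha => show t (-a) = -a by rw [map_neg, ha] }
  set q0 := Nat.card {x : F // S.σ x = x}
  have hF : Nat.card F = q0 ^ 2 := (card_fix_sq S).symm
  obtain ⟨x0, hx0⟩ := S.ne
  have hne0 : x0 - S.σ x0 ≠ 0 := sub_ne_zero.2 (Ne.symm hx0)
  have hSym : Nat.card Sym = q0 ^ N := by
    have hR : Nat.card R = Nat.card Sym ^ 2 := by
      rw [sq, ← Nat.card_prod]
      refine (Nat.card_eq_of_bijective (fun p : Sym × Sym => (p.1 : R) + x0 • (p.2 : R)) ⟨?_, fun r => ?_⟩).symm
      · rintro ⟨⟨a, ha : t a = a⟩, b, hb : t b = b⟩ ⟨⟨a', ha' : t a' = a'⟩, b', hb' : t b' = b'⟩ h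
        simp only at h
        have h' := congrArg t h
        simp only [map_add, hts, ha, hb, ha', hb'] at h'
        have hbb : b = b' := by
          have h3 : (x0 - S.σ x0) • (b - b') = 0 := by
            rw [sub_smul, smul_sub, smul_sub]
            linear_combination (norm := abel) h - h'
          exact sub_eq_zero.1 ((smul_eq_zero.1 h3).resolve_left hne0)
        subst hbb
        have haa : a = a' := add_right_cancel h
        subst haa
        rfl
      · set b := (x0 - S.σ x0)⁻¹ • (r - t r)
        have hb : t b = b := by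
          simp only [b, hts, map_inv₀, map_sub, S.inv, htt]
          rw [← neg_sub x0, inv_neg, neg_smul, ← smul_neg, neg_sub]
        refine ⟨(⟨r - x0 • b, ?_⟩, ⟨b, hb⟩), by simp⟩
        show t (r - x0 • b) = r - x0 • b
        have : (x0 - S.σ x0) • b = r - t r := smul_inv_smul₀ hne0 _
        rw [map_sub, hts, hb]
        rw [sub_smul] at this
        linear_combination (norm := abel) this
    have hR' : Nat.card R = Nat.card F ^ N := by
      rw [Module.natCard_eq_pow_finrank (K := F) (V := R), PowerBasis.finrank pb]; rfl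
    rw [hR', hF, ← pow_mul, mul_comm, pow_mul] at hR
    exact (Nat.pow_left_injective two_ne_zero hR).symm
  -- the functionals
  let φ : Sym → ℤ → F := fun s j => ℓ ((s : R) * (u ^ j : Rˣ))
  have hφneg : ∀ s j, φ s (-j) = S.σ (φ s j) := fun s j => by
    show ℓ ((s : R) * (u ^ (-j) : Rˣ)) = S.σ (ℓ ((s : R) * (u ^ j : Rˣ)))
    rw [← hℓt, map_mul t, htu, show t (s : R) = s from s.2]
  have hφfix : ∀ s, S.σ (φ s 0) = φ s 0 := fun s => by
    have h := hφneg s 0
    rwa [neg_zero, eq_comm] at h
  have hspan : ∀ (s : R) (a : ℤ), (∀ i : ℕ, i < N → ℓ (s * (u ^ (a + i) : Rˣ)) = 0) → s = 0 := by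
    intro s a h
    refine hnd s fun b => ?_
    suffices ℓ.comp (LinearMap.mulLeft F (s * ((u ^ a : Rˣ) : R))) = 0 by
      have h1 := LinearMap.congr_fun this (((u ^ (-a) : Rˣ) : R) * b)
      simp only [LinearMap.comp_apply, LinearMap.mulLeft_apply, LinearMap.zero_apply] at h1
      rwa [mul_assoc, ← mul_assoc ((u ^ a : Rˣ) : R), ← Units.val_mul, ← zpow_add, add_neg_cancel,
        zpow_zero, Units.val_one, one_mul] at h1
    refine pb.basis.ext fun i => ?_
    simp only [LinearMap.comp_apply, LinearMap.mulLeft_apply, LinearMap.zero_apply, PowerBasis.basis_eq_pow]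
    have hi := h i.val i.isLt
    rw [zpow_add, zpow_natCast, Units.val_mul, Units.val_pow_eq_pow_val, ← mul_assoc] at hi
    simpa [pb] using hi
  let T := {x : F // S.σ x = x} × (Fin (k - 1) → F)
  let L : Sym → T := fun s => (⟨φ s 0, hφfix s⟩, fun j => φ s ((j.val : ℤ) + 1))
  have hLsub : ∀ s s', L s = L s' → ∀ j : ℕ, j < k → φ (s - s') j = 0 ∧ φ (s - s') (-(j : ℤ)) = 0 := by
    intro s s' h j hj
    have key : φ (s - s') j = φ s j - φ s' j := by
      simp only [φ, AddSubgroup.coe_sub, sub_mul, map_sub]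
    have h0 : φ (s - s') j = 0 := by
      rw [key, sub_eq_zero]
      rcases j with _ | j
      · exact congrArg (fun p : T => (p.1 : F)) h
      · have := congrFun (congrArg Prod.snd h) ⟨j, by omega⟩
        simpa [L] using this
    exact ⟨h0, by rw [hφneg, h0, map_zero]⟩
  have hzero : ∀ s : Sym, (∀ j : ℕ, j < k → φ s j = 0) → φ s k = 0 → s = 0 := by
    intro s h hk0
    have hall : ∀ j : ℤ, -(k : ℤ) ≤ j → j ≤ k → φ s j = 0 := by
      intro j hj1 hj2
      obtain ⟨m, rfl | rfl⟩ := Int.eq_nat_or_neg j
      · rcases Nat.lt_or_ge m k with hm | hm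
        · exact h m hm
        · rw [show m = k by omega]; exact hk0
      · rw [hφneg]
        rcases Nat.lt_or_ge m k with hm | hm
        · rw [h m hm, map_zero]
        · rw [show m = k by omega, hk0, map_zero]
    exact Subtype.ext (hspan (s : R) (-(k : ℤ)) fun i hi => hall _ (by omega) (by omega))
  -- the leading coefficient condition
  let bad : F → AddSubgroup F := fun e =>
    { carrier := {β | β + e * S.σ β = 0}
      zero_mem' := by simp
      add_mem' := fun {a b} ha hb => by
        simp only [Set.mem_ofPred_eq, map_add] at *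
        linear_combination ha + hb
      neg_mem' := fun {a} ha => by
        simp only [Set.mem_ofPred_eq, map_neg] at *
        linear_combination -ha }
  have hbad : ∀ e, ∃ β, β ∉ bad e := by
    intro e
    by_contra hc
    push Not at hc
    have h1 : (1 : F) + e * S.σ 1 = 0 := hc 1
    have h2 : x0 + e * S.σ x0 = 0 := hc x0
    rw [map_one] at h1
    exact hne0 (by linear_combination h2 - S.σ x0 * h1)
  obtain ⟨π, π', hpr⟩ := hpr
  let rc : F[X] → F := fun x => if h : ∃ c, Associated x (X - C c) then h.choose else 0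
  have hroot : ∀ c, P.IsRoot c → c = rc π ∨ c = rc π' := by
    intro c hc
    have huniq : ∀ x, Associated x (X - C c) → c = rc x := fun x hx => by
      have hex : ∃ c, Associated x (X - C c) := ⟨c, hx⟩
      have h1 := (hx.symm.trans hex.choose_spec)
      simp only [rc, dif_pos hex]
      have := eq_of_monic_of_associated (monic_X_sub_C c) (monic_X_sub_C _) h1
      simpa using congrArg (fun p => coeff p 0) this
    rcases hpr _ (prime_X_sub_C c) (dvd_iff_isRoot.2 hc) with h | h
    · exact Or.inl (huniq π h)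
    · exact Or.inr (huniq π' h)
  let Ec : F → F := fun c => (P /ₘ (X - C c)).coeff 0
  obtain ⟨β, hβ1, hβ2⟩ := exists_avoid (bad (Ec (rc π))) (bad (Ec (rc π'))) (hbad _) (hbad _)
  obtain ⟨s, hs, hsk, hsodd⟩ : ∃ s : Sym, (∀ j : ℕ, j < k → φ s j = 0) ∧ φ s k ≠ 0 ∧
      (N = 2 * k + 1 → φ s k = β) := by
    have hT : Nat.card T = q0 ^ (2 * k - 1) := by
      rw [Nat.card_prod, Nat.card_fun, Nat.card_fin, hF, ← pow_mul, ← pow_succ']
      congr 1; omega
    have hq0 : 1 < q0 := by
      by_contra hlt
      have h1 : 1 < Nat.card F := Finite.one_lt_card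
      rw [hF] at h1
      interval_cases q0 <;> simp at h1
    by_cases hodd : N = 2 * k + 1
    · have hinj : Function.Injective fun s : Sym => (L s, φ s k) := fun a b h => by
        simp only [Prod.mk.injEq] at h
        refine sub_eq_zero.1 (hzero _ (fun j hj => (hLsub a b h.1 j hj).1) ?_)
        simp only [φ, AddSubgroup.coe_sub, sub_mul, map_sub]
        exact sub_eq_zero.2 h.2
      have hbij := (Nat.bijective_iff_injective_and_card _).2 ⟨hinj, by
        rw [Nat.card_prod, hT, hSym, hF, ← pow_add]; congr 1; omega⟩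
      obtain ⟨s, hs⟩ := hbij.2 (L 0, β)
      simp only [Prod.mk.injEq] at hs
      refine ⟨s, fun j hj => by simpa using (hLsub s 0 hs.1 j hj).1, fun h => hβ1 ?_, fun _ => hs.2⟩
      rw [← hs.2, h]; exact zero_mem _
    · have hni : ¬ Function.Injective L := fun hinj => by
        have := Nat.card_le_card_of_injective L hinj
        rw [hT, hSym] at this
        exact absurd ((Nat.pow_le_pow_iff_right hq0).1 this) (by omega)
      obtain ⟨a, b, hab, hne⟩ := Function.not_injective_iff.1 hni
      exact ⟨a - b, fun j hj => (hLsub a b hab j hj).1, fun h => hne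
        (sub_eq_zero.1 (hzero _ (fun j hj => (hLsub a b hab j hj).1) h)), fun h => absurd h hodd⟩
  -- the functional is non-degenerate
  have hwin : ∀ (p : F[X]) (a : ℤ), ℓ ((s : R) * (AdjoinRoot.mk P p * ((u ^ a : Rˣ) : R))) =
      ∑ i ∈ Finset.range (p.natDegree + 1), p.coeff i * φ s (a + i) := by
    intro p a
    conv_lhs => rw [p.as_sum_range_C_mul_X_pow]
    rw [map_sum, Finset.sum_mul, Finset.mul_sum, map_sum]
    refine Finset.sum_congr rfl fun i _ => ?_
    show _ = p.coeff i * ℓ ((s : R) * ((u ^ (a + i) : Rˣ) : R))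
    rw [zpow_add, zpow_natCast, Units.val_mul, Units.val_pow_eq_pow_val, ← smul_eq_mul (a := p.coeff i), ← map_smul,
      map_mul (AdjoinRoot.mk P), map_pow, AdjoinRoot.mk_X, AdjoinRoot.mk_C, hofne, Algebra.smul_def]
    congr 1
    show (s : R) * (algebraMap F R (p.coeff i) * z ^ i * ((u ^ a : Rˣ) : R)) = _
    ring
  have hmid : ∀ j : ℤ, -(k : ℤ) < j → j < k → φ s j = 0 := by
    intro j hj1 hj2
    obtain ⟨m, rfl | rfl⟩ := Int.eq_nat_or_neg j
    · exact hs m (by omega)
    · rw [hφneg, hs m (by omega), map_zero]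
  have hnd' : ∀ r : R, (s : R) * r = 0 → r = 0 := by
    intro r hr
    obtain ⟨p, rfl⟩ := AdjoinRoot.mk_surjective r
    set p' := p %ₘ P
    have hpp : AdjoinRoot.mk P p = AdjoinRoot.mk P p' := by
      conv_lhs => rw [← modByMonic_add_div p P]
      rw [map_add, map_mul, AdjoinRoot.mk_self, zero_mul, add_zero]
    rw [hpp] at hr ⊢
    have hp'd : p' = 0 ∨ p'.natDegree < N := by
      rcases eq_or_ne P 1 with h1 | h1
      · exact absurd (by rw [hNdef, h1, natDegree_one]) (show N ≠ 0 by omega)
      · exact Or.inr (natDegree_modByMonic_lt p hP h1)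
    have hlow : ∀ q : F[X], (s : R) * AdjoinRoot.mk P q = 0 → q.natDegree < 2 * k → q = 0 := by
      intro q hq hqd
      by_contra hq0
      set d := q.natDegree
      have h1 := hwin q ((k : ℤ) - d)
      rw [← mul_assoc, hq, zero_mul, map_zero, Finset.sum_range_succ, Finset.sum_eq_zero fun i hi => by
        rw [hmid _ (by simp at hi; omega) (by simp at hi; omega), mul_zero], zero_add,
        show (k : ℤ) - d + d = k by ring] at h1
      exact mul_ne_zero (leadingCoeff_ne_zero.2 hq0) hsk h1.symm
    rcases hp'd with h | h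
    · rw [h, map_zero]
    rcases Nat.lt_or_ge p'.natDegree (2 * k) with hlt | hge
    · rw [hlow p' hr hlt, map_zero]
    -- a divisor of co-degree one
    exfalso
    have hd : p'.natDegree = 2 * k := by omega
    have hodd : N = 2 * k + 1 := by omega
    have hp0 : p' ≠ 0 := fun e => by rw [e, natDegree_zero] at hd; omega
    set lc := p'.leadingCoeff
    have hlc : lc ≠ 0 := leadingCoeff_ne_zero.2 hp0
    set p'' := C lc⁻¹ * p'
    have hm : p''.Monic := by
      rw [Monic, leadingCoeff_mul, leadingCoeff_C, inv_mul_cancel₀ hlc]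
    have hd'' : p''.natDegree = 2 * k := by rw [natDegree_C_mul (inv_ne_zero hlc), hd]
    have hr'' : (s : R) * AdjoinRoot.mk P p'' = 0 := by rw [map_mul, mul_left_comm, hr, mul_zero]
    set c := (P - X * p'').coeff (2 * k)
    set q := P - (X + C c) * p''
    have hq : (s : R) * AdjoinRoot.mk P q = 0 := by
      rw [map_sub, AdjoinRoot.mk_self, map_mul, zero_sub, mul_neg, mul_left_comm, hr'', mul_zero, neg_zero]
    have hcP : P.coeff N = 1 := hNdef ▸ hP.coeff_natDegree
    have hc'' : p''.coeff (2 * k) = 1 := hd'' ▸ hm.coeff_natDegree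
    have hhi : ∀ m, 2 * k ≤ m → q.coeff m = 0 := by
      intro m hm'
      obtain ⟨n, rfl⟩ : ∃ n, m = n + 1 := ⟨m - 1, by omega⟩
      simp only [q, add_mul, coeff_sub, coeff_add, coeff_X_mul, coeff_C_mul]
      rcases hm'.lt_or_eq with h1 | h1
      · rw [coeff_eq_zero_of_natDegree_lt (show p''.natDegree < n + 1 by omega), mul_zero, add_zero]
        rcases (show n + 1 = N ∨ N < n + 1 by omega) with h2 | h2
        · rw [h2, hcP, show n = 2 * k by omega, hc'', sub_self]
        · rw [coeff_eq_zero_of_natDegree_lt (show P.natDegree < n + 1 from h2),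
            coeff_eq_zero_of_natDegree_lt (show p''.natDegree < n by omega), sub_self]
      · rw [← h1, hc'', mul_one]
        simp only [c, coeff_sub]
        rw [h1, coeff_X_mul]; ring
    have hq0 : q = 0 := by
      by_contra h0
      refine h0 (hlow q hq ?_)
      by_contra hlt
      exact h0 (leadingCoeff_eq_zero.1 (hhi _ (by omega)))
    have hfac : P = (X - C (-c)) * p'' := by rw [map_neg, sub_neg_eq_add]; exact sub_eq_zero.1 hq0
    have hE : Ec (-c) = p''.coeff 0 := by
      simp only [Ec]
      rw [hfac, mul_divByMonic_cancel_left _ (monic_X_sub_C _)]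
    have h1 := hwin p'' (-(k : ℤ))
    rw [← mul_assoc, hr'', zero_mul, map_zero, hd'', Finset.sum_range_succ,
      Finset.sum_eq_single 0 (fun i hi hi0 => by
        rw [hmid _ (by simp at hi; omega) (by simp at hi; omega), mul_zero]) (by simp; omega),
      hc'', one_mul, show -(k : ℤ) + ((0 : ℕ) : ℤ) = -(k : ℤ) by simp,
      show -(k : ℤ) + ((2 * k : ℕ) : ℤ) = k by push_cast; ring, hφneg, hsodd hodd, ← hE] at h1
    have hmem : β ∈ bad (Ec (-c)) := show β + Ec (-c) * S.σ β = 0 by linear_combination -h1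
    rcases hroot (-c) (by rw [IsRoot, hfac]; simp) with h | h <;> rw [h] at hmem
    · exact hβ1 hmem
    · exact hβ2 hmem
  have hsu : IsUnit (s : R) := by
    have hinj : Function.Injective ((s : R) * ·) := fun a b h =>
      sub_eq_zero.1 (hnd' _ (by rw [mul_sub]; exact sub_eq_zero.2 h))
    obtain ⟨b, hb⟩ := Finite.surjective_of_injective hinj 1
    exact IsUnit.of_mul_eq_one b hb
  -- symmetric units are norms
  obtain ⟨a, ha⟩ : ∃ a : Rˣ, (a : R) * t a = s := by
    let τu : Rˣ →* Rˣ := Units.map (t : R →* R)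
    have hττ : ∀ x, τu (τu x) = x := fun x => Units.ext (htt x)
    let NN : Rˣ →* Rˣ :=
      { toFun := fun x => x * τu x
        map_one' := by simp
        map_mul' := fun x y => by rw [map_mul, mul_mul_mul_comm] }
    let ψ : Rˣ →* Rˣ :=
      { toFun := fun x => x / τu x
        map_one' := by simp
        map_mul' := fun x y => by rw [map_mul, mul_div_mul_comm] }
    have hker : NN.ker ≤ ψ.range := by
      intro w hw
      have hw' : (w : R) * t (w : R) = 1 := by
        simpa [NN, τu, Units.ext_iff] using MonoidHom.mem_ker.1 hw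
      let H : F[X] → AddSubgroup F := fun x =>
        { carrier := {l | ∀ p, AdjoinRoot.mk P p = algebraMap F R l + (w : R) * algebraMap F R (S.σ l) →
            x ∣ P → x ∣ p}
          zero_mem' := fun p hp hx => by
            simp only [map_zero, mul_zero, add_zero] at hp
            exact hx.trans (AdjoinRoot.mk_eq_zero.1 hp)
          add_mem' := fun {l m} hl hm p hp hx => by
            obtain ⟨p1, h1⟩ := AdjoinRoot.mk_surjective (algebraMap F R l + (w : R) * algebraMap F R (S.σ l))
            obtain ⟨p2, h2⟩ := AdjoinRoot.mk_surjective (algebraMap F R m + (w : R) * algebraMap F R (S.σ m))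
            have h3 : AdjoinRoot.mk P (p - (p1 + p2)) = 0 := by
              rw [map_sub, map_add, hp, h1, h2, map_add, map_add S.σ, map_add]; ring
            simpa using dvd_add (hx.trans (AdjoinRoot.mk_eq_zero.1 h3)) (dvd_add (hl p1 h1 hx) (hm p2 h2 hx))
          neg_mem' := fun {l} hl p hp hx => by
            have := hl (-p) (by rw [map_neg, hp, map_neg S.σ, map_neg, map_neg]; ring) hx
            exact dvd_neg.1 this }
      have hH : ∀ x, Prime x → x ∣ P → ∃ l, l ∉ H x := by
        intro x hx hxP
        by_contra hc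
        push Not at hc
        obtain ⟨wp, hwp⟩ := AdjoinRoot.mk_surjective (w : R)
        have a1 := hc 1 (C 1 + wp * C (S.σ 1)) (by simp [hwp]) hxP
        have a2 := hc x0 (C x0 + wp * C (S.σ x0)) (by simp [hwp, hofne]) hxP
        have h3 : x ∣ C (x0 - S.σ x0) := by
          rw [show C (x0 - S.σ x0) = (C x0 + wp * C (S.σ x0)) - C (S.σ x0) * (C 1 + wp * C (S.σ 1)) by
            simp only [map_one, map_sub]; ring]
          exact dvd_sub a2 (a1.mul_left _)
        exact hx.not_unit (isUnit_of_dvd_unit h3 (isUnit_C.2 (isUnit_iff_ne_zero.2 hne0)))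
      obtain ⟨l, hl⟩ : ∃ l : F, ∀ x, Prime x → x ∣ P → (Associated π x ∨ Associated π' x) → l ∉ H x := by
        have hH' : ∀ y : F[X], ∃ l : F, ∀ x, Associated y x → Prime x → x ∣ P → l ∉ H x := by
          intro y
          by_cases hy : Prime y ∧ y ∣ P
          · obtain ⟨l, hl⟩ := hH y hy.1 hy.2
            exact ⟨l, fun x hyx _ hxP hmem => hl fun p hp _ => hyx.dvd.trans (hmem p hp hxP)⟩
          · exact ⟨0, fun x hyx hx hxP => absurd ⟨hyx.symm.prime hx, hyx.dvd.trans hxP⟩ hy⟩
        let good : F[X] → AddSubgroup F := fun y =>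
          if h : Prime y ∧ y ∣ P then H y else ⊥
        have hgood : ∀ y, ∃ l, l ∉ good y := fun y => by
          by_cases h : Prime y ∧ y ∣ P
          · simp only [good, dif_pos h]; exact hH y h.1 h.2
          · simp only [good, dif_neg h]; exact ⟨1, by simp⟩
        obtain ⟨l, h1, h2⟩ := exists_avoid (good π) (good π') (hgood π) (hgood π')
        refine ⟨l, fun x hx hxP hass hmem => ?_⟩
        have key : ∀ y, Associated y x → l ∈ good y := fun y hy => by
          have hy' : Prime y ∧ y ∣ P := ⟨hy.symm.prime hx, hy.dvd.trans hxP⟩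
          simp only [good, dif_pos hy']
          exact fun p hp _ => hy.dvd.trans (hmem p hp hxP)
        rcases hass with h | h
        · exact h1 (key π h)
        · exact h2 (key π' h)
      obtain ⟨pb', hpb⟩ := AdjoinRoot.mk_surjective (algebraMap F R l + (w : R) * algebraMap F R (S.σ l))
      have hcop : IsCoprime P pb' := isCoprime_of_prime_dvd (fun h => hP.ne_zero h.1) fun x hx hxP hxb =>
        hl x hx hxP (hpr x hx hxP) fun p hp _ => by
          have h3 : AdjoinRoot.mk P (p - pb') = 0 := by rw [map_sub, hp, hpb, sub_self]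
          exact (dvd_iff_dvd_of_dvd_sub (hxP.trans (AdjoinRoot.mk_eq_zero.1 h3))).2 hxb
      obtain ⟨e, f, hef⟩ := hcop
      have hb : IsUnit (algebraMap F R l + (w : R) * algebraMap F R (S.σ l)) := by
        refine IsUnit.of_mul_eq_one (AdjoinRoot.mk P f) ?_
        rw [← hpb, ← map_mul, mul_comm, ← map_one (AdjoinRoot.mk P), ← hef, map_add, map_mul _ e,
          AdjoinRoot.mk_self, mul_zero, zero_add]
      refine ⟨hb.unit, ?_⟩
      show hb.unit / τu hb.unit = w
      rw [div_eq_iff_eq_mul]
      ext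
      simp only [τu, Units.coe_map, MonoidHom.coe_coe, Units.val_mul, IsUnit.unit_spec]
      rw [map_add, map_mul, ← hofne, htC, htC, S.inv, mul_add, ← mul_assoc, hw', one_mul, add_comm]
    let SymU : Subgroup Rˣ := τu.eqLocus (MonoidHom.id _)
    have hψk : ψ.ker = SymU := by
      ext x
      show x / τu x = 1 ↔ τu x = x
      rw [div_eq_one, eq_comm]
    have hle : NN.range ≤ SymU := by
      rintro _ ⟨x, rfl⟩
      show τu (x * τu x) = x * τu x
      rw [map_mul, hττ, mul_comm]
    have c1 := Nat.card_congr (QuotientGroup.quotientKerEquivRange NN).toEquiv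
    have c2 := Subgroup.card_eq_card_quotient_mul_card_subgroup NN.ker
    have c3 := Nat.card_congr (QuotientGroup.quotientKerEquivRange ψ).toEquiv
    have c4 := Subgroup.card_eq_card_quotient_mul_card_subgroup ψ.ker
    have c5 := Subgroup.card_le_of_le hker
    rw [c1] at c2
    rw [c3, hψk] at c4
    have c6 : Nat.card SymU ≤ Nat.card NN.range := by
      have : Nat.card ψ.range * Nat.card SymU ≤ Nat.card ψ.range * Nat.card NN.range := by
        rw [← c4, c2, mul_comm]
        exact Nat.mul_le_mul_right _ c5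
      exact Nat.le_of_mul_le_mul_left this Nat.card_pos
    have heq : NN.range = SymU := Subgroup.eq_of_le_of_card_ge hle c6
    have hsm : hsu.unit ∈ SymU := Units.ext s.2
    rw [← heq] at hsm
    obtain ⟨a, ha⟩ := hsm
    exact ⟨a, by simpa [NN, τu, Units.ext_iff] using ha⟩
  have hfin : ∀ j : ℕ, ℓ (z ^ j * (a * t a)) = φ s j := fun j => by
    show ℓ (z ^ j * (a * t a)) = ℓ ((s : R) * ((u ^ (j : ℤ) : Rˣ) : R))
    rw [ha, zpow_natCast, Units.val_pow_eq_pow_val, mul_comm]
  exact ⟨a, fun j hj => by rw [hfin]; exact hs j hj, by rw [hfin]; exact hsk⟩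

end Cfsg.Agent.H31.OreSU
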