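/-
Commutators from the decomposition `U⁻ · L · U⁺` for a parabolic with Levi factor `GL × U`.
-/
import Cfsg.Agent.H31.OreSU.Basic

set_option autoImplicit false
set_option linter.unusedSectionVars false

namespace Cfsg.Agent.H31.OreSU

open Matrix

variable {F : Type*} [Field F] [Finite F] (S : UConj F)
variable {α β : Type} [Fintype α] [DecidableEq α] [Fintype β] [DecidableEq β]

/-- Index type. -/
abbrev Idx (α β : Type) := α ⊕ (β ⊕ α)

/-- The hyperbolic form extended by `Jm`. -/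
def hypJ (Jm : Matrix β β F) : Matrix (Idx α β) (Idx α β) F := b3 0 0 1 0 Jm 0 1 0 0

/-- The Levi factor. -/
def levi : GL α F × GL β F →* GL (Idx α β) F where
  toFun p :=
    { val := b3 (p.1 : Matrix α α F) 0 0 0 (p.2 : Matrix β β F) 0 0 0 (cT S (↑p.1⁻¹ : Matrix α α F))
      inv := b3 (↑p.1⁻¹ : Matrix α α F) 0 0 0 (↑p.2⁻¹ : Matrix β β F) 0 0 0 (cT S (p.1 : Matrix α α F))
      val_inv := by simp [b3_mul, ← cT_mul, b3_one, -Matrix.coe_units_inv]
      inv_val := by simp [b3_mul, ← cT_mul, b3_one, -Matrix.coe_units_inv] }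
  map_one' := Units.ext (by simp [b3_one])
  map_mul' p r := Units.ext (by simp [b3_mul, _root_.mul_inv_rev, -Matrix.coe_units_inv])

theorem levi_val (A : GL α F) (e : GL β F) :
    (levi S (A, e) : Matrix (Idx α β) (Idx α β) F) =
      b3 (A : Matrix α α F) 0 0 0 (e : Matrix β β F) 0 0 0 (cT S (↑A⁻¹ : Matrix α α F)) := rfl

theorem levi_mem {Jm : Matrix β β F} (A : GL α F) {e : GL β F} (he : e ∈ U S Jm) :
    levi S (A, e) ∈ U S (hypJ Jm) := by
  rw [mem_U] at he ⊢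
  simp [levi_val, hypJ, cT_b3, b3_mul, he, ← cT_mul, -Matrix.coe_units_inv]

theorem det_levi (A : GL α F) (e : GL β F) :
    (levi S (A, e) : Matrix (Idx α β) (Idx α β) F).det =
      (A : Matrix α α F).det * ((e : Matrix β β F).det * S.σ (↑A⁻¹ : Matrix α α F).det) := by
  rw [levi_val, det_b3_upper, det_cT]

/-- The swap of the two halves. -/
def swap : GL (Idx α β) F where
  val := b3 0 0 1 0 1 0 1 0 0
  inv := b3 0 0 1 0 1 0 1 0 0
  val_inv := by simp [b3_mul, b3_one]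
  inv_val := by simp [b3_mul, b3_one]

theorem swap_inv : (swap : GL (Idx α β) F)⁻¹ = swap := Units.ext rfl

theorem swap_mem {Jm : Matrix β β F} : (swap : GL (Idx α β) F) ∈ U S (hypJ Jm) := by
  simp [mem_U, swap, hypJ, cT_b3, b3_mul]

/-- Upper unitriangular isometries. -/
def IsUp (Jm : Matrix β β F) (g : GL (Idx α β) F) : Prop :=
  g ∈ U S (hypJ Jm) ∧ ∃ x X y, (g : Matrix (Idx α β) (Idx α β) F) = b3 1 x X 0 1 y 0 0 1

theorem IsUp.mul {Jm : Matrix β β F} {g h : GL (Idx α β) F} (hg : IsUp S Jm g)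
    (hh : IsUp S Jm h) : IsUp S Jm (g * h) := by
  obtain ⟨hg, x, X, y, e⟩ := hg
  obtain ⟨hh, x', X', y', e'⟩ := hh
  refine ⟨mul_mem hg hh, x' + x, X' + x * y' + X, y' + y, ?_⟩
  rw [Units.val_mul, e, e']
  simp [b3_mul]

theorem isUp_one (Jm : Matrix β β F) : IsUp S Jm (1 : GL (Idx α β) F) :=
  ⟨one_mem _, 0, 0, 0, by rw [Units.val_one, b3_one]⟩

theorem IsUp.inv {Jm : Matrix β β F} {g : GL (Idx α β) F} (hg : IsUp S Jm g) :
    IsUp S Jm g⁻¹ := by
  have hpow : ∀ k, IsUp S Jm (g ^ k) := fun k => by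
    induction k with
    | zero => rw [pow_zero]; exact isUp_one S Jm
    | succ k ih => rw [pow_succ]; exact ih.mul S hg
  have h : g ^ (orderOf g - 1) = g⁻¹ := by
    refine eq_inv_of_mul_eq_one_left ?_
    rw [← pow_succ, Nat.sub_add_cancel (orderOf_pos g), pow_orderOf_eq_one]
  exact h ▸ hpow _

theorem IsUp.det {Jm : Matrix β β F} {g : GL (Idx α β) F} (hg : IsUp S Jm g) :
    (g : Matrix (Idx α β) (Idx α β) F).det = 1 := by
  obtain ⟨-, x, X, y, e⟩ := hg
  rw [e, det_b3_upper]; simp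

/-- The Levi element has no fixed points on the unipotent radical. -/
structure Free (A : GL α F) (e : GL β F) : Prop where
  hx : ∀ x : Matrix α β F, (A : Matrix α α F) * x = x * (e : Matrix β β F) → x = 0
  hX : ∀ X : Matrix α α F, (A : Matrix α α F) * X * cT S (A : Matrix α α F) = X → X = 0
  hx' : ∀ x : Matrix α β F, cT S (A : Matrix α α F) * x * (e : Matrix β β F) = x → x = 0
  hX' : ∀ X : Matrix α α F, cT S (A : Matrix α α F) * X * (A : Matrix α α F) = X → X = 0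

theorem exists_up_conj {Jm : Matrix β β F} (hJ : IsUnit Jm.det) (A : GL α F) {e : GL β F}
    (he : e ∈ U S Jm)
    (hx : ∀ x : Matrix α β F, (A : Matrix α α F) * x = x * (e : Matrix β β F) → x = 0)
    (hX : ∀ X : Matrix α α F, (A : Matrix α α F) * X * cT S (A : Matrix α α F) = X → X = 0)
    {u : GL (Idx α β) F} (hu : IsUp S Jm u) :
    ∃ t, IsUp S Jm t ∧ t * levi S (A, e) * t⁻¹ = levi S (A, e) * u := by
  set a := levi S (A, e)
  have hnorm : ∀ t, IsUp S Jm t → IsUp S Jm (a⁻¹ * t * a) := by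
    rintro t ⟨ht, x, X, y, et⟩
    refine ⟨mul_mem (mul_mem (inv_mem (levi_mem S A he)) ht) (levi_mem S A he), ?_⟩
    have : a⁻¹ = levi S (A⁻¹, e⁻¹) := by rw [← map_inv]; rfl
    refine ⟨(↑A⁻¹ : Matrix α α F) * x * (e : Matrix β β F),
      (↑A⁻¹ : Matrix α α F) * X * cT S (↑A⁻¹ : Matrix α α F),
      (↑e⁻¹ : Matrix β β F) * y * cT S (↑A⁻¹ : Matrix α α F), ?_⟩
    rw [this, Units.val_mul, Units.val_mul, levi_val, levi_val, et]
    simp [b3_mul, ← cT_mul, -Matrix.coe_units_inv]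
  let φ : {t // IsUp S Jm t} → {t // IsUp S Jm (α := α) t} := fun t =>
    ⟨a⁻¹ * t.1 * a * t.1⁻¹, (hnorm _ t.2).mul S (t.2.inv S)⟩
  have hinj : Function.Injective φ := by
    rintro ⟨t, ht⟩ ⟨t', ht'⟩ h
    have h1 : a⁻¹ * t * a * t⁻¹ = a⁻¹ * t' * a * t'⁻¹ := congrArg Subtype.val h
    have h2 : (t'⁻¹ * t) * a = a * (t'⁻¹ * t) := by
      calc t'⁻¹ * t * a = t'⁻¹ * a * (a⁻¹ * t * a * t⁻¹) * t := by group
        _ = t'⁻¹ * a * (a⁻¹ * t' * a * t'⁻¹) * t := by rw [h1]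
        _ = a * (t'⁻¹ * t) := by group
    obtain ⟨hm, x, X, y, es⟩ := (ht'.inv S).mul S ht
    have h3 := congrArg Units.val h2
    rw [Units.val_mul (t'⁻¹ * t), Units.val_mul a, levi_val, es] at h3
    simp only [b3_mul, b3_inj, Matrix.one_mul, Matrix.mul_one, Matrix.zero_mul, Matrix.mul_zero,
      add_zero, zero_add] at h3
    obtain ⟨-, h4, h5, -, -, -, -, -, -⟩ := h3
    have hx0 : x = 0 := hx x h4.symm
    have hX0 : X = 0 := by
      refine hX X ?_
      have := congrArg (fun M => M * cT S (A : Matrix α α F)) h5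
      simp only [Matrix.mul_assoc, ← cT_mul, Units.mul_inv, cT_one, Matrix.mul_one] at this
      rw [Matrix.mul_assoc]
      exact this.symm
    rw [mem_U, es] at hm
    simp [hypJ, cT_b3, b3_mul, b3_inj, hx0, hX0] at hm
    have hy : y = 0 := by
      have := congrArg (fun M => Jm⁻¹ * M) hm.1
      simpa [← Matrix.mul_assoc, Matrix.nonsing_inv_mul _ hJ] using this
    have : t'⁻¹ * t = 1 := Units.ext (by rw [es, hx0, hX0, hy, Units.val_one, b3_one])
    exact Subtype.ext (inv_mul_eq_one.1 this).symm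
  obtain ⟨⟨t, ht⟩, h⟩ := (Finite.injective_iff_surjective.1 hinj) ⟨u, hu⟩
  refine ⟨t, ht, ?_⟩
  have h' : a⁻¹ * t * a * t⁻¹ = u := congrArg Subtype.val h
  rw [← h']
  group

theorem swap_levi (A : GL α F) (e : GL β F) :
    ∃ A' : GL α F, (A' : Matrix α α F) = cT S (↑A⁻¹ : Matrix α α F) ∧
      (↑A'⁻¹ : Matrix α α F) = cT S (A : Matrix α α F) ∧
      swap * levi S (A, e) * swap = levi S (A', e) := by
  refine ⟨⟨cT S (↑A⁻¹ : Matrix α α F), cT S (A : Matrix α α F), by simp [← cT_mul, -Matrix.coe_units_inv],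
    by simp [← cT_mul, -Matrix.coe_units_inv]⟩, rfl, rfl, Units.ext ?_⟩
  simp [swap, levi_val, b3_mul, -Matrix.coe_units_inv]

theorem exists_low_conj {Jm : Matrix β β F} (hJ : IsUnit Jm.det) (A : GL α F) {e : GL β F}
    (he : e ∈ U S Jm) (hf : Free S A e) {u : GL (Idx α β) F}
    (hu : IsUp S Jm (swap * u * swap)) :
    ∃ t ∈ U S (hypJ Jm), (t : Matrix (Idx α β) (Idx α β) F).det = 1 ∧
      t * levi S (A, e) * t⁻¹ = u * levi S (A, e) := by
  obtain ⟨A', hA1, hA2, hA'⟩ := swap_levi S A e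
  have hx : ∀ x : Matrix α β F, (A' : Matrix α α F) * x = x * (e : Matrix β β F) → x = 0 := by
    intro x h
    refine hf.hx' x ?_
    rw [Matrix.mul_assoc, ← h, ← Matrix.mul_assoc, hA1, ← cT_mul, Units.inv_mul, cT_one,
      Matrix.one_mul]
  have hX : ∀ X : Matrix α α F, (A' : Matrix α α F) * X * cT S (A' : Matrix α α F) = X → X = 0 := by
    intro X h
    refine hf.hX' X ?_
    conv_lhs => rw [← h]
    rw [hA1, cT_cT]
    simp only [← Matrix.mul_assoc, ← cT_mul, Units.inv_mul, cT_one, Matrix.one_mul]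
    rw [Matrix.mul_assoc, Units.inv_mul, Matrix.mul_one]
  have hu' : IsUp S Jm ((levi S (A', e))⁻¹ * (swap * u * swap) * levi S (A', e)) := by
    obtain ⟨hm, x, X, y, eu⟩ := hu
    refine ⟨mul_mem (mul_mem (inv_mem (levi_mem S A' he)) hm) (levi_mem S A' he), ?_⟩
    have hl : (levi S (A', e))⁻¹ = levi S (A'⁻¹, e⁻¹) := by rw [← map_inv]; rfl
    refine ⟨(↑A'⁻¹ : Matrix α α F) * x * (e : Matrix β β F),
      (↑A'⁻¹ : Matrix α α F) * X * cT S (↑A'⁻¹ : Matrix α α F),
      (↑e⁻¹ : Matrix β β F) * y * cT S (↑A'⁻¹ : Matrix α α F), ?_⟩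
    rw [hl, Units.val_mul, Units.val_mul, levi_val, levi_val, eu]
    simp [b3_mul, ← cT_mul, -Matrix.coe_units_inv]
  obtain ⟨t, ht, h⟩ := exists_up_conj S hJ A' he hx hX hu'
  have hsw : (swap : GL (Idx α β) F) * swap = 1 := by
    nth_rw 1 [← swap_inv]; exact inv_mul_cancel _
  refine ⟨swap * t * swap, mul_mem (mul_mem (swap_mem S) ht.1) (swap_mem S), ?_, ?_⟩
  · rw [Units.val_mul, Units.val_mul, Matrix.det_mul, Matrix.det_mul, ht.det S, mul_one,
      ← Matrix.det_mul, ← Units.val_mul, hsw]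
    simp
  · rw [← hA'] at h
    simp only [_root_.mul_inv_rev, swap_inv] at h ⊢
    calc swap * t * swap * levi S (A, e) * (swap * (t⁻¹ * swap))
        = swap * (t * (swap * levi S (A, e) * swap) * t⁻¹) * swap := by group
      _ = _ := by
        rw [h]
        simp only [mul_assoc, hsw, mul_one]
        simp only [← mul_assoc, hsw, one_mul, mul_inv_cancel]

/-- The decomposition. -/
theorem exists_decomp {Jm : Matrix β β F} (Jn : Matrix β β F) (hJ1 : Jm * Jn = 1) (hJh : cT S Jn = Jn)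
    {g : GL (Idx α β) F} (hg : g ∈ U S (hypJ Jm)) {a b c d e f k h i}
    (eg : (g : Matrix (Idx α β) (Idx α β) F) = b3 a b c d e f k h i) (D : GL α F)
    (hD : (D : Matrix α α F) = a) :
    ∃ (c₀ : GL β F) (u v : GL (Idx α β) F), c₀ ∈ U S Jm ∧ IsUp S Jm (swap * u * swap) ∧
      IsUp S Jm v ∧ (c₀ : Matrix β β F) = e - d * (↑D⁻¹ : Matrix α α F) * b ∧
      g = u * levi S (D, c₀) * v := by
  set Di : Matrix α α F := (↑D⁻¹ : Matrix α α F)
  have hJ2 : Jn * Jm = 1 := mul_eq_one_comm.1 hJ1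
  have hDi1 : a * Di = 1 := hD ▸ D.mul_inv
  have hDi2 : Di * a = 1 := hD ▸ D.inv_mul
  let Ji : Matrix (Idx α β) (Idx α β) F := b3 0 0 1 0 Jn 0 1 0 0
  have hJJ : Ji * hypJ Jm = 1 := by simp [Ji, hypJ, b3_mul, hJ2, b3_one]
  have key : ∀ M : GL (Idx α β) F, M ∈ U S (hypJ Jm) →
      (M : Matrix (Idx α β) (Idx α β) F) * Ji * cT S (M : Matrix (Idx α β) (Idx α β) F) = Ji := by
    intro M hM
    rw [mem_U] at hM
    have h1 : Ji * cT S (M : Matrix (Idx α β) (Idx α β) F) * hypJ Jm *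
        (M : Matrix (Idx α β) (Idx α β) F) = 1 := by
      rw [Matrix.mul_assoc Ji, Matrix.mul_assoc Ji, hM, hJJ]
    have h2 : (M : Matrix (Idx α β) (Idx α β) F) * (Ji * cT S (M : Matrix (Idx α β) (Idx α β) F) * hypJ Jm) = 1 :=
      mul_eq_one_comm.1 h1
    have h3 := congrArg (fun X => X * Ji) h2
    simp only [Matrix.mul_assoc, mul_eq_one_comm.1 hJJ, Matrix.mul_one, Matrix.one_mul] at h3
    rw [Matrix.mul_assoc]; exact h3
  have hrow := key g hg
  rw [eg] at hrow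
  simp [Ji, cT_b3, b3_mul, b3_inj] at hrow
  have h11 : c * cT S a + b * Jn * cT S b + a * cT S c = 0 := hrow.1
  -- the upper factor
  let y : Matrix β α F := -(Jn * cT S (Di * b))
  let vm : GL (Idx α β) F :=
    { val := b3 1 (Di * b) (Di * c) 0 1 y 0 0 1
      inv := b3 1 (-(Di * b)) (Di * b * y - Di * c) 0 1 (-y) 0 0 1
      val_inv := by
        rw [b3_mul]; simp; abel_nf; simp [b3_one]
      inv_val := by
        rw [b3_mul]; simp; abel_nf; simp [b3_one] }
  have hv : IsUp S Jm vm := by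
    refine ⟨?_, _, _, _, rfl⟩
    rw [mem_U]
    simp [vm, y, hypJ, cT_b3, b3_mul, b3_inj, hJh, ← Matrix.mul_assoc, hJ1]
    refine ⟨by simp [Matrix.mul_assoc, hJ2], ?_⟩
    · have h2 := congrArg (fun M => Di * M * cT S Di) h11
      simp only [Matrix.mul_add, Matrix.add_mul, Matrix.mul_zero, Matrix.zero_mul] at h2
      have e1 : Di * (c * cT S a) * cT S Di = Di * c := by
        rw [Matrix.mul_assoc, Matrix.mul_assoc c, ← cT_mul, hDi2, cT_one, Matrix.mul_one]
      have e2 : Di * (a * cT S c) * cT S Di = cT S c * cT S Di := by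
        rw [← Matrix.mul_assoc Di, hDi2, Matrix.one_mul]
      rw [e1, e2] at h2
      rw [← h2]
      simp only [Matrix.mul_assoc]
      rw [← Matrix.mul_assoc Jm Jn, hJ1, Matrix.one_mul]
  set g' := g * vm⁻¹ with hg'
  have hg'U : g' ∈ U S (hypJ Jm) := mul_mem hg (inv_mem hv.1)
  obtain ⟨a', b', c', d', e', f', k', h', i', eg'⟩ := exists_b3 (g' : Matrix (Idx α β) (Idx α β) F)
  have hprod : (g : Matrix (Idx α β) (Idx α β) F) = g' * vm := by
    rw [← Units.val_mul, hg', inv_mul_cancel_right]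
  rw [eg, eg', show (vm : Matrix (Idx α β) (Idx α β) F) = b3 1 (Di * b) (Di * c) 0 1 y 0 0 1 from rfl,
    b3_mul, b3_inj] at hprod
  simp at hprod
  obtain ⟨pa, pb, pc, pd, pe, -, -, -, -⟩ := hprod
  have hb' : b' = 0 := by
    have := pb
    rw [← pa, ← Matrix.mul_assoc, hDi1, Matrix.one_mul] at this
    simpa using this.symm
  have hc' : c' = 0 := by
    have := pc
    rw [hb', Matrix.zero_mul, add_zero, ← pa, ← Matrix.mul_assoc, hDi1, Matrix.one_mul] at this
    simpa using this.symm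
  have hrow' := key g' hg'U
  rw [eg', hb', hc', ← pa] at hrow'
  simp [Ji, cT_b3, b3_mul, b3_inj] at hrow'
  obtain ⟨r12, r13, -, r22, -⟩ := hrow'
  have hf' : f' = 0 := by
    have h1 := congrArg (fun M => cT S (Di * M)) r12
    simpa [← Matrix.mul_assoc, hDi2] using h1
  have hi' : i' = cT S Di := by
    have h1 := congrArg (fun M => cT S (Di * M)) r13
    simpa [← Matrix.mul_assoc, hDi2] using h1
  rw [hf'] at r22 eg'
  simp at r22
  have hc0 : IsUnit e'.det := by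
    have h1 := congrArg (fun M => Matrix.det (M * Jm)) r22
    simp only [hJ2, det_one, det_mul] at h1
    exact isUnit_iff_ne_zero.2 fun h0 => by simp [h0] at h1
  let c₀ : GL β F := Matrix.nonsingInvUnit e' hc0
  have hc₀ : c₀ ∈ U S Jm := by
    rw [mem_U]
    show cT S e' * Jm * e' = Jm
    have h1 : e' * (Jn * cT S e' * Jm) = 1 := by
      rw [← Matrix.mul_assoc, ← Matrix.mul_assoc, r22, hJ2]
    have h2 := congrArg (fun M => Jm * M) (mul_eq_one_comm.1 h1)
    simp only [← Matrix.mul_assoc, hJ1, Matrix.one_mul, Matrix.mul_one] at h2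
    exact h2
  refine ⟨c₀, g' * (levi S (D, c₀))⁻¹, vm, hc₀, ⟨?_, ?_⟩, hv, ?_, ?_⟩
  · exact mul_mem (mul_mem (swap_mem S) (mul_mem hg'U (inv_mem (levi_mem S D hc₀)))) (swap_mem S)
  · have hl : (levi S (D, c₀))⁻¹ = levi S (D⁻¹, c₀⁻¹) := by rw [← map_inv]; rfl
    have hcc : e' * (↑c₀⁻¹ : Matrix β β F) = 1 := c₀.mul_inv
    refine ⟨h' * (↑c₀⁻¹ : Matrix β β F), k' * Di, d' * Di, ?_⟩
    rw [Units.val_mul, Units.val_mul, Units.val_mul, hl, levi_val, eg', hb', hc', hi', ← pa]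
    simp [swap, b3_mul, ← cT_mul, -Matrix.coe_units_inv, hcc, hDi1, hD, Di]
  · show e' = e - d * Di * b
    rw [pd, pe]
    simp [Matrix.mul_assoc]
  · rw [hg']; group

/-- The criterion. -/
theorem com_of_block {Jm : Matrix β β F} (Jn : Matrix β β F) (hJ1 : Jm * Jn = 1)
    (hJh : cT S Jn = Jn) {g : GL (Idx α β) F} (hg : g ∈ U S (hypJ Jm)) {a b c d e f k h i}
    (eg : (g : Matrix (Idx α β) (Idx α β) F) = b3 a b c d e f k h i) (A B : GL α F) (e₁ e₂ : GL β F)
    (he₁ : e₁ ∈ U S Jm) (he₂ : e₂ ∈ U S Jm) (hA : Free S A e₁) (hB : Free S B e₂)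
    (ha : a = (A : Matrix α α F) * (B : Matrix α α F))
    (hc : e - d * (↑(A * B)⁻¹ : Matrix α α F) * b = (e₁ : Matrix β β F) * (e₂ : Matrix β β F))
    (hdet : (levi S (A, e₁) : Matrix (Idx α β) (Idx α β) F).det = 1)
    {w : GL (Idx α β) F} (hw : w ∈ U S (hypJ Jm))
    (hwd : (w : Matrix (Idx α β) (Idx α β) F).det = 1)
    (hconj : w * (levi S (A, e₁))⁻¹ * w⁻¹ = levi S (B, e₂)) : Com S (hypJ Jm) g := by
  have hJu : IsUnit Jm.det := Matrix.isUnit_det_of_right_inverse hJ1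
  obtain ⟨c₀, u, v, hc₀, hu, hv, ec, rfl⟩ := exists_decomp S Jn hJ1 hJh hg eg (A * B) (by simp [ha])
  have hce : c₀ = e₁ * e₂ := Units.ext (by rw [ec, hc]; rfl)
  obtain ⟨t, ht, htd, et⟩ := exists_low_conj S hJu A he₁ hA hu
  obtain ⟨s, hs, es⟩ := exists_up_conj S hJu B he₂ hB.hx hB.hX hv
  set p := t * levi S (A, e₁) * t⁻¹
  have key : u * levi S (A * B, c₀) * v = p * (s * levi S (B, e₂) * s⁻¹) := by
    rw [et, es, hce, show ((A * B, e₁ * e₂) : GL α F × GL β F) = (A, e₁) * (B, e₂) from rfl, map_mul]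
    simp only [mul_assoc]
  refine ⟨p, mul_mem (mul_mem ht (levi_mem S A he₁)) (inv_mem ht), s * w * t⁻¹,
    mul_mem (mul_mem hs.1 hw) (inv_mem ht), ?_, ?_, ?_⟩
  · have hinv : (↑t⁻¹ : Matrix (Idx α β) (Idx α β) F).det = 1 := by
      have h1 := congrArg Matrix.det t.mul_inv
      rwa [det_mul, det_one, htd, one_mul] at h1
    simp only [p, Units.val_mul, det_mul, htd, hdet, hinv, mul_one]
  · have hinv : (↑t⁻¹ : Matrix (Idx α β) (Idx α β) F).det = 1 := by
      have h1 := congrArg Matrix.det t.mul_inv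
      rwa [det_mul, det_one, htd, one_mul] at h1
    simp only [Units.val_mul, det_mul, hinv, hwd, hs.det S, mul_one]
  · rw [key, ← hconj]
    simp only [p]
    group

end Cfsg.Agent.H31.OreSU
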