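/-
A hyperbolic frame in a cyclic hermitian space.
-/
import Cfsg.Agent.H31.OreSU.Basic
import Cfsg.Agent.H31.OreSU.Levi
import Cfsg.Agent.H60.Ore.Tail

set_option autoImplicit false
set_option linter.unusedSectionVars false

namespace Cfsg.Agent.H31.OreSU

open Matrix
open Cfsg.Agent.H60.Ore (Hess)

variable {F : Type*} [Field F] [Finite F] (S : UConj F)

/-- Three groups of columns. -/
def cols3 {ι α β γ : Type} (A : Matrix ι α F) (B : Matrix ι β F) (C : Matrix ι γ F) :
    Matrix ι (α ⊕ (β ⊕ γ)) F := Matrix.of fun n => Sum.elim (A n) (Sum.elim (B n) (C n))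

theorem mul_cols3 {ι κ α β γ : Type} [Fintype ι] (M : Matrix κ ι F) (A : Matrix ι α F)
    (B : Matrix ι β F) (C : Matrix ι γ F) : M * cols3 A B C = cols3 (M * A) (M * B) (M * C) := by
  ext n (x | x | x) <;> simp [cols3, Matrix.mul_apply]

theorem cols3_gram {ι α β γ α' β' γ' : Type} [Fintype ι] (M : Matrix ι ι F) (A : Matrix ι α F)
    (B : Matrix ι β F) (C : Matrix ι γ F) (A' : Matrix ι α' F) (B' : Matrix ι β' F) (C' : Matrix ι γ' F) :
    cT S (cols3 A B C) * M * cols3 A' B' C' = b3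
      (cT S A * M * A') (cT S A * M * B') (cT S A * M * C')
      (cT S B * M * A') (cT S B * M * B') (cT S B * M * C')
      (cT S C * M * A') (cT S C * M * B') (cT S C * M * C') := by
  ext (x | x | x) (y | y | y) <;> simp [cols3, b3, Matrix.mul_apply, cT_apply]

theorem exists_half {k : ℕ} (G : Matrix (Fin k) (Fin k) F) (hG : cT S G = G) :
    ∃ C : Matrix (Fin k) (Fin k) F, C + cT S C = G := by
  obtain ⟨θ, hθ⟩ := S.tr
  refine ⟨Matrix.of fun i j => if i < j then G i j else if i = j then θ * G i i else 0, ?_⟩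
  ext i j
  have hG' : S.σ (G j i) = G i j := by conv_rhs => rw [← hG, cT_apply]
  rw [Matrix.add_apply, cT_apply, Matrix.of_apply, Matrix.of_apply]
  rcases lt_trichotomy i j with h | rfl | h
  · rw [if_pos h, if_neg h.asymm, if_neg h.ne', map_zero, add_zero]
  · rw [if_neg (lt_irrefl i), if_pos rfl, map_mul, hG', ← add_mul, hθ, one_mul]
  · rw [if_neg h.asymm, if_neg h.ne', if_pos h, hG', zero_add]

theorem top_in {N k r : ℕ} (hk : 1 ≤ k) (hN : N = 2 * k + r) (hr : r ≤ 1)
    (M : Matrix (Fin N) (Fin N) F) (hM : IsUnit M.det) (hMh : cT S M = M)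
    (hlow : ∀ i j : Fin N, i.val < k → j.val < k → M i j = 0)
    (hcol : ∀ i j : Fin N, j.val = k → 1 ≤ i.val → i.val < k → M i j = 0)
    (hβ : ∀ i j : Fin N, i.val = 0 → j.val = k → M i j ≠ 0)
    (C : Matrix (Fin N) (Fin N) F)
    (hC : ∀ i j : Fin N, j.val < k → C i j = if i.val = j.val + 1 then 1 else 0) :
    ∃ (μ : Fin r → F) (E Q : Matrix (Fin N) (Idx (Fin k) (Fin r)) F) (a : Matrix (Fin k) (Fin k) F)
      (b : Matrix (Fin k) (Fin r) F) (c : Matrix (Fin k) (Fin k) F) (Md : Fin r → F)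
      (f : Matrix (Fin r) (Fin k) F) (β : F) (h : Matrix (Fin k) (Fin r) F) (i : Matrix (Fin k) (Fin k) F),
      (∀ x, μ x ≠ 0 ∧ S.σ (μ x) = μ x) ∧ cT S E * M * E = hypJ (diagonal μ) ∧ E * Qᵀ = 1 ∧
        C * E = E * b3 a b c 0 (diagonal Md) f
          (Matrix.of fun x y => if x.val = 0 ∧ y.val + 1 = k then β else 0) h i ∧
        Hess a ∧ β ≠ 0 := by
  classical
  have hkN : k < N := by omega
  let ι₀ : Fin k → Fin N := fun i => ⟨i.val, by omega⟩
  let pk : Fin N := ⟨k, hkN⟩
  let z0 : Fin N := ⟨0, by omega⟩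
  let k0 : Fin k := ⟨0, by omega⟩
  let E0 : Matrix (Fin N) (Fin k) F := (1 : Matrix (Fin N) (Fin N) F).submatrix id ι₀
  have hE0l : ∀ {κ : Type} (X : Matrix κ (Fin N) F), X * E0 = X.submatrix id ι₀ := fun X => by
    ext i j; simp [E0, Matrix.mul_apply, Matrix.one_apply]
  have hcE0 : cT S E0 = (1 : Matrix (Fin N) (Fin N) F).submatrix ι₀ id := by
    ext i j; simp [E0, cT_apply, Matrix.one_apply, eq_comm]
  have hE0r : ∀ {κ : Type} (X : Matrix (Fin N) κ F), cT S E0 * X = X.submatrix ι₀ id := fun X => by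
    rw [hcE0]; ext i j; simp [Matrix.mul_apply, Matrix.one_apply]
  have hEE : cT S E0 * M * E0 = 0 := by
    rw [hE0r, hE0l]; ext i j; exact hlow _ _ i.isLt j.isLt
  have flip : ∀ {α β : Type} [Fintype α] [Fintype β] [DecidableEq α] [DecidableEq β] (A : Matrix (Fin N) α F) (B : Matrix (Fin N) β F),
      cT S (cT S A * M * B) = cT S B * M * A := by
    intros
    rw [cT_mul, cT_mul, cT_cT, hMh, Matrix.mul_assoc]
  set F0 := M⁻¹ * E0
  have hEF0 : cT S E0 * M * F0 = 1 := by
    rw [Matrix.mul_assoc, ← Matrix.mul_assoc M, Matrix.mul_nonsing_inv _ hM, Matrix.one_mul, hE0r]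
    ext i j; simp [E0, Matrix.one_apply, ι₀, Fin.ext_iff]
  obtain ⟨C1, hC1⟩ := exists_half S (cT S F0 * M * F0) (flip F0 F0)
  set F1 := F0 - E0 * C1
  have hEF1 : cT S E0 * M * F1 = 1 := by
    rw [Matrix.mul_sub, hEF0, ← Matrix.mul_assoc, hEE, Matrix.zero_mul, sub_zero]
  have hFE0 : cT S F0 * M * E0 = 1 := by rw [← flip, hEF0, cT_one]
  have hFF1 : cT S F1 * M * F1 = 0 := by
    have e : cT S F1 * M * F1 = cT S F0 * M * F0 - cT S F0 * M * E0 * C1
        - (cT S C1 * (cT S E0 * M * F0) - cT S C1 * (cT S E0 * M * E0) * C1) := by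
      simp only [F1, cT_sub, cT_mul, Matrix.sub_mul, Matrix.mul_sub, Matrix.mul_assoc]
      abel
    rw [e, hFE0, hEF0, hEE, ← hC1]; simp
  have hF1E : cT S F1 * M * E0 = 1 := by rw [← flip, hEF1, cT_one]
  obtain ⟨m1, μ, hμ, hEm, hFm, hmm⟩ : ∃ (m1 : Matrix (Fin N) (Fin r) F) (μ : Fin r → F),
      (∀ x, μ x ≠ 0 ∧ S.σ (μ x) = μ x) ∧ cT S E0 * M * m1 = 0 ∧ cT S F1 * M * m1 = 0 ∧
        cT S m1 * M * m1 = diagonal μ := by
    rcases (show r = 0 ∨ r = 1 by omega) with rfl | rfl
    · exact ⟨0, fun _ => 0, fun x => x.elim0, by simp, by simp, by ext i; exact i.elim0⟩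
    · obtain ⟨x, hx, hx0⟩ : ∃ x : Fin N → F, (fromRows (cT S E0 * M) (cT S F1 * M)) *ᵥ x = 0 ∧ x ≠ 0 := by
        by_contra hc
        push Not at hc
        have hinj : Function.Injective fun x : Fin N → F => fromRows (cT S E0 * M) (cT S F1 * M) *ᵥ x :=
          fun a b hab => sub_eq_zero.1 (hc _ (by rw [Matrix.mulVec_sub]; exact sub_eq_zero.2 hab))
        have := LinearMap.finrank_le_finrank_of_injective
          (f := Matrix.mulVecLin (fromRows (cT S E0 * M) (cT S F1 * M))) hinj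
        simp [Module.finrank_pi] at this
        omega
      have hx' := congrFun hx
      simp only [Matrix.fromRows_mulVec] at hx'
      let m1 : Matrix (Fin N) (Fin 1) F := Matrix.of fun i _ => x i
      have e1 : cT S E0 * M * m1 = 0 := by ext i j; exact hx' (Sum.inl i)
      have e2 : cT S F1 * M * m1 = 0 := by ext i j; exact hx' (Sum.inr i)
      refine ⟨m1, fun _ => (cT S m1 * M * m1) 0 0, fun _ => ⟨fun h0 => hx0 ?_, ?_⟩, e1, e2,
        by ext i j; simp [Subsingleton.elim i 0, Subsingleton.elim j 0]⟩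
      swap
      · conv_rhs => rw [← flip m1 m1, cT_apply]
      have hmm0 : cT S m1 * M * m1 = 0 := by
        ext i j; rw [Subsingleton.elim i 0, Subsingleton.elim j 0]; exact h0
      set B := cols3 E0 m1 F1
      have hBinj : ∀ v, B *ᵥ v = 0 → v = 0 := by
        intro v hv
        let vm : Matrix (Fin 1 ⊕ Fin k) (Fin 1) F := Matrix.of fun i _ => v (Sum.inr i)
        have hsplit : E0 *ᵥ (fun i => v (Sum.inl i)) + m1 *ᵥ (fun i => v (Sum.inr (Sum.inl i))) +
            F1 *ᵥ (fun i => v (Sum.inr (Sum.inr i))) = 0 := by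
          rw [← hv]; funext n; simp [B, cols3, Matrix.mulVec, dotProduct, Fintype.sum_sum_type, add_assoc]
        have a1 := congrArg (fun w => (cT S E0 * M) *ᵥ w) hsplit
        have a2 := congrArg (fun w => (cT S F1 * M) *ᵥ w) hsplit
        simp only [Matrix.mulVec_add, Matrix.mulVec_mulVec, hEE, e1, hEF1, hF1E, e2, hFF1,
          Matrix.zero_mulVec, Matrix.one_mulVec, Matrix.mulVec_zero, zero_add, add_zero] at a1 a2
        rw [a1, a2, Matrix.mulVec_zero, Matrix.mulVec_zero, zero_add, add_zero] at hsplit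
        have hvm : v (Sum.inr (Sum.inl 0)) = 0 := by
          by_contra hne
          refine hx0 (funext fun n => ?_)
          have := congrFun hsplit n
          simp [m1, Matrix.mulVec, dotProduct] at this
          exact this.resolve_right hne
        funext i
        rcases i with i | i | i
        · exact congrFun a2 i
        · rw [Subsingleton.elim i 0]; exact hvm
        · exact congrFun a1 i
      have hsurj : Function.Surjective (Matrix.mulVecLin B) :=
        (LinearMap.injective_iff_surjective_of_finrank_eq_finrank (by simp [Module.finrank_pi]; omega)).1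
          ((injective_iff_map_eq_zero _).2 hBinj)
      have hall : ∀ y : Fin N → F, ((cT S m1 * M) *ᵥ y) = 0 := by
        intro y
        obtain ⟨v, rfl⟩ := hsurj y
        rw [Matrix.mulVecLin_apply, Matrix.mulVec_mulVec,
          show cT S m1 * M * B = cols3 (cT S m1 * M * E0) (cT S m1 * M * m1) (cT S m1 * M * F1) from
            mul_cols3 _ _ _ _, show cT S m1 * M * E0 = 0 by rw [← flip, e1, cT_zero],
          show cT S m1 * M * F1 = 0 by rw [← flip, e2, cT_zero], hmm0]
        funext i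
        simp [cols3, Matrix.mulVec, dotProduct, Fintype.sum_sum_type]
      have hz : cT S m1 * M = 0 := by
        ext i j
        simpa [Matrix.mulVec, dotProduct, Pi.single_apply, mul_ite] using congrFun (hall (Pi.single j 1)) i
      have hMm : M * m1 = 0 := by
        have := congrArg (cT S) hz
        rwa [cT_mul, hMh, cT_cT, cT_zero] at this
      have hm0 : m1 = 0 := by
        have := congrArg (fun X => M⁻¹ * X) hMm
        simpa [← Matrix.mul_assoc, Matrix.nonsing_inv_mul _ hM] using this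
      funext n
      exact congrFun (congrFun hm0 n) 0
  -- shift the middle
  set β := M z0 pk
  have hβ0 : β ≠ 0 := hβ z0 pk rfl rfl
  let pcol : Matrix (Fin N) (Fin 1) F := (1 : Matrix (Fin N) (Fin N) F).submatrix id fun _ => pk
  let c : Matrix (Fin k) (Fin r) F := Matrix.of fun i j =>
    if i.val = 0 then S.σ ((cT S m1 * M) j pk / β) else 0
  set m2 := m1 - E0 * c
  have hEm2 : cT S E0 * M * m2 = 0 := by
    rw [Matrix.mul_sub, hEm, ← Matrix.mul_assoc, hEE, Matrix.zero_mul, sub_zero]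
  have hmE1 : cT S m1 * M * E0 = 0 := by rw [← flip, hEm, cT_zero]
  have hmE2 : cT S m2 * M * E0 = 0 := by rw [← flip, hEm2, cT_zero]
  have hmm2 : cT S m2 * M * m2 = diagonal μ := by
    have e : cT S m2 * M * m2 = cT S m1 * M * m1 - cT S m1 * M * E0 * c
        - (cT S c * (cT S E0 * M * m1) - cT S c * (cT S E0 * M * E0) * c) := by
      simp only [m2, cT_sub, cT_mul, Matrix.sub_mul, Matrix.mul_sub, Matrix.mul_assoc]
      abel
    rw [e, hmm, hmE1, hEm, hEE]; simp
  have hm2k : ∀ j, (cT S m2 * M) j pk = 0 := by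
    intro j
    have : cT S m2 * M = cT S m1 * M - cT S c * (M.submatrix ι₀ id) := by
      rw [← hE0r]; simp only [m2, cT_sub, cT_mul, Matrix.sub_mul, Matrix.mul_assoc]
    rw [this, Matrix.sub_apply, sub_eq_zero]
    conv_rhs => rw [Matrix.mul_apply]
    rw [Finset.sum_eq_single k0 (fun i _ hi => ?_) (by simp)]
    · simp only [cT_apply, c, Matrix.of_apply, k0, if_true, S.inv, submatrix_apply, id_eq]
      show _ = _ * M z0 pk
      rw [div_mul_cancel₀ _ hβ0]
    · rw [submatrix_apply, id_eq, hcol _ pk rfl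
        (Nat.one_le_iff_ne_zero.2 fun h => hi (Fin.ext h)) i.isLt, mul_zero]
  -- adjust the dual part
  set t := diagonal (fun x => (μ x)⁻¹) * cT S c
  set F2 := F1 + m2 * t
  have hm2F1 : cT S m2 * M * F1 = -cT S c := by
    rw [← flip F1 m2, Matrix.mul_sub, hFm, ← Matrix.mul_assoc, hF1E, Matrix.one_mul, zero_sub, cT_neg]
  have hm2F2 : cT S m2 * M * F2 = 0 := by
    rw [Matrix.mul_add, hm2F1, ← Matrix.mul_assoc, hmm2, ← Matrix.mul_assoc, diagonal_mul_diagonal,
      show (fun x => μ x * (μ x)⁻¹) = fun _ => (1 : F) from funext fun x => mul_inv_cancel₀ (hμ x).1,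
      diagonal_one, Matrix.one_mul, neg_add_cancel]
  have hEF2 : cT S E0 * M * F2 = 1 := by
    rw [Matrix.mul_add, hEF1, ← Matrix.mul_assoc, hEm2, Matrix.zero_mul, add_zero]
  have hF2E : cT S F2 * M * E0 = 1 := by rw [← flip, hEF2, cT_one]
  obtain ⟨C2, hC2⟩ := exists_half S (cT S F2 * M * F2) (flip F2 F2)
  set F3 := F2 - E0 * C2
  have hEF3 : cT S E0 * M * F3 = 1 := by
    rw [Matrix.mul_sub, hEF2, ← Matrix.mul_assoc, hEE, Matrix.zero_mul, sub_zero]
  have hmF3 : cT S m2 * M * F3 = 0 := by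
    rw [Matrix.mul_sub, hm2F2, ← Matrix.mul_assoc, hmE2, Matrix.zero_mul, sub_zero]
  have hFF3 : cT S F3 * M * F3 = 0 := by
    have e : cT S F3 * M * F3 = cT S F2 * M * F2 - cT S F2 * M * E0 * C2
        - (cT S C2 * (cT S E0 * M * F2) - cT S C2 * (cT S E0 * M * E0) * C2) := by
      simp only [F3, cT_sub, cT_mul, Matrix.sub_mul, Matrix.mul_sub, Matrix.mul_assoc]
      abel
    rw [e, hF2E, hEF2, hEE, ← hC2]; simp
  set E := cols3 E0 m2 F3
  have hgram : cT S E * M * E = hypJ (diagonal μ) := by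
    rw [cols3_gram S M, hEE, hEm2, hEF3, hmE2, hmm2, hmF3, hFF3,
      show cT S F3 * M * E0 = 1 by rw [← flip, hEF3, cT_one],
      show cT S F3 * M * m2 = 0 by rw [← flip, hmF3, cT_zero]]
    rfl
  set Qm : Matrix (Idx (Fin k) (Fin r)) (Fin N) F :=
    (hypJ (diagonal fun x => (μ x)⁻¹)) * (cT S E * M)
  have hJJ : (hypJ (diagonal fun x => (μ x)⁻¹) : Matrix (Idx (Fin k) (Fin r)) _ F) * hypJ (diagonal μ) = 1 := by
    simp [hypJ, b3_mul, diagonal_mul_diagonal, fun x => (hμ x).1, b3_one]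
  have hQE : Qm * E = 1 := by
    exact (Matrix.mul_assoc _ _ _).trans ((congrArg _ hgram).trans hJJ)
  have hEQ : E * Qm = 1 := by
    let e : Idx (Fin k) (Fin r) ≃ Fin N := Fintype.equivFinOfCardEq (by simp; omega)
    exact (Matrix.mul_eq_one_comm_of_equiv e).1 hQE
  obtain ⟨a, b, c', d, e', f, kk, h', i', hG⟩ := exists_b3 (Qm * C * E)
  have hCE : C * E = E * (Qm * C * E) := by
    rw [← Matrix.mul_assoc, ← Matrix.mul_assoc, hEQ, Matrix.one_mul]
  have hcomp : cT S E * M * (C * E) = hypJ (diagonal μ) * b3 a b c' d e' f kk h' i' := by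
    rw [hCE, ← Matrix.mul_assoc, hgram, hG]
  rw [mul_cols3, cols3_gram S M, hypJ, b3_mul, b3_inj] at hcomp
  simp only [Matrix.zero_mul, Matrix.one_mul, zero_add, add_zero] at hcomp
  obtain ⟨hk', -, -, hd, -, -, ha, -, -⟩ := hcomp
  have hC0 : ∀ (j : Fin k) (i : Fin N), (C * E0) i j = if i.val = j.val + 1 then 1 else 0 := fun j i => by
    rw [hE0l]; exact hC i (ι₀ j) j.isLt
  have hXC : ∀ {κ : Type} (X : Matrix κ (Fin N) F) (x : κ) (j : Fin k),
      (X * (C * E0)) x j = X x ⟨j.val + 1, by omega⟩ := fun X x j => by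
    rw [Matrix.mul_apply, Finset.sum_eq_single ⟨j.val + 1, by omega⟩ (fun i _ hi => ?_) (by simp)]
    · rw [hC0, if_pos rfl, mul_one]
    · rw [hC0, if_neg (fun e => hi (Fin.ext e)), mul_zero]
  have hsucc : ∀ {κ : Type} (X : Matrix κ (Fin N) F) (x : κ) (j : Fin k) (hj : j.val + 1 < k),
      X x ⟨j.val + 1, by omega⟩ = (X * E0) x ⟨j.val + 1, hj⟩ := fun X x j hj => by rw [hE0l]; rfl
  have hd0 : d = 0 := by
    have h1 : diagonal μ * d = 0 := by
      rw [← hd]
      ext x j
      rw [hXC, Matrix.zero_apply]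
      rcases (show j.val + 1 = k ∨ j.val + 1 < k by omega) with hj | hj
      · rw [show (⟨j.val + 1, _⟩ : Fin N) = pk from Fin.ext hj]; exact hm2k x
      · rw [hsucc (cT S m2 * M) x j hj, hmE2]; rfl
    ext x j
    have := congrFun (congrFun h1 x) j
    rw [diagonal_mul, Matrix.zero_apply] at this
    exact (mul_eq_zero.1 this).resolve_left (hμ x).1
  have hk2 : kk = Matrix.of fun x y => if x.val = 0 ∧ y.val + 1 = k then β else 0 := by
    rw [← hk']
    ext x j
    rw [hXC, Matrix.of_apply, hE0r, submatrix_apply, id_eq]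
    rcases (show j.val + 1 = k ∨ j.val + 1 < k by omega) with hj | hj
    · rw [show (⟨j.val + 1, _⟩ : Fin N) = pk from Fin.ext hj]
      by_cases hx : x.val = 0
      · rw [if_pos ⟨hx, hj⟩, show ι₀ x = z0 from Fin.ext hx]
      · rw [if_neg fun h => hx h.1]; exact hcol _ _ rfl (Nat.one_le_iff_ne_zero.2 hx) x.isLt
    · rw [if_neg fun h => by omega]; exact hlow _ _ x.isLt hj
  have hHa : Hess a := by
    have key : ∀ (x j : Fin k), j.val + 1 < k → a x j = if x.val = j.val + 1 then 1 else 0 := by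
      intro x j hj
      rw [← ha, hXC, hsucc (cT S F3 * M) x j hj, show cT S F3 * M * E0 = 1 by rw [← flip, hEF3, cT_one],
        Matrix.one_apply]
      exact if_congr Fin.ext_iff rfl rfl
    refine ⟨fun x j h => ?_, fun x j h => ?_⟩
    · rw [key x j (by omega), if_neg (by omega)]
    · rw [key x j (by omega), if_pos h]; exact one_ne_zero
  have he' : e' = diagonal fun x => e' x x := by
    ext x y
    have hxy : x = y := Fin.ext (by omega)
    subst hxy
    rw [diagonal_apply_eq]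
  refine ⟨μ, E, Qmᵀ, a, b, c', fun x => e' x x, f, β, h', i', hμ, hgram, by rw [transpose_transpose, hEQ],
    ?_, hHa, hβ0⟩
  rw [← he', ← hk2, ← hd0, ← hG]
  exact hCE

end Cfsg.Agent.H31.OreSU
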