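/-
Frames for non-degenerate cyclic subspaces, and their existence for non-scalar isometries.
-/
import Cfsg.Agent.H31.OreSU.Norm
import Cfsg.Agent.H31.OreSU.TopIn

set_option autoImplicit false
set_option linter.unusedSectionVars false

namespace Cfsg.Agent.H31.OreSU

open Matrix Polynomial
open Cfsg.Agent.H60.Ore (Hess comp compOf)

variable {F : Type*} [Field F] [Finite F] (S : UConj F)
variable {ι : Type} [Fintype ι] [DecidableEq ι]

/-- The shape of a top block. -/
def TopBlk {k r : ℕ} (G0 : Matrix (Idx (Fin k) (Fin r)) (Idx (Fin k) (Fin r)) F) : Prop :=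
  ∃ (a : Matrix (Fin k) (Fin k) F) (b : Matrix (Fin k) (Fin r) F) (c : Matrix (Fin k) (Fin k) F)
    (Md : Fin r → F) (f : Matrix (Fin r) (Fin k) F) (β : F) (h : Matrix (Fin k) (Fin r) F)
    (i : Matrix (Fin k) (Fin k) F),
    G0 = b3 a b c 0 (diagonal Md) f
      (Matrix.of fun x y => if x.val = 0 ∧ y.val + 1 = k then β else 0) h i ∧
    Hess a ∧ β ≠ 0

/-- A non-degenerate invariant subspace with a top frame. -/
def HasTop (J : Matrix ι ι F) (g : GL ι F) (k r : ℕ) : Prop :=
  ∃ (μ : Fin r → F) (E : Matrix ι (Idx (Fin k) (Fin r)) F)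
    (G0 : Matrix (Idx (Fin k) (Fin r)) (Idx (Fin k) (Fin r)) F),
    (∀ x, μ x ≠ 0 ∧ S.σ (μ x) = μ x) ∧ cT S E * J * E = hypJ (diagonal μ) ∧
      (g : Matrix ι ι F) * E = E * G0 ∧ TopBlk G0

theorem top_of_piece {J : Matrix ι ι F} (hJ : cT S J = J) {g : GL ι F} (hg : g ∈ U S J) {v : ι → F}
    {P : F[X]} (hv : IsPiece S J g v P) (hN : 2 ≤ P.natDegree) :
    HasTop S J g (P.natDegree / 2) (P.natDegree % 2) := by
  classical
  haveI := Fintype.ofFinite F
  obtain ⟨hP, hPv, hnd, hpr⟩ := hv
  set G : Matrix ι ι F := (g : Matrix ι ι F)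
  set N0 := orderOf g
  have hN0 : 0 < N0 := orderOf_pos g
  have hg1 : g ^ N0 = 1 := pow_orderOf_eq_one g
  have hmv : ∀ (p q : F[X]) (x : ι → F), aeval G p *ᵥ (aeval G q *ᵥ x) = aeval G (p * q) *ᵥ x :=
    fun p q x => by rw [Matrix.mulVec_mulVec, map_mul]
  have hadj := fun p x y => hf_adj S hg hN0 hg1 p x y
  have hτP : P ∣ tau S N0 P := hnd _ fun q => by
    rw [← hadj, ← hf_conj S hJ, hmv, mul_comm, ← hmv, hPv, Matrix.mulVec_zero, hf_zero_left, map_zero]
  have hPX : P ∣ X ^ N0 - 1 := hnd _ fun q => by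
    rw [map_sub, map_pow, aeval_X, map_one, ← Units.val_pow_eq_pow_val, hg1, Units.val_one, sub_self,
      Matrix.zero_mulVec, hf_zero_left]
  set R := AdjoinRoot P
  have hcomp : ((AdjoinRoot.of P).comp S.σ) = ((AdjoinRoot.mk P).comp (tau S N0)).comp C := by
    refine RingHom.ext fun a => ?_
    simp
  have h0 : P.eval₂ ((AdjoinRoot.of P).comp S.σ) (AdjoinRoot.root P ^ (N0 - 1)) = 0 := by
    have h : ∀ p : F[X], p.eval₂ ((AdjoinRoot.of P).comp S.σ) (AdjoinRoot.root P ^ (N0 - 1)) =
        AdjoinRoot.mk P (tau S N0 p) := fun p => by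
      induction p using Polynomial.induction_on' with
      | add p q hp hq => rw [eval₂_add, map_add, map_add, hp, hq]
      | monomial n a => rw [eval₂_monomial, ← C_mul_X_pow_eq_monomial]; simp
    rw [h]; exact AdjoinRoot.mk_eq_zero.2 hτP
  let t : R →+* R := AdjoinRoot.lift ((AdjoinRoot.of P).comp S.σ) (AdjoinRoot.root P ^ (N0 - 1)) h0
  have ht : ∀ p, t (AdjoinRoot.mk P p) = AdjoinRoot.mk P (tau S N0 p) := fun p => by
    refine (AdjoinRoot.lift_mk (f := P) h0 p).trans ?_
    induction p using Polynomial.induction_on' with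
    | add p q hp hq => rw [eval₂_add, map_add, map_add, hp, hq]
    | monomial n a => rw [eval₂_monomial, ← C_mul_X_pow_eq_monomial]; simp
  let ev : R →ₗ[F] (ι → F) :=
    { toFun := fun r => aeval G (AdjoinRoot.modByMonicHom hP r) *ᵥ v
      map_add' := fun a b => by rw [map_add, map_add, Matrix.add_mulVec]
      map_smul' := fun c a => by
        rw [map_smul, map_smul, Matrix.smul_mulVec, RingHom.id_apply] }
  have hev : ∀ p, ev (AdjoinRoot.mk P p) = aeval G p *ᵥ v := fun p => by
    show aeval G (AdjoinRoot.modByMonicHom hP (AdjoinRoot.mk P p)) *ᵥ v = _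
    rw [AdjoinRoot.modByMonicHom_mk]
    conv_rhs => rw [← modByMonic_add_div p P, map_add, Matrix.add_mulVec, mul_comm, ← hmv, hPv,
      Matrix.mulVec_zero, add_zero]
  let ℓ : R →ₗ[F] F :=
    { toFun := fun r => hf S J (ev r) v
      map_add' := fun a b => by rw [map_add, hf_add_left]
      map_smul' := fun c a => by rw [map_smul, hf_smul_left, RingHom.id_apply, smul_eq_mul] }
  have hℓ : ∀ x y : R, hf S J (ev x) (ev y) = ℓ (t y * x) := fun x y => by
    obtain ⟨p, rfl⟩ := AdjoinRoot.mk_surjective x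
    obtain ⟨q, rfl⟩ := AdjoinRoot.mk_surjective y
    show _ = hf S J (ev _) v
    rw [ht, ← map_mul, hev, hev, hev, hadj, hmv]
  have hℓt : ∀ r, ℓ (t r) = S.σ (ℓ r) := fun r => by
    show hf S J (ev (t r)) v = S.σ (hf S J (ev r) v)
    obtain ⟨p, rfl⟩ := AdjoinRoot.mk_surjective r
    rw [ht, hev, hev, ← hadj, hf_conj S hJ]
  have hℓnd : ∀ a, (∀ b, ℓ (a * b) = 0) → a = 0 := by
    intro a ha
    obtain ⟨p, rfl⟩ := AdjoinRoot.mk_surjective a
    refine AdjoinRoot.mk_eq_zero.2 (hnd p fun q => ?_)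
    rw [← hev, ← hev, hℓ, mul_comm]
    exact ha _
  have htz : t (AdjoinRoot.root P) * AdjoinRoot.root P = 1 := by
    rw [← AdjoinRoot.mk_X, ht, tau_X, ← map_mul, ← pow_succ, Nat.sub_add_cancel hN0]
    have := AdjoinRoot.mk_eq_zero.2 hPX
    rwa [map_sub, map_one, sub_eq_zero] at this
  have htC : ∀ a : F, t (AdjoinRoot.of P a) = AdjoinRoot.of P (S.σ a) := fun a => by
    rw [← AdjoinRoot.mk_C, ht, tau_C, AdjoinRoot.mk_C]
  obtain ⟨a, ha0, hak⟩ := exists_gen S hP hN t htC htz ℓ hℓt hℓnd hpr
  set N := P.natDegree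
  set k := N / 2
  set z := AdjoinRoot.root P
  -- the Gram matrix
  let Pw : Matrix ι (Fin N) F := Matrix.of fun x i => ev (z ^ i.val * (a : R)) x
  set M := cT S Pw * J * Pw
  have hMij : ∀ i j, M i j = ℓ (t (z ^ i.val * (a : R)) * (z ^ j.val * (a : R))) := fun i j => by
    rw [← hℓ]
    show (cT S Pw * J * Pw) i j = _
    rw [Matrix.mul_assoc]
    simp [hf, dotProduct, Matrix.mulVec, Matrix.mul_apply, cT_apply, Pw]
  have hMh : cT S M = M := by rw [cT_mul, cT_mul, cT_cT, hJ, ← Matrix.mul_assoc]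
  have hpow : ∀ i j : ℕ, i ≤ j → t (z ^ i * (a : R)) * (z ^ j * (a : R)) = z ^ (j - i) * (a * t a) := by
    intro i j hij
    have h1 : t z ^ i * z ^ i = 1 := by rw [← mul_pow, htz, one_pow]
    conv_lhs => rw [← Nat.sub_add_cancel hij, pow_add]
    rw [map_mul, map_pow]
    linear_combination (z ^ (j - i) * ((a : R) * t a)) * h1
  have hle : ∀ i j : Fin N, i.val ≤ j.val → M i j = ℓ (z ^ (j.val - i.val) * (a * t a)) := fun i j h => by
    rw [hMij, hpow _ _ h]
  have hlow : ∀ i j : Fin N, i.val < k → j.val < k → M i j = 0 := by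
    intro i j hi hj
    rcases Nat.le_total i.val j.val with h | h
    · rw [hle i j h]; exact ha0 _ (by omega)
    · rw [← hMh, cT_apply, hle j i h, ha0 _ (by omega), map_zero]
  have hcol : ∀ i j : Fin N, j.val = k → 1 ≤ i.val → i.val < k → M i j = 0 := fun i j hj h1 h2 => by
    rw [hle i j (by omega)]; exact ha0 _ (by omega)
  have hβ : ∀ i j : Fin N, i.val = 0 → j.val = k → M i j ≠ 0 := fun i j hi hj => by
    rw [hle i j (by omega), hi, hj, Nat.sub_zero]; exact hak
  let pb := AdjoinRoot.powerBasis hP.ne_zero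
  have hMdet : IsUnit M.det := by
    rw [← Matrix.isUnit_iff_isUnit_det, ← Matrix.mulVec_injective_iff_isUnit]
    refine (injective_iff_map_eq_zero M.mulVecLin).2 fun x hx => ?_
    set p : R := ∑ j : Fin N, x j • z ^ j.val
    have hp : p * (a : R) = 0 := by
      refine hℓnd _ fun b => ?_
      let L : R →ₗ[F] F := ℓ.comp (LinearMap.mulLeft F (p * (a : R) * t (a : R)))
      have hL : L = 0 := by
        -- the basis of inverse powers
        refine LinearMap.ext fun b => ?_
        obtain ⟨q, rfl⟩ : ∃ q, t q = b := by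
          have hinj : Function.Injective t := (injective_iff_map_eq_zero t).2 fun r hr => hℓnd r fun b => by
            rw [← S.inv (ℓ (r * b)), ← hℓt, map_mul, hr, zero_mul, map_zero, map_zero]
          haveI : Module.Finite F R := Module.Finite.of_basis pb.basis
          haveI : Finite R := Module.finite_of_finite F
          exact Finite.surjective_of_injective hinj b
        have hq : ∀ i : Fin N, ℓ (t (z ^ i.val * (a : R)) * (p * (a : R))) = 0 := fun i => by
          have hxi := congrFun hx i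
          simp only [Matrix.mulVecLin_apply, Matrix.mulVec, dotProduct, hMij, Pi.zero_apply] at hxi
          rw [← hxi, Finset.sum_mul, Finset.mul_sum, map_sum]
          refine Finset.sum_congr rfl fun j _ => ?_
          rw [smul_mul_assoc, mul_smul_comm, map_smul, smul_eq_mul, mul_comm]
        show ℓ (p * (a : R) * t (a : R) * t q) = 0
        rw [← pb.basis.sum_repr q, map_sum, Finset.mul_sum, map_sum]
        refine Finset.sum_eq_zero fun i _ => ?_
        rw [Algebra.smul_def, map_mul t, show algebraMap F R = AdjoinRoot.of P from rfl, htC,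
          ← show algebraMap F R = AdjoinRoot.of P from rfl, ← Algebra.smul_def, mul_smul_comm, map_smul]
        have := hq i
        rw [map_mul t] at this
        rw [PowerBasis.basis_eq_pow, show pb.gen = z from rfl,
          show p * (a : R) * t (a : R) * t (z ^ i.val) = t (z ^ i.val) * t (a : R) * (p * (a : R)) by ring,
          this, smul_zero]
      have hta : IsUnit (t (a : R)) := a.isUnit.map t
      obtain ⟨ti, hti⟩ := hta.exists_right_inv
      have := LinearMap.congr_fun hL (ti * b)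
      simp only [L, LinearMap.comp_apply, LinearMap.mulLeft_apply, LinearMap.zero_apply] at this
      rwa [mul_assoc (p * (a : R)), ← mul_assoc (t (a : R)), hti, one_mul] at this
    have hp0 : p = 0 := by
      have := congrArg (fun r => r * ((a⁻¹ : Rˣ) : R)) hp
      simpa [mul_assoc] using this
    funext j
    have hli := Fintype.linearIndependent_iff.1 pb.basis.linearIndependent x (by
      rw [← hp0]; simp only [p, PowerBasis.basis_eq_pow]; rfl) j
    exact hli
  have hshift : G * Pw = Pw * compOf N P := by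
    have hz : ∀ r : R, G *ᵥ ev r = ev (z * r) := fun r => by
      obtain ⟨p, rfl⟩ := AdjoinRoot.mk_surjective r
      rw [show z = AdjoinRoot.mk P X from (AdjoinRoot.mk_X).symm, ← map_mul, hev, hev, ← hmv, aeval_X]
    ext x j
    have lhs : (G * Pw) x j = ev (z ^ (j.val + 1) * (a : R)) x := by
      rw [pow_succ', mul_assoc, ← hz]
      simp [Matrix.mulVec, dotProduct, Matrix.mul_apply, Pw]
    rw [lhs, Matrix.mul_apply]
    rcases (show j.val + 1 < N ∨ j.val + 1 = N by omega) with h | h
    · rw [Finset.sum_eq_single ⟨j.val + 1, h⟩ (fun i _ hi => ?_) (by simp)]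
      · simp [Pw, compOf, H60.Ore.comp, h.ne]
      · simp [compOf, H60.Ore.comp, h.ne, show i.val ≠ j.val + 1 from fun e => hi (Fin.ext e)]
    · have hsum : z ^ N + ∑ i : Fin N, P.coeff i.val • z ^ i.val = 0 := by
        have h1 : AdjoinRoot.mk P P = 0 := AdjoinRoot.mk_self
        conv_lhs at h1 => arg 2; rw [P.as_sum_range_C_mul_X_pow]
        rw [map_sum, Finset.sum_range_succ, show P.coeff N = 1 from hP.coeff_natDegree] at h1
        simp only [map_mul, map_pow, AdjoinRoot.mk_X, AdjoinRoot.mk_C, map_one, one_mul] at h1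
        rw [← h1, add_comm, Finset.sum_range]
        congr 1
        exact Finset.sum_congr rfl fun i _ => by rw [Algebra.smul_def]; rfl
      rw [h, eq_neg_of_add_eq_zero_left hsum, neg_mul, Finset.sum_mul, map_neg, map_sum, Pi.neg_apply,
        Finset.sum_apply, ← Finset.sum_neg_distrib]
      refine Finset.sum_congr rfl fun i _ => ?_
      rw [smul_mul_assoc, map_smul]
      simp [Pw, compOf, H60.Ore.comp, h, mul_comm]
  obtain ⟨μ, E, Q, a', b', c', Md, f', β', h', i', hμ, hgr, -, hCE, hHa, hβ'⟩ :=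
    top_in S (N := N) (k := k) (r := N % 2) (by omega) (by omega) (by omega) M hMdet hMh hlow hcol hβ
      (compOf N P) (fun i j hj => by simp [compOf, H60.Ore.comp, show ¬ j.val + 1 = N by omega])
  refine ⟨μ, Pw * E, _, hμ, ?_, ?_, a', b', c', Md, f', β', h', i', rfl, hHa, hβ'⟩
  · rw [← hgr]; simp only [M, cT_mul, Matrix.mul_assoc]
  · rw [← Matrix.mul_assoc, hshift, Matrix.mul_assoc, hCE, Matrix.mul_assoc]

end Cfsg.Agent.H31.OreSU
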