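/-
Orthogonal complements and existence of a top frame.
-/
import Cfsg.Agent.H31.OreSU.Top

set_option autoImplicit false
set_option linter.unusedSectionVars false

namespace Cfsg.Agent.H31.OreSU

open Matrix Polynomial

variable {F : Type*} [Field F] [Finite F] (S : UConj F)
variable {ι : Type} [Fintype ι] [DecidableEq ι]

omit [Finite F] in
/-- Pulling back the form. -/
theorem hf_pull {κ : Type} [Fintype κ] [DecidableEq κ] (J : Matrix ι ι F) (A : Matrix ι κ F)
    (x y : κ → F) : hf S J (A *ᵥ x) (A *ᵥ y) = hf S (cT S A * J * A) x y := by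
  have : (fun i => S.σ ((A *ᵥ y) i)) = Matrix.vecMul (fun i => S.σ (y i)) (cT S A) := by
    funext i; simp [Matrix.mulVec, Matrix.vecMul, dotProduct, cT_apply, map_sum, mul_comm]
  simp only [hf, this]
  rw [← Matrix.dotProduct_mulVec, Matrix.mulVec_mulVec, Matrix.mulVec_mulVec, Matrix.mul_assoc]

/-- The orthogonal complement of a non-degenerate invariant subspace. -/
theorem exists_compl {κ : Type} [Fintype κ] [DecidableEq κ] {J : Matrix ι ι F} (hJ : IsUnit J.det)
    (hJh : cT S J = J) {g : GL ι F} (hg : g ∈ U S J) (E : Matrix ι κ F) (K : Matrix κ κ F)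
    (hK : IsUnit K.det) (hE : cT S E * J * E = K) (G0 : Matrix κ κ F)
    (hgE : (g : Matrix ι ι F) * E = E * G0) :
    ∃ (m : ℕ) (K1 : Matrix ι (Fin m) F) (g1 : GL (Fin m) F),
      cT S E * J * K1 = 0 ∧ IsUnit (cT S K1 * J * K1).det ∧ cT S (cT S K1 * J * K1) = cT S K1 * J * K1 ∧
        g1 ∈ U S (cT S K1 * J * K1) ∧ (g : Matrix ι ι F) * K1 = K1 * (g1 : Matrix (Fin m) (Fin m) F) ∧
        Fintype.card κ + m = Fintype.card ι ∧
        ∃ Q : Matrix (κ ⊕ Fin m) ι F, fromCols E K1 * Q = 1 ∧ Q * fromCols E K1 = 1 := by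
  classical
  set G : Matrix ι ι F := (g : Matrix ι ι F)
  set T := cT S E * J
  have hTE : T * (E * K⁻¹) = 1 := by rw [← Matrix.mul_assoc, hE, Matrix.mul_nonsing_inv _ hK]
  let W := LinearMap.ker T.mulVecLin
  let bW := Module.finBasis F W
  set m := Module.finrank F W
  let K1 : Matrix ι (Fin m) F := Matrix.of fun i j => (bW j : ι → F) i
  have hTK : T * K1 = 0 := by
    ext i j
    exact congrFun (LinearMap.mem_ker.1 (bW j).2) i
  have hmem : ∀ x : ι → F, T *ᵥ x = 0 → ∃ c : Fin m → F, K1 *ᵥ c = x := fun x hx => by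
    refine ⟨bW.repr ⟨x, hx⟩, ?_⟩
    have h1 := congrArg (fun w : W => (w : ι → F)) (bW.sum_repr ⟨x, hx⟩)
    simp only [Submodule.coe_sum, Submodule.coe_smul] at h1
    conv_rhs => rw [← h1]
    funext i
    simp [Matrix.mulVec, dotProduct, K1, Finset.sum_apply, mul_comm]
  have hcard : Fintype.card κ + m = Fintype.card ι := by
    have h1 := LinearMap.finrank_range_add_finrank_ker T.mulVecLin
    rw [LinearMap.range_eq_top.2 fun y => ⟨(E * K⁻¹) *ᵥ y, by
      rw [Matrix.mulVecLin_apply, Matrix.mulVec_mulVec, hTE, Matrix.one_mulVec]⟩,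
      finrank_top, Module.finrank_pi, Module.finrank_pi] at h1
    exact h1
  set J1 := cT S K1 * J * K1
  have hcross : cT S K1 * J * E = 0 := by
    have := congrArg (cT S) hTK
    rw [cT_mul, cT_mul, cT_cT, hJh, cT_zero] at this
    rw [Matrix.mul_assoc]; exact this
  -- the full basis
  let e : κ ⊕ Fin m ≃ ι := Fintype.equivOfCardEq (by simp [hcard])
  have hBinj : ∀ v, fromCols E K1 *ᵥ v = 0 → v = 0 := by
    intro v hv
    have hv' : E *ᵥ (v ∘ Sum.inl) + K1 *ᵥ (v ∘ Sum.inr) = 0 := by rw [← Matrix.fromCols_mulVec]; exact hv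
    have h1 := congrArg (fun w => T *ᵥ w) hv'
    simp only [Matrix.mulVec_add, Matrix.mulVec_mulVec, hTK, Matrix.zero_mulVec, add_zero,
      Matrix.mulVec_zero] at h1
    rw [hE] at h1
    have h2 : v ∘ Sum.inl = 0 := Matrix.mulVec_injective_of_isUnit
      ((Matrix.isUnit_iff_isUnit_det _).2 hK) (h1.trans (Matrix.mulVec_zero _).symm)
    rw [h2, Matrix.mulVec_zero, zero_add] at hv'
    have h3 : ∀ j, (v ∘ Sum.inr) j = 0 := by
      refine Fintype.linearIndependent_iff.1 bW.linearIndependent (v ∘ Sum.inr) ?_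
      refine Subtype.ext ?_
      rw [Submodule.coe_sum, Submodule.coe_zero, ← hv']
      funext i
      simp [Matrix.mulVec, dotProduct, K1, Finset.sum_apply, mul_comm]
    funext i
    rcases i with i | i
    · exact congrFun h2 i
    · exact h3 i
  set B := fromCols E K1
  let B' : Matrix (κ ⊕ Fin m) (κ ⊕ Fin m) F := B.submatrix e id
  have hB' : IsUnit B'.det := by
    rw [← Matrix.isUnit_iff_isUnit_det, ← Matrix.mulVec_injective_iff_isUnit]
    refine (injective_iff_map_eq_zero B'.mulVecLin).2 fun v hv => hBinj v (funext fun i => ?_)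
    have := congrFun hv (e.symm i)
    simpa [B', Matrix.mulVec, dotProduct] using this
  let Q : Matrix (κ ⊕ Fin m) ι F := B'⁻¹.submatrix id e.symm
  have hBB : B = B'.submatrix e.symm id := by ext i j; simp [B']
  have hQB : Q * B = 1 := by
    rw [hBB, Matrix.submatrix_mul_equiv B'⁻¹ B' id e.symm id, Matrix.nonsing_inv_mul _ hB',
      submatrix_id_id]
  have hBQ : B * Q = 1 := (Matrix.mul_eq_one_comm_of_equiv e).1 hQB
  have hgram : cT S B * J * B = fromBlocks K 0 0 J1 := by
    have hc : cT S B = fromRows (cT S E) (cT S K1) := by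
      ext (i | i) j <;> simp [B, cT_apply]
    rw [hc, fromRows_mul, fromRows_mul_fromCols, hE, hTK, hcross]
  have hJ1 : IsUnit J1.det := by
    have h1 : IsUnit (fromBlocks K 0 0 J1).det := by
      refine Matrix.isUnit_det_of_right_inverse (B := Q * J⁻¹ * cT S Q) ?_
      rw [← hgram]
      calc cT S B * J * B * (Q * J⁻¹ * cT S Q) = cT S B * (J * (B * Q) * J⁻¹) * cT S Q := by
            simp only [Matrix.mul_assoc]
        _ = 1 := by rw [hBQ, Matrix.mul_one, Matrix.mul_nonsing_inv _ hJ, Matrix.mul_one, ← cT_mul, hQB, cT_one]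
    rw [det_fromBlocks_zero₂₁] at h1
    exact isUnit_of_mul_isUnit_right h1
  -- invariance
  have hG0 : cT S G0 * K * G0 = K := by
    rw [← hE]
    calc cT S G0 * (cT S E * J * E) * G0 = cT S (E * G0) * J * (E * G0) := by
          simp only [cT_mul, Matrix.mul_assoc]
      _ = cT S E * (cT S G * J * G) * E := by rw [← hgE]; simp only [cT_mul, Matrix.mul_assoc]
      _ = _ := by rw [hg]
  have hG0u : IsUnit (cT S G0).det := by
    have := congrArg Matrix.det hG0
    rw [det_mul, det_mul, mul_assoc] at this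
    refine isUnit_iff_ne_zero.2 fun h0 => hK.ne_zero ?_
    rw [← this, h0, zero_mul]
  have hinv : cT S G0 * (T * (G * K1)) = 0 := by
    calc cT S G0 * (T * (G * K1)) = cT S (E * G0) * J * G * K1 := by
          simp only [T, cT_mul, Matrix.mul_assoc]
      _ = cT S E * (cT S G * J * G) * K1 := by rw [← hgE]; simp only [cT_mul, Matrix.mul_assoc]
      _ = 0 := by rw [hg, hTK]
  have hTG : T * (G * K1) = 0 := by
    have := congrArg (fun X => (cT S G0)⁻¹ * X) hinv
    simpa [← Matrix.mul_assoc, Matrix.nonsing_inv_mul _ hG0u] using this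
  have hcols : ∀ j, ∃ c : Fin m → F, K1 *ᵥ c = fun i => (G * K1) i j := fun j => hmem _ (by
    funext i
    have := congrFun (congrFun hTG i) j
    simpa [Matrix.mul_apply, Matrix.mulVec, dotProduct] using this)
  choose cc hcc using hcols
  let g1m : Matrix (Fin m) (Fin m) F := Matrix.of fun i j => cc j i
  have hg1 : G * K1 = K1 * g1m := by
    ext i j
    rw [← congrFun (hcc j) i]
    simp [g1m, Matrix.mulVec, dotProduct, Matrix.mul_apply]
  have hiso : cT S g1m * J1 * g1m = J1 := by
    calc cT S g1m * J1 * g1m = cT S (K1 * g1m) * J * (K1 * g1m) := by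
          simp only [J1, cT_mul, Matrix.mul_assoc]
      _ = cT S K1 * (cT S G * J * G) * K1 := by rw [← hg1]; simp only [cT_mul, Matrix.mul_assoc]
      _ = J1 := by rw [hg]
  have hu : IsUnit g1m.det := by
    have := congrArg Matrix.det hiso
    rw [det_mul, det_mul] at this
    refine isUnit_iff_ne_zero.2 fun h0 => hJ1.ne_zero ?_
    rw [← this, h0, mul_zero]
  refine ⟨m, K1, Matrix.nonsingInvUnit g1m hu, hTK, hJ1, ?_, hiso, hg1, hcard, Q, hBQ, hQB⟩
  simp only [J1, cT_mul, cT_cT, hJh, Matrix.mul_assoc]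

/-- Adjoining an eigenvector. -/
theorem piece_add {J : Matrix ι ι F} (hJh : cT S J = J) {g : GL ι F} (hg : g ∈ U S J)
    {v : ι → F} {P π : F[X]} (hv : IsPiece S J g v P) (hπ : Primes2 P π π) {u : ι → F} {l : F}
    (hu : (g : Matrix ι ι F) *ᵥ u = l • u) (huu : hf S J u u ≠ 0)
    (hvu : ∀ p : F[X], hf S J (aeval (g : Matrix ι ι F) p *ᵥ v) u = 0) (hPl : P.eval l ≠ 0) :
    IsPiece S J g (v + u) (P * (X - C l)) := by
  set G : Matrix ι ι F := (g : Matrix ι ι F)
  have hpu : ∀ p : F[X], aeval G p *ᵥ u = p.eval l • u := by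
    intro p
    induction p using Polynomial.induction_on' with
    | add p r hp hr => rw [map_add, Matrix.add_mulVec, hp, hr, eval_add, add_smul]
    | monomial k a =>
      have hk : ∀ k : ℕ, G ^ k *ᵥ u = l ^ k • u := by
        intro k
        induction k with
        | zero => simp
        | succ k ih => rw [pow_succ', ← Matrix.mulVec_mulVec, ih, Matrix.mulVec_smul, hu, smul_smul, pow_succ]
      rw [aeval_monomial, ← Algebra.smul_def, Matrix.smul_mulVec, hk, eval_monomial, smul_smul]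
  have hl : l * S.σ l = 1 := by
    have h1 : hf S J (G *ᵥ u) (G *ᵥ u) = hf S J u u := by
      rw [hf_mulVec_right, hf_mulVec_left]
      rw [show cT S G * J * G = J from hg]
    rw [hu, hf_smul_left, hf_smul_right, ← mul_assoc] at h1
    exact mul_right_cancel₀ huu (by rw [h1, one_mul])
  have hcop : IsCoprime P (X - C l) := by
    rw [isCoprime_comm]
    exact ((prime_X_sub_C l).irreducible.coprime_iff_not_dvd).2 fun h => hPl (dvd_iff_isRoot.1 h)
  refine ⟨hv.monic.mul (monic_X_sub_C l), ?_, fun p hp => ?_, π, X - C l, fun x hx hxP => ?_⟩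
  · rw [Matrix.mulVec_add, mul_comm P, map_mul, ← Matrix.mulVec_mulVec, hv.zero, Matrix.mulVec_zero,
      zero_add, ← map_mul, hpu, eval_mul, eval_sub, eval_X, eval_C, sub_self, zero_mul, zero_smul]
  swap
  · rcases hx.dvd_or_dvd hxP with h | h
    · exact (hπ x hx h).elim Or.inl Or.inl
    · exact Or.inr (hx.associated_of_dvd (prime_X_sub_C l) h).symm
  have hsum : ∀ q : F[X], hf S J (aeval G p *ᵥ v) (aeval G q *ᵥ v) +
      p.eval l * (S.σ (q.eval l) * hf S J u u) = 0 := by
    intro q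
    have := hp q
    rw [Matrix.mulVec_add, Matrix.mulVec_add, hpu, hpu, hf_add_left, hf_add_right, hf_add_right,
      hf_smul_right, hvu, mul_zero, add_zero, hf_smul_left, hf_smul_left] at this
    rw [show hf S J u (aeval G q *ᵥ v) = 0 by rw [← hf_conj S hJh, hvu, map_zero], mul_zero, zero_add,
      hf_smul_right] at this
    exact this
  set N0 := orderOf g
  have hN0 : 0 < N0 := orderOf_pos g
  have hg1 : g ^ N0 = 1 := pow_orderOf_eq_one g
  have hPt : P ∣ tau S N0 (X - C l) * p := hv.nondeg _ fun q => by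
    have := hsum ((X - C l) * q)
    rw [eval_mul, eval_sub, eval_X, eval_C, sub_self, zero_mul, map_zero, zero_mul, mul_zero, add_zero,
      map_mul, ← Matrix.mulVec_mulVec, hf_adj S hg hN0 hg1, Matrix.mulVec_mulVec, ← map_mul] at this
    exact this
  have hPX : P ∣ X ^ N0 - 1 := hv.nondeg _ fun q => by
    rw [map_sub, map_pow, aeval_X, map_one, ← Units.val_pow_eq_pow_val, hg1, Units.val_one, sub_self,
      Matrix.zero_mulVec, hf_zero_left]
  have hcop' : IsCoprime P (tau S N0 (X - C l)) := by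
    refine isCoprime_of_prime_dvd (fun h => hv.monic.ne_zero h.1) fun x hx hxP hxt => hPl ?_
    rw [map_sub, tau_X, tau_C] at hxt
    have h1 : x ∣ C (S.σ l) * (X - C l) := by
      have hXN : (X : F[X]) ^ (N0 - 1) * X = X ^ N0 := by rw [← pow_succ, Nat.sub_add_cancel hN0]
      have h2 : C (S.σ l) * (X - C l) = -((X ^ (N0 - 1) - C (S.σ l)) * X) + (X ^ N0 - 1) := by
        rw [sub_mul, hXN, mul_sub, ← map_mul, mul_comm (S.σ l), hl, map_one]; ring
      rw [h2]
      exact dvd_add ((hxt.mul_right X).neg_right) (hxP.trans hPX)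
    have hne : S.σ l ≠ 0 := right_ne_zero_of_mul_eq_one hl
    have h3 := hx.associated_of_dvd (prime_X_sub_C l) ((IsUnit.dvd_mul_left (isUnit_C.2
      (isUnit_iff_ne_zero.2 hne))).1 h1)
    exact dvd_iff_isRoot.1 (h3.symm.dvd.trans hxP)
  have hl1 := hsum 1
  have hPp : P ∣ p := hcop'.dvd_of_dvd_mul_left hPt
  obtain ⟨r, hr⟩ := hPp
  have hpv : aeval G p *ᵥ v = 0 := by
    rw [hr, mul_comm, map_mul, ← Matrix.mulVec_mulVec, hv.zero, Matrix.mulVec_zero]
  rw [hpv, hf_zero_left, zero_add, eval_one, map_one, one_mul] at hl1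
  exact hcop.mul_dvd ⟨r, hr⟩ (dvd_iff_isRoot.2 ((mul_eq_zero.1 hl1).resolve_right huu))

theorem exists_piece_two : ∀ (n : ℕ) {ι : Type} [Fintype ι] [DecidableEq ι], Fintype.card ι = n →
    ∀ {J : Matrix ι ι F}, IsUnit J.det → cT S J = J → ∀ {g : GL ι F}, g ∈ U S J →
      (∀ l : F, (g : Matrix ι ι F) ≠ l • 1) → ∃ v P, IsPiece S J g v P ∧ 2 ≤ P.natDegree ∧
        (Odd P.natDegree → ∃ π : F[X], Primes2 P π π) := by
  intro n
  induction n using Nat.strong_induction_on with
  | _ n ih =>
    intro ι _ _ hn J hJ hJh g hg hns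
    haveI : Nonempty ι := by
      by_contra h
      rw [not_nonempty_iff] at h
      exact hns 0 (by ext i; exact isEmptyElim i)
    obtain ⟨v, P, hv, hdeg, hodd⟩ := exists_piece S hJ hJh hg
    by_cases h2 : 2 ≤ P.natDegree
    · exact ⟨v, P, hv, h2, hodd⟩
    obtain ⟨l, hPl⟩ : ∃ l, P = X - C l := by
      refine ⟨-P.coeff 0, ?_⟩
      rw [map_neg, sub_neg_eq_add]
      exact hv.monic.eq_X_add_C (by omega)
    have hgv : (g : Matrix ι ι F) *ᵥ v = l • v := by
      have := hv.zero
      rw [hPl, map_sub, aeval_X, aeval_C, Matrix.sub_mulVec, sub_eq_zero, Matrix.algebraMap_eq_diagonal] at this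
      rw [this]; funext i; simp [Matrix.mulVec_diagonal]
    have hpvl : ∀ q : F[X], aeval (g : Matrix ι ι F) q *ᵥ v = q.eval l • v := fun q => by
      have : aeval (g : Matrix ι ι F) (q - C (q.eval l)) *ᵥ v = 0 := by
        obtain ⟨r, hr⟩ : P ∣ q - C (q.eval l) := by rw [hPl]; exact X_sub_C_dvd_sub_C_eval
        rw [hr, mul_comm, map_mul, ← Matrix.mulVec_mulVec, hv.zero, Matrix.mulVec_zero]
      rw [map_sub, Matrix.sub_mulVec, sub_eq_zero, aeval_C, Matrix.algebraMap_eq_diagonal] at this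
      rw [this]; funext i; simp [Matrix.mulVec_diagonal]
    have hvv : hf S J v v ≠ 0 := by
      intro h0
      have h1 := hv.nondeg 1 fun q => by
        rw [map_one, Matrix.one_mulVec, hpvl, hf_smul_right, h0, mul_zero]
      have := natDegree_le_of_dvd h1 one_ne_zero
      rw [natDegree_one] at this
      omega
    let E : Matrix ι (Fin 1) F := Matrix.of fun i _ => v i
    have hE : cT S E * J * E = diagonal fun _ => hf S J v v := by
      ext i j
      rw [Subsingleton.elim i j, diagonal_apply_eq, Matrix.mul_assoc]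
      simp [hf, dotProduct, Matrix.mulVec, Matrix.mul_apply, cT_apply, E]
    have hgE : (g : Matrix ι ι F) * E = E * (l • (1 : Matrix (Fin 1) (Fin 1) F)) := by
      rw [Matrix.mul_smul, Matrix.mul_one]
      ext i j
      exact congrFun hgv i
    obtain ⟨m, K1, g1, hTK, hJ1, hJ1h, hg1, hgK, hcard, Q, hBQ, hQB⟩ :=
      exists_compl S hJ hJh hg E _ (by simp [hvv]) hE _ hgE
    simp only [Fintype.card_fin] at hcard
    by_cases hsc : ∀ μ : F, (g1 : Matrix (Fin m) (Fin m) F) ≠ μ • 1
    · obtain ⟨w, R, hw, hR2, hRo⟩ := ih m (by omega) (Fintype.card_fin m) hJ1 hJ1h hg1 hsc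
      have hpk : ∀ p : F[X], aeval (g : Matrix ι ι F) p *ᵥ (K1 *ᵥ w) =
          K1 *ᵥ (aeval (g1 : Matrix (Fin m) (Fin m) F) p *ᵥ w) := fun p => by
        rw [Matrix.mulVec_mulVec, Matrix.mulVec_mulVec, H60.Ore.Sim.aeval_intertwine hgK p]
      refine ⟨K1 *ᵥ w, R, ⟨hw.monic, by rw [hpk, hw.zero, Matrix.mulVec_zero], fun p hp => hw.nondeg p
        fun q => ?_, hw.primes⟩, hR2, hRo⟩
      rw [← hp q, hpk, hpk, hf_pull]
    push Not at hsc
    obtain ⟨μ, hμ⟩ := hsc
    have hgK' : (g : Matrix ι ι F) * K1 = μ • K1 := by rw [hgK, hμ, Matrix.mul_smul, Matrix.mul_one]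
    have hμl : μ ≠ l ∧ 0 < m := by
      by_contra hc
      refine hns l ?_
      have hB : (g : Matrix ι ι F) * fromCols E K1 = l • fromCols E K1 := by
        rw [mul_fromCols, hgE, hgK']
        ext i (j | j)
        · simp [Matrix.mul_smul]
        · simp only [fromCols_apply_inr, Matrix.smul_apply]
          rw [show μ = l by
            by_contra hne
            exact hc ⟨hne, j.pos⟩]
      calc (g : Matrix ι ι F) = (g : Matrix ι ι F) * (fromCols E K1 * Q) := by rw [hBQ, Matrix.mul_one]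
        _ = l • 1 := by rw [← Matrix.mul_assoc, hB, Matrix.smul_mul, hBQ]
    obtain ⟨y, hy⟩ : ∃ y, hf S (cT S K1 * J * K1) y y ≠ 0 := by
      by_contra hc
      push Not at hc
      have hz := hf_polar S _ hc
      rw [hz] at hJ1
      haveI : Nonempty (Fin m) := ⟨⟨0, hμl.2⟩⟩
      simp at hJ1
    have huv : ∀ c : F, hf S J (c • v) (K1 *ᵥ y) = 0 := by
      intro c
      rw [hf_smul_left, ← hf_conj S hJh]
      have h1 := congrFun (congrArg (fun M => M *ᵥ y) hTK) 0
      rw [← Matrix.mulVec_mulVec, ← Matrix.mulVec_mulVec, Matrix.zero_mulVec] at h1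
      have h2 : hf S J (K1 *ᵥ y) v = 0 := by
        rw [Pi.zero_apply] at h1
        rw [← h1]; simp [hf, Matrix.mulVec, dotProduct, cT_apply, E]
      rw [h2, map_zero, mul_zero]
    have hP1 : Primes2 P (X - C l) (X - C l) := fun x hx hxP =>
      Or.inl (hx.associated_of_dvd (prime_X_sub_C l) (hPl ▸ hxP)).symm
    have hp := piece_add S hJh hg hv hP1 (u := K1 *ᵥ y) (l := μ)
      (by rw [Matrix.mulVec_mulVec, hgK', Matrix.smul_mulVec])
      (by rw [hf_pull]; exact hy) (fun p => by rw [hpvl]; exact huv _)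
      (by rw [hPl, eval_sub, eval_X, eval_C]; exact sub_ne_zero.2 hμl.1)
    have hd : (P * (X - C μ)).natDegree = 2 := by
      rw [hv.monic.natDegree_mul (monic_X_sub_C μ), natDegree_X_sub_C]; omega
    exact ⟨_, _, hp, hd.ge, fun ho => by rw [hd] at ho; exact absurd ho (by decide)⟩

theorem exists_top (n : ℕ) {ι : Type} [Fintype ι] [DecidableEq ι] (hn : Fintype.card ι = n)
    {J : Matrix ι ι F} (hJ : IsUnit J.det) (hJh : cT S J = J) {g : GL ι F} (hg : g ∈ U S J)
    (hns : ∀ l : F, (g : Matrix ι ι F) ≠ l • 1) : ∃ k r, 1 ≤ k ∧ r ≤ 1 ∧ HasTop S J g k r := by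
  obtain ⟨v, P, hv, h2, -⟩ := exists_piece_two S n hn hJ hJh hg hns
  exact ⟨_, _, by omega, by omega, top_of_piece S hJh hg hv h2⟩

end Cfsg.Agent.H31.OreSU
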