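/-
Pairs for the Levi block and the diagonal middle block.
-/
import Cfsg.Agent.H31.OreSU.Levi

set_option autoImplicit false
set_option linter.unusedSectionVars false

namespace Cfsg.Agent.H31.OreSU

open Matrix Polynomial

variable {F : Type*} [Field F] [Finite F] (S : UConj F)
variable {α β : Type} [Fintype α] [DecidableEq α] [Fintype β] [DecidableEq β]

/-- No fixed points against the conjugate transpose, no eigenvalue of norm one. -/
structure Reg (A : Matrix α α F) : Prop where
  hX : ∀ X : Matrix α α F, A * X * cT S A = X → X = 0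
  hX' : ∀ X : Matrix α α F, cT S A * X * A = X → X = 0
  hn : ∀ ν : F, ν * S.σ ν = 1 → (A - ν • 1).det ≠ 0

theorem Reg.conj {A P Q : Matrix α α F} (h : Reg S A) (h1 : P * Q = 1) :
    Reg S (P * A * Q) := by
  have h2 : Q * P = 1 := mul_eq_one_comm.1 h1
  have h1' : cT S Q * cT S P = 1 := by rw [← cT_mul, h1, cT_one]
  have h2' : cT S P * cT S Q = 1 := by rw [← cT_mul, h2, cT_one]
  refine ⟨fun X hX => ?_, fun X hX => ?_, fun ν hν => ?_⟩
  · have key := h.hX (Q * X * cT S Q) (by
      conv_rhs => rw [← hX]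
      simp only [cT_mul, Matrix.mul_assoc]
      rw [← Matrix.mul_assoc Q P, h2, Matrix.one_mul, h2', Matrix.mul_one])
    calc X = P * (Q * X * cT S Q) * cT S P := by
          simp only [Matrix.mul_assoc]
          rw [← Matrix.mul_assoc P Q, h1, Matrix.one_mul, h1', Matrix.mul_one]
      _ = 0 := by rw [key, Matrix.mul_zero, Matrix.zero_mul]
  · have key := h.hX' (cT S P * X * P) (by
      conv_rhs => rw [← hX]
      simp only [cT_mul, Matrix.mul_assoc]
      rw [← Matrix.mul_assoc (cT S P) (cT S Q), h2', Matrix.one_mul, h2, Matrix.mul_one])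
    calc X = cT S Q * (cT S P * X * P) * Q := by
          simp only [Matrix.mul_assoc]
          rw [← Matrix.mul_assoc (cT S Q) (cT S P), h1', Matrix.one_mul, h1, Matrix.mul_one]
      _ = 0 := by rw [key, Matrix.mul_zero, Matrix.zero_mul]
  · rw [show P * A * Q - ν • 1 = P * (A - ν • 1) * Q by simp [Matrix.mul_sub, Matrix.sub_mul, h1],
      Matrix.det_conj_of_mul_eq_one h1 h2]
    exact h.hn ν hν

theorem Reg.cT {A : Matrix α α F} (h : Reg S A) : Reg S (cT S A) := by
  refine ⟨fun X hX => h.hX' X (by rwa [cT_cT] at hX), fun X hX => h.hX X (by rwa [cT_cT] at hX),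
    fun ν hν => ?_⟩
  rw [show OreSU.cT S A - ν • 1 = OreSU.cT S (A - S.σ ν • 1) by simp [S.inv], det_cT]
  exact (map_ne_zero S.σ).2 (h.hn _ (by rw [S.inv, mul_comm, hν]))

theorem Reg.inv {A : GL α F} (h : Reg S (A : Matrix α α F)) : Reg S (↑A⁻¹ : Matrix α α F) := by
  set M : Matrix α α F := (A : Matrix α α F)
  set N : Matrix α α F := (↑A⁻¹ : Matrix α α F)
  have h1 : M * N = 1 := A.mul_inv
  have h2 : N * M = 1 := A.inv_mul
  have h1' : OreSU.cT S N * OreSU.cT S M = 1 := by rw [← cT_mul, h1, cT_one]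
  have h2' : OreSU.cT S M * OreSU.cT S N = 1 := by rw [← cT_mul, h2, cT_one]
  refine ⟨fun X hX => h.hX X ?_, fun X hX => h.hX' X ?_, fun ν hν => ?_⟩
  · conv_lhs => rw [← hX]
    simp only [Matrix.mul_assoc]
    rw [h1', Matrix.mul_one, ← Matrix.mul_assoc, h1, Matrix.one_mul]
  · conv_lhs => rw [← hX]
    simp only [Matrix.mul_assoc]
    rw [h2, Matrix.mul_one, ← Matrix.mul_assoc, h2', Matrix.one_mul]
  · have hν0 : ν ≠ 0 := left_ne_zero_of_mul_eq_one hν
    rw [show N - ν • 1 = (-ν • N) * (M - ν⁻¹ • 1) by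
        rw [Matrix.mul_sub, Matrix.smul_mul, h2, Matrix.mul_smul, Matrix.mul_one, smul_smul,
          show ν⁻¹ * -ν = -1 by field_simp, neg_one_smul, neg_smul]
        abel, det_mul, det_smul]
    refine mul_ne_zero (mul_ne_zero (pow_ne_zero _ (neg_ne_zero.2 hν0)) ?_) (h.hn _ ?_)
    · exact (Matrix.isUnit_det_of_left_inverse h1).ne_zero
    · rw [map_inv₀, ← mul_inv, hν, inv_one]

theorem Reg.free {A : GL α F} (h : Reg S (A : Matrix α α F)) (e : GL β F) (d : β → F)
    (hed : (e : Matrix β β F) = diagonal d) (hd : ∀ i, d i * S.σ (d i) = 1) : Free S A e := by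
  have main : ∀ B : Matrix α α F, (∀ ν : F, ν * S.σ ν = 1 → (B - ν • 1).det ≠ 0) →
      ∀ x : Matrix α β F, (∀ j : β, ∃ ν, ν * S.σ ν = 1 ∧
        (B *ᵥ fun i => x i j) = ν • fun i => x i j) → x = 0 := by
    intro B hB x hx
    ext i j
    obtain ⟨ν, hν, he⟩ := hx j
    have hu : IsUnit (B - ν • 1) := (Matrix.isUnit_iff_isUnit_det _).2 (isUnit_iff_ne_zero.2 (hB ν hν))
    have : (B - ν • 1) *ᵥ (fun i => x i j) = 0 := by
      rw [Matrix.sub_mulVec, Matrix.smul_mulVec, Matrix.one_mulVec, he, sub_self]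
    exact congrFun (Matrix.mulVec_injective_of_isUnit hu (this.trans (mulVec_zero _).symm)) i
  refine ⟨fun x hx => main _ h.hn x fun j => ⟨d j, hd j, ?_⟩, h.hX, fun x hx => ?_, h.hX'⟩
  · funext i
    have h1 := congrFun (congrFun hx i) j
    rw [hed, Matrix.mul_diagonal] at h1
    simpa [Matrix.mulVec, dotProduct, Matrix.mul_apply, mul_comm] using h1
  · refine main _ (h.cT S).hn x fun j => ⟨S.σ (d j), by rw [S.inv, mul_comm, hd j], ?_⟩
    funext i
    have h1 := congrFun (congrFun hx i) j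
    rw [hed, Matrix.mul_diagonal] at h1
    calc (OreSU.cT S (A : Matrix α α F) *ᵥ fun i => x i j) i
        = (OreSU.cT S (A : Matrix α α F) * x) i j * (d j * S.σ (d j)) := by
          rw [hd, mul_one]; rfl
      _ = _ := by
          rw [← mul_assoc, h1, Pi.smul_apply, smul_eq_mul, mul_comm]

/-- `D` is a product of two mutually conjugate free Levi blocks. -/
def Pairable (D : Matrix α α F) (δ : F) : Prop :=
  ∃ A B C : GL α F, D = (A : Matrix α α F) * (B : Matrix α α F) ∧ Reg S (A : Matrix α α F) ∧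
    Reg S (B : Matrix α α F) ∧
    (A : Matrix α α F).det * S.σ δ = S.σ (A : Matrix α α F).det * δ ∧
    S.σ (C : Matrix α α F).det = (C : Matrix α α F).det ∧
    ((B : Matrix α α F) = (C : Matrix α α F) * (↑A⁻¹ : Matrix α α F) * (↑C⁻¹ : Matrix α α F) ∨
      ((-1 : F) ^ Fintype.card α = 1 ∧
        (B : Matrix α α F) = (C : Matrix α α F) * cT S (A : Matrix α α F) * (↑C⁻¹ : Matrix α α F)))


/-- A permutation matrix with prescribed entries. -/
def mono (π : β ≃ β) (s : β → F) : Matrix β β F := fun i j => if j = π i then s i else 0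

theorem mono_mul (π : β ≃ β) (s : β → F) (M : Matrix β β F) (i j : β) :
    (mono π s * M) i j = s i * M (π i) j := by
  simp [Matrix.mul_apply, mono, ite_mul]

theorem det_ne_zero_GL (A : GL α F) : (A : Matrix α α F).det ≠ 0 :=
  ((Matrix.isUnit_iff_isUnit_det _).1 A.isUnit).ne_zero

/-- Data for the middle block. -/
theorem exists_middle (μ : β → F) (hμ0 : ∀ i, μ i ≠ 0) (hμ : ∀ i, S.σ (μ i) = μ i) (π : β ≃ β)
    (E : β → F) (hE : ∀ i, E i * S.σ (E i) = 1) (τ : F) (hτ : τ * S.σ τ = 1) (i₀ : β) :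
    ∃ e k : GL β F, e ∈ U S (diagonal μ) ∧ k ∈ U S (diagonal μ) ∧
      (e : Matrix β β F) = diagonal E ∧ (k : Matrix β β F).det = τ ∧
      ((k * e⁻¹ * k⁻¹ : GL β F) : Matrix β β F) = diagonal fun i => (E (π i))⁻¹ := by
  classical
  choose s₀ hs₀ using fun i => S.nrm (μ (π i) / μ i) (by rw [map_div₀, hμ, hμ])
  have hs0 : ∀ i, s₀ i ≠ 0 := fun i h => by
    have := hs₀ i
    rw [h, zero_mul] at this
    exact div_ne_zero (hμ0 _) (hμ0 _) this.symm
  have hk0 : (mono π s₀).det ≠ 0 := by
    intro h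
    obtain ⟨v, hv, hv0⟩ := Matrix.exists_mulVec_eq_zero_iff.2 h
    refine hv (funext fun j => ?_)
    have := congrFun hv0 (π.symm j)
    simp [Matrix.mulVec, dotProduct, mono, ite_mul, hs0] at this
    exact this
  have hinv : ∀ i, μ i * (s₀ i * S.σ (s₀ i)) = μ (π i) := fun i => by
    rw [hs₀, mul_div_cancel₀ _ (hμ0 i)]
  have memk : ∀ s : β → F, (∀ i, s i * S.σ (s i) = s₀ i * S.σ (s₀ i)) →
      cT S (mono π s) * diagonal μ * mono π s = diagonal μ := by
    intro s hs
    ext a b
    rw [Matrix.mul_assoc, Matrix.mul_apply, Finset.sum_eq_single (π.symm a)]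
    · rw [Matrix.diagonal_mul, cT_apply]
      simp only [mono, Equiv.apply_symm_apply, if_true]
      by_cases hab : b = a
      · subst hab
        rw [if_pos rfl, diagonal_apply_eq, show S.σ (s (π.symm b)) * (μ (π.symm b) * s (π.symm b))
          = μ (π.symm b) * (s (π.symm b) * S.σ (s (π.symm b))) by ring, hs, hinv,
          Equiv.apply_symm_apply]
      · rw [if_neg hab, mul_zero, mul_zero, diagonal_apply_ne _ (Ne.symm hab)]
    · intro x _ hx
      rw [cT_apply, mono, if_neg (fun h => hx (by rw [h, Equiv.symm_apply_apply])), map_zero, zero_mul]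
    · simp
  have hdetk : ∀ s : β → F, (mono π s) = diagonal (fun i => s i / s₀ i) * mono π s₀ := by
    intro s; ext i j
    rw [Matrix.diagonal_mul, mono, mono]
    split_ifs <;> simp [hs0]
  set t := τ / (mono π s₀).det
  have hN : (mono π s₀).det * S.σ (mono π s₀).det = 1 := by
    have h1 := congrArg Matrix.det (memk s₀ fun _ => rfl)
    rw [det_mul, det_mul, det_cT, det_diagonal] at h1
    exact mul_right_cancel₀ (Finset.prod_ne_zero_iff.2 fun i _ => hμ0 i)
      (show _ * ∏ i, μ i = 1 * ∏ i, μ i by linear_combination h1)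
  have ht : t * S.σ t = 1 := by rw [map_div₀, div_mul_div_comm, hτ, hN, div_one]
  have ht0 : t ≠ 0 := left_ne_zero_of_mul_eq_one ht
  set s : β → F := fun i => if i = i₀ then t * s₀ i else s₀ i
  have hs : ∀ i, s i * S.σ (s i) = s₀ i * S.σ (s₀ i) := by
    intro i
    by_cases h : i = i₀
    · simp only [s, if_pos h, map_mul]
      linear_combination (s₀ i * S.σ (s₀ i)) * ht
    · simp [s, h]
  have hdet : (mono π s).det = τ := by
    rw [hdetk, det_mul, det_diagonal, Finset.prod_eq_single i₀]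
    · simp only [s, if_pos rfl]
      rw [mul_div_assoc, div_self (hs0 _), mul_one, div_mul_cancel₀ _ hk0]
    · intro i _ hi; simp [s, hi, hs0]
    · simp
  have hτ0 : τ ≠ 0 := left_ne_zero_of_mul_eq_one hτ
  have hE0 : ∀ i, E i ≠ 0 := fun i => left_ne_zero_of_mul_eq_one (hE i)
  let k : GL β F := Matrix.nonsingInvUnit (mono π s) (isUnit_iff_ne_zero.2 (hdet ▸ hτ0))
  let e : GL β F :=
    { val := diagonal E, inv := diagonal fun i => (E i)⁻¹
      val_inv := by simp [diagonal_mul_diagonal, hE0]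
      inv_val := by simp [diagonal_mul_diagonal, hE0] }
  refine ⟨e, k, ?_, memk s hs, rfl, hdet, ?_⟩
  · rw [mem_U]
    show cT S (diagonal E) * diagonal μ * diagonal E = _
    rw [cT_diagonal, diagonal_mul_diagonal, diagonal_mul_diagonal]
    exact congrArg diagonal (funext fun i => by linear_combination μ i * hE i)
  · set Y : Matrix β β F := diagonal fun i => (E (π i))⁻¹
    have key : mono π s * diagonal (fun i => (E i)⁻¹) = Y * mono π s := by
      ext i j
      rw [mono_mul, Matrix.diagonal_mul, mono]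
      by_cases h : j = π i
      · subst h; simp [mul_comm]
      · rw [diagonal_apply_ne _ (Ne.symm h), if_neg h, mul_zero, mul_zero]
    show mono π s * diagonal (fun i => (E i)⁻¹) * (↑k⁻¹ : Matrix β β F) = Y
    rw [key, Matrix.mul_assoc, show mono π s * (↑k⁻¹ : Matrix β β F) = 1 from k.mul_inv,
      Matrix.mul_one]

/-- Commutator from a pairable block and a diagonal middle block. -/
theorem com_of_pair (μ : β → F) (hμ0 : ∀ i, μ i ≠ 0) (hμ : ∀ i, S.σ (μ i) = μ i)
    {g : GL (Idx α β) F} (hg : g ∈ U S (hypJ (diagonal μ))) {a b c d e f k h i}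
    (eg : (g : Matrix (Idx α β) (Idx α β) F) = b3 a b c d e f k h i) (D : GL α F)
    (hD : (D : Matrix α α F) = a) (π : β ≃ β) (E : β → F) (hE : ∀ i, E i * S.σ (E i) = 1)
    (hc : e - d * (↑D⁻¹ : Matrix α α F) * b = diagonal fun i => E i * (E (π i))⁻¹)
    (δ : F) (hδ0 : δ ≠ 0) (hδ : δ * (∏ i, E i) = S.σ δ) (hP : Pairable S a δ) :
    Com S (hypJ (diagonal μ)) g := by
  classical
  obtain ⟨A, B, C, hAB, hA, hB, hdA, hdC, hconj⟩ := hP
  have hJ1 : diagonal μ * diagonal (fun i => (μ i)⁻¹) = 1 := by simp [diagonal_mul_diagonal, hμ0]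
  have hJh : cT S (diagonal fun i => (μ i)⁻¹) = diagonal fun i => (μ i)⁻¹ := by
    rw [cT_diagonal]; simp [hμ]
  have hD' : A * B = D := Units.ext (by rw [Units.val_mul, ← hAB, hD])
  have hdiv : ∀ x : GL α F, S.σ (↑x⁻¹ : Matrix α α F).det * S.σ (x : Matrix α α F).det = 1 := fun x => by
    rw [← map_mul, ← det_mul, x.inv_mul, det_one, map_one]
  -- the determinant wanted on the middle
  set W : GL (Idx α β) F := if (B : Matrix α α F) = (C : Matrix α α F) * (↑A⁻¹ : Matrix α α F) *
      (↑C⁻¹ : Matrix α α F) then levi S (C, 1) else levi S (C, 1) * swap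
  have hWmem : W ∈ U S (hypJ (diagonal μ)) := by
    simp only [W]; split_ifs
    · exact levi_mem S C (one_mem _)
    · exact mul_mem (levi_mem S C (one_mem _)) (swap_mem S)
  have hWconj : ∀ x : GL β F, W * levi S (A⁻¹, x) * W⁻¹ = levi S (B, x) := by
    intro x
    simp only [W]; split_ifs with hcase
    · rw [← map_inv, ← map_mul, ← map_mul]
      congr 1
      refine Prod.ext ?_ (by simp)
      exact Units.ext (by simpa using hcase.symm)
    · obtain ⟨A', hA1, hA2, hA'⟩ := swap_levi S A⁻¹ x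
      rw [_root_.mul_inv_rev, swap_inv, ← map_inv,
        show levi S (C, (1 : GL β F)) * swap * levi S (A⁻¹, x) * (swap * levi S (C, 1)⁻¹) =
          levi S (C, 1) * (swap * levi S (A⁻¹, x) * swap) * levi S (C, 1)⁻¹ by group,
        hA', ← map_mul, ← map_mul]
      congr 1
      refine Prod.ext ?_ (by simp)
      refine Units.ext ?_
      have h2 := (hconj.resolve_left hcase).2
      show (C : Matrix α α F) * (A' : Matrix α α F) * (↑C⁻¹ : Matrix α α F) = _
      rw [h2, hA1, inv_inv]
  have hC1 : (levi S (C, (1 : GL β F)) : Matrix (Idx α β) (Idx α β) F).det = 1 := by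
    rw [det_levi, Units.val_one, det_one, one_mul, ← hdC, mul_comm]
    exact hdiv C
  have hA1' : (levi S (A, (1 : GL β F)) : Matrix (Idx α β) (Idx α β) F).det * (∏ i, E i) = 1 := by
    rw [det_levi, Units.val_one, det_one, one_mul]
    have hσA0 : S.σ (A : Matrix α α F).det ≠ 0 := (map_ne_zero S.σ).2 (det_ne_zero_GL A)
    refine mul_left_cancel₀ (mul_ne_zero hσA0 hδ0) ?_
    have := hdiv A
    linear_combination ((A : Matrix α α F).det * (∏ i, E i) * δ) * this +
      (A : Matrix α α F).det * hδ + hdA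
  -- middle data
  have hWn : (W : Matrix (Idx α β) (Idx α β) F).det *
      S.σ (W : Matrix (Idx α β) (Idx α β) F).det = 1 := by
    have hJd : (hypJ (diagonal μ) : Matrix (Idx α β) (Idx α β) F).det ≠ 0 := by
      refine (Matrix.isUnit_det_of_right_inverse
        (B := b3 0 0 1 0 (diagonal fun i => (μ i)⁻¹) 0 1 0 0) ?_).ne_zero
      simp [hypJ, b3_mul, diagonal_mul_diagonal, hμ0, b3_one]
    have h1 := congrArg Matrix.det (mem_U S |>.1 hWmem)
    rw [det_mul, det_mul, det_cT] at h1
    exact mul_right_cancel₀ hJd (by linear_combination h1)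
  set τ : F := (S.σ (W : Matrix (Idx α β) (Idx α β) F).det)
  have hτ : τ * S.σ τ = 1 := by rw [S.inv, mul_comm]; exact hWn
  rcases isEmpty_or_nonempty β with hβ | hβ
  · have hW1 : (W : Matrix (Idx α β) (Idx α β) F).det = 1 := by
      simp only [W]; split_ifs with hcase
      · exact hC1
      · rw [Units.val_mul, det_mul, hC1, one_mul]
        have hsq := (hconj.resolve_left hcase).1
        let eq : Idx α β ≃ α ⊕ α := Equiv.sumCongr (Equiv.refl α) (Equiv.emptySum β α)
        rw [← det_submatrix_equiv_self eq.symm]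
        have : ((swap : GL (Idx α β) F) : Matrix (Idx α β) (Idx α β) F).submatrix eq.symm eq.symm =
            fromBlocks (0 : Matrix α α F) 1 1 0 := by
          ext (x | x) (y | y) <;> rfl
        rw [this]
        have h0 : fromBlocks (0 : Matrix α α F) 1 1 0 =
            fromBlocks (1 : Matrix α α F) (1 : Matrix α α F) 0 1 * fromBlocks (1 : Matrix α α F) 0 (-1 : Matrix α α F) (1 : Matrix α α F) *
              fromBlocks (1 : Matrix α α F) (1 : Matrix α α F) 0 1 *
              fromBlocks (-1 : Matrix α α F) 0 0 (1 : Matrix α α F) := by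
          simp [fromBlocks_multiply]
        rw [h0]
        simp [det_mul, det_fromBlocks_zero₂₁, det_fromBlocks_zero₁₂, det_neg, hsq]
    refine com_of_block S (diagonal fun i => (μ i)⁻¹) hJ1 hJh hg eg A B 1 1 (one_mem _) (one_mem _)
      (hA.free S 1 (fun _ => 1) (by simp) (by simp)) (hB.free S 1 (fun _ => 1) (by simp) (by simp))
      hAB ?_ ?_ hWmem hW1 ?_
    · ext x; exact isEmptyElim x
    · have hp : (∏ i, E i) = 1 := Finset.prod_eq_one fun i _ => isEmptyElim i
      rw [← hA1', hp, mul_one]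
    · rw [← map_inv]
      exact (hWconj (1⁻¹)).trans (by rw [inv_one])
  obtain ⟨i₀⟩ := hβ
  obtain ⟨e₁, km, he₁, hkm, ee₁, hkd, hke⟩ := exists_middle S μ hμ0 hμ π E hE τ hτ i₀
  have he₂ : km * e₁⁻¹ * km⁻¹ ∈ U S (diagonal μ) :=
    mul_mem (mul_mem hkm (inv_mem he₁)) (inv_mem hkm)
  refine com_of_block S (diagonal fun i => (μ i)⁻¹) hJ1 hJh hg eg A B e₁ (km * e₁⁻¹ * km⁻¹) he₁
    he₂ (hA.free S e₁ E ee₁ hE) (hB.free S _ _ hke fun i => ?_) hAB ?_ ?_
    (w := W * levi S (1, km)) (mul_mem hWmem (levi_mem S 1 hkm)) ?_ ?_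
  · rw [map_inv₀, ← mul_inv, hE, inv_one]
  · rw [hD', hke, ee₁, diagonal_mul_diagonal]; exact hc
  · rw [det_levi, ee₁, det_diagonal]
    rw [det_levi, Units.val_one, det_one, one_mul] at hA1'
    rw [← hA1']; ring
  · rw [Units.val_mul, det_mul, det_levi, Units.val_one, det_one, inv_one, Units.val_one, det_one,
      map_one, mul_one, one_mul, hkd]
    exact hWn
  · rw [← map_inv, _root_.mul_inv_rev, ← map_inv,
      show W * levi S (1, km) * levi S ((A, e₁)⁻¹) * (levi S (1, km)⁻¹ * W⁻¹) =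
        W * (levi S (1, km) * levi S ((A, e₁)⁻¹) * levi S (1, km)⁻¹) * W⁻¹ by group,
      ← map_mul, ← map_mul]
    exact Eq.trans (by simp) (hWconj _)

end Cfsg.Agent.H31.OreSU
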