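/-
Free Levi blocks from annihilating polynomials; conjugation invariance of pairs.
-/
import Cfsg.Agent.H31.OreSU.Middle
import Cfsg.Agent.H60.Ore.Units

set_option autoImplicit false
set_option linter.unusedSectionVars false

namespace Cfsg.Agent.H31.OreSU

open Matrix Polynomial

variable {F : Type*} [Field F] [Finite F] (S : UConj F)
variable {α : Type} [Fintype α] [DecidableEq α]

/-- The reversed conjugate polynomial. -/
noncomputable def starP (d : ℕ) (f : F[X]) : F[X] := reflect d (f.map S.σ)

theorem aeval_cT (A : Matrix α α F) (f : F[X]) :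
    aeval (cT S A) (f.map S.σ) = cT S (aeval A f) := by
  induction f using Polynomial.induction_on' with
  | add p r hp hr => rw [Polynomial.map_add, map_add, map_add, hp, hr, cT_add]
  | monomial k a =>
    rw [Polynomial.map_monomial, aeval_monomial, aeval_monomial]
    have : ∀ k : ℕ, cT S A ^ k = cT S (A ^ k) := by
      intro k
      induction k with
      | zero => simp
      | succ k ih => rw [pow_succ, pow_succ', ih, cT_mul]
    rw [this, ← Algebra.smul_def, ← Algebra.smul_def, cT_smul]

theorem aeval_reflect {R : Type*} [Ring R] [Algebra F R] (B C : R) (h : B * C = 1) (d : ℕ)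
    (f : F[X]) (hd : f.natDegree ≤ d) : aeval B (reflect d f) * C ^ d = aeval C f := by
  let L : F[X] →+ F[X] := AddMonoidHom.mk' (fun p => reflect d p) (fun a b => reflect_add a b d)
  have hL : ∀ (s : Finset ℕ) (c : ℕ → F[X]), reflect d (∑ i ∈ s, c i) = ∑ i ∈ s, reflect d (c i) :=
    fun s c => map_sum L c s
  rw [f.as_sum_range' (d + 1) (by omega), map_sum, hL, map_sum, Finset.sum_mul]
  refine Finset.sum_congr rfl fun i hi => ?_
  have hi' : i ≤ d := by simp at hi; omega
  simp only [← C_mul_X_pow_eq_monomial, reflect_C_mul_X_pow, map_mul, aeval_C, map_pow, aeval_X,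
    mul_assoc, revAt_le hi']
  congr 1
  calc B ^ (d - i) * C ^ d = B ^ (d - i) * C ^ (d - i) * C ^ i := by
        rw [mul_assoc, ← pow_add, Nat.sub_add_cancel hi']
    _ = C ^ i := by
      have hk : ∀ k : ℕ, B ^ k * C ^ k = 1 := fun k => by
        induction k with
        | zero => simp
        | succ k ih => rw [pow_succ, pow_succ', mul_assoc, ← mul_assoc B C, h, one_mul, ih]
      rw [hk, one_mul]

/-- Freeness from an annihilating polynomial. -/
theorem reg_of_poly (A : GL α F) (f : F[X]) (d : ℕ) (hd : f.natDegree ≤ d)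
    (hA : aeval (A : Matrix α α F) f = 0) (hco : IsCoprime f (starP S d f))
    (hn : ∀ ν : F, ν * S.σ ν = 1 → f.eval ν ≠ 0) : Reg S (A : Matrix α α F) := by
  set M : Matrix α α F := (A : Matrix α α F)
  set B : Matrix α α F := cT S (↑A⁻¹ : Matrix α α F)
  have hB1 : B * cT S M = 1 := by rw [← cT_mul, A.mul_inv, cT_one]
  have hB2 : cT S M * B = 1 := by rw [← cT_mul, A.inv_mul, cT_one]
  have hs : aeval B (starP S d f) = 0 := by
    have h1 := aeval_reflect B (cT S M) hB1 d (f.map S.σ) (by rwa [natDegree_map_eq_of_injective S.σ.injective])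
    rw [aeval_cT, hA, cT_zero] at h1
    have hu : IsUnit (cT S M ^ d) := (IsUnit.of_mul_eq_one B hB2).pow d
    exact hu.mul_left_eq_zero.1 h1
  obtain ⟨u, w, huw⟩ := hco
  have key : ∀ (P Q : Matrix α α F), aeval P f = 0 → aeval Q (starP S d f) = 0 → ∀ X,
      (P * X = X * Q ∨ Q * X = X * P) → X = 0 := by
    intro P Q hP hQ X h
    rcases h with h | h
    · have h2 := H60.Ore.Sim.aeval_intertwine h (u * f + w * starP S d f)
      rw [huw, map_one, map_one, Matrix.one_mul, Matrix.mul_one] at h2
      have h3 := H60.Ore.Sim.aeval_intertwine h (w * starP S d f)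
      rw [map_mul, map_mul, hQ, Matrix.mul_zero, Matrix.mul_zero] at h3
      have h4 : aeval P (w * starP S d f) = 1 := by
        have := congrArg (aeval P) huw
        rwa [map_add, map_mul (aeval P) u, hP, mul_zero, zero_add, map_one] at this
      rwa [← map_mul, h4, Matrix.one_mul] at h3
    · have h3 := H60.Ore.Sim.aeval_intertwine h (u * f)
      rw [map_mul, map_mul, hP, Matrix.mul_zero, Matrix.mul_zero] at h3
      have h4 : aeval Q (u * f) = 1 := by
        have := congrArg (aeval Q) huw
        rwa [map_add, map_mul (aeval Q) w, hQ, mul_zero, add_zero, map_one] at this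
      rwa [← map_mul, h4, Matrix.one_mul] at h3
  refine ⟨fun X hX => key M B hA hs X (Or.inl ?_), fun X hX => key M B hA hs X (Or.inr ?_),
    fun ν hν => ?_⟩
  · calc M * X = M * X * (cT S M * B) := by rw [hB2, Matrix.mul_one]
      _ = X * B := by rw [← Matrix.mul_assoc, hX]
  · calc B * X = B * (cT S M * X * M) := by rw [hX]
      _ = X * M := by rw [← Matrix.mul_assoc, ← Matrix.mul_assoc, hB1, Matrix.one_mul]
  · intro h0
    obtain ⟨v, hv, hv0⟩ := Matrix.exists_mulVec_eq_zero_iff.2 h0
    have hv1 : M *ᵥ v = ν • v := by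
      rwa [Matrix.sub_mulVec, Matrix.smul_mulVec, Matrix.one_mulVec, sub_eq_zero] at hv0
    have hev : ∀ p : F[X], aeval M p *ᵥ v = p.eval ν • v := by
      intro p
      induction p using Polynomial.induction_on' with
      | add p r hp hr => rw [map_add, Matrix.add_mulVec, hp, hr, eval_add, add_smul]
      | monomial k a =>
        have hk : ∀ k : ℕ, M ^ k *ᵥ v = ν ^ k • v := by
          intro k
          induction k with
          | zero => simp
          | succ k ih =>
            rw [pow_succ', ← Matrix.mulVec_mulVec, ih, Matrix.mulVec_smul, hv1, smul_smul, pow_succ]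
        rw [aeval_monomial, ← Algebra.smul_def, Matrix.smul_mulVec, hk, eval_monomial, smul_smul]
    have h2 := hev f
    rw [hA, Matrix.zero_mulVec] at h2
    rcases smul_eq_zero.1 h2.symm with h3 | h3
    · exact hn ν hν h3
    · exact hv h3

theorem Pairable.conj {D : Matrix α α F} {δ : F} (h : Pairable S D δ) (P : GL α F) :
    Pairable S ((P : Matrix α α F) * D * (↑P⁻¹ : Matrix α α F)) δ := by
  obtain ⟨A, B, C, hAB, hA, hB, hdA, hdC, hconj⟩ := h
  set M : Matrix α α F := (P : Matrix α α F)
  set N : Matrix α α F := (↑P⁻¹ : Matrix α α F)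
  have h1 : M * N = 1 := P.mul_inv
  have h2 : N * M = 1 := P.inv_mul
  have hdd : M.det * N.det = 1 := by rw [← det_mul, h1, det_one]
  rcases hconj with hc | ⟨hsq, hc⟩
  · refine ⟨P * A * P⁻¹, P * B * P⁻¹, P * C * P⁻¹, ?_, hA.conj S h1, hB.conj S h1, ?_, ?_, Or.inl ?_⟩
    · rw [hAB]; simp [Units.val_mul, Matrix.mul_assoc, ← Matrix.mul_assoc N, h2, M, N, -coe_units_inv]
    · rw [Units.val_mul, Units.val_mul, Matrix.det_conj_of_mul_eq_one h1 h2]; exact hdA
    · rw [Units.val_mul, Units.val_mul, Matrix.det_conj_of_mul_eq_one h1 h2]; exact hdC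
    · have : B = C * A⁻¹ * C⁻¹ := Units.ext (by simpa [-coe_units_inv] using hc)
      rw [this]
      simp only [← Units.val_mul]
      congr 1
      group
  · let P' : GL α F :=
      { val := cT S M, inv := cT S N
        val_inv := by rw [← cT_mul, h2, cT_one]
        inv_val := by rw [← cT_mul, h1, cT_one] }
    refine ⟨P * A * P⁻¹, P * B * P⁻¹, P * C * P', ?_, hA.conj S h1, hB.conj S h1, ?_, ?_,
      Or.inr ⟨hsq, ?_⟩⟩
    · rw [hAB]; simp [Units.val_mul, Matrix.mul_assoc, ← Matrix.mul_assoc N, h2, M, N, -coe_units_inv]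
    · rw [Units.val_mul, Units.val_mul, Matrix.det_conj_of_mul_eq_one h1 h2]; exact hdA
    · show S.σ (M * (C : Matrix α α F) * cT S M).det = (M * (C : Matrix α α F) * cT S M).det
      rw [det_mul, det_mul, det_cT, map_mul, map_mul, S.inv, hdC]
      ring
    · show M * (B : Matrix α α F) * N = M * (C : Matrix α α F) * cT S M *
        cT S (M * (A : Matrix α α F) * N) * ((↑(P * C * P')⁻¹ : Matrix α α F))
      rw [hc, _root_.mul_inv_rev, _root_.mul_inv_rev]
      show _ = M * (C : Matrix α α F) * cT S M * cT S (M * (A : Matrix α α F) * N) *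
        (cT S N * ((↑C⁻¹ : Matrix α α F) * N))
      simp only [cT_mul, Matrix.mul_assoc]
      rw [← Matrix.mul_assoc (cT S M) (cT S N), ← cT_mul, h2, cT_one, Matrix.one_mul,
        ← Matrix.mul_assoc (cT S M) (cT S N), ← cT_mul, h2, cT_one, Matrix.one_mul]

/-- Pairs for a cyclic block follow from pairs for the companion matrix. -/
theorem Pairable.of_sim {D E : Matrix α α F} {δ : F} (h : H60.Ore.Sim D E) (hE : Pairable S E δ) :
    Pairable S D δ := by
  obtain ⟨P, Q, h1, h2, h3⟩ := h
  have hD : D = P * E * Q := by rw [← h3, Matrix.mul_assoc, h1, Matrix.mul_one]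
  exact hD ▸ hE.conj S ⟨P, Q, h1, h2⟩

end Cfsg.Agent.H31.OreSU
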