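/-
Pairs for companion blocks over fields of order at least nine.
-/
import Cfsg.Agent.H31.OreSU.PairGen
import Cfsg.Agent.H60.Ore.Large

set_option autoImplicit false
set_option linter.unusedSectionVars false

namespace Cfsg.Agent.H31.OreSU

open Matrix Polynomial
open Cfsg.Agent.H60.Ore (Sim Cyc CFull Hess compOf quad qmat Jm)

variable {F : Type*} [Field F] [Fintype F] [DecidableEq F] (S : UConj F) {q : ℕ}

theorem card_roots_le (p : F[X]) (hp : p ≠ 0) :
    (Finset.univ.filter fun x : F => p.eval x = 0).card ≤ p.natDegree := by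
  refine le_trans (Finset.card_le_card (t := p.roots.toFinset) fun x hx => ?_)
    (le_trans (Multiset.toFinset_card_le _) (card_roots' p))
  simp only [Finset.mem_filter] at hx
  simp [mem_roots hp, hx.2]

/-- The data of the conjugation. -/
structure QConj (q : ℕ) : Prop where
  card : Fintype.card F = q ^ 2
  pow : ∀ x : F, S.σ x = x ^ q

variable {S}

theorem QConj.two_le (h : QConj S q) : 2 ≤ q := by
  have h1 := Fintype.one_lt_card (α := F)
  rw [h.card] at h1
  by_contra hq
  interval_cases q <;> simp at h1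

theorem QConj.norm_one_le (h : QConj S q) :
    (Finset.univ.filter fun x : F => x * S.σ x = 1).card ≤ q + 1 := by
  have hp : (X ^ (q + 1) - 1 : F[X]) ≠ 0 := (monic_X_pow_sub_C 1 (Nat.succ_ne_zero q)).ne_zero
  refine le_trans (Finset.card_le_card fun x hx => ?_) ((card_roots_le _ hp).trans (by compute_degree))
  simp only [Finset.mem_filter, Finset.mem_univ, true_and] at hx ⊢
  rw [eval_sub, eval_pow, eval_X, eval_one, pow_succ', ← h.pow, hx, sub_self]

theorem QConj.exists_norm_ne (h : QConj S q) (hq : 3 ≤ q) : ∃ a : F, a ≠ 0 ∧ a * S.σ a ≠ 1 := by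
  by_contra hc
  push Not at hc
  have : (Finset.univ.erase (0 : F)) ⊆ Finset.univ.filter fun x : F => x * S.σ x = 1 := fun x hx => by
    simpa using hc x (Finset.ne_of_mem_erase hx)
  have h1 := (Finset.card_le_card this).trans h.norm_one_le
  rw [Finset.card_erase_of_mem (Finset.mem_univ _), Finset.card_univ, h.card] at h1
  have : 3 * q ≤ q ^ 2 := by nlinarith
  omega

theorem starP_mul (d e : ℕ) (f g : F[X]) (hf : f.natDegree ≤ d) (hg : g.natDegree ≤ e) :
    starP S (d + e) (f * g) = starP S d f * starP S e g := by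
  rw [starP, Polynomial.map_mul, reflect_mul _ _ (natDegree_map_le.trans hf)
    (natDegree_map_le.trans hg)]
  rfl

theorem starP_lin (a : F) : starP S 1 (X - C a) = 1 - C (S.σ a) * X := by
  rw [starP, Polynomial.map_sub, map_X, map_C]
  ext n
  rw [coeff_reflect]
  rcases n with _ | _ | n
  · simp [revAt_le, coeff_X]
  · simp [revAt_le, coeff_X, coeff_one]
  · rw [revAt_eq_self_of_lt (by omega)]
    simp [coeff_X, coeff_C, coeff_one]

theorem starP_lin_pow (a : F) (m : ℕ) : starP S m ((X - C a) ^ m) = (1 - C (S.σ a) * X) ^ m := by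
  induction m with
  | zero => simp [starP]
  | succ m ih =>
    rw [pow_succ, starP_mul m 1 _ _ ((natDegree_pow_le).trans (by simp)) (by simp), ih, starP_lin,
      pow_succ]

theorem eval_one_sub (c x : F) : (1 - C c * X : F[X]).eval x = 1 - c * x := by simp

/-- An irreducible quadratic which is not its own reversed conjugate. -/
theorem exists_tau (h : QConj S q) (hq : 3 ≤ q) (δ : F) (hδ : δ ≠ 0) :
    ∃ τ : F, (∀ x : F, (quad τ δ).eval x ≠ 0) ∧ S.σ τ ≠ S.σ δ * τ := by
  let nz : Finset F := Finset.univ.erase 0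
  let fix : Finset F := nz.filter fun x => x * x = δ
  let R : Finset F := nz.image fun x => x + δ / x
  let B : Finset F := Finset.univ.filter fun τ : F => S.σ τ = S.σ δ * τ
  have hfix : fix.card ≤ 2 := by
    refine le_trans (Finset.card_le_card (t := Finset.univ.filter fun x : F => (X ^ 2 - C δ).eval x = 0)
      fun x hx => ?_) ((card_roots_le _ (monic_X_pow_sub_C δ two_ne_zero).ne_zero).trans (by simp))
    simp only [fix, Finset.mem_filter] at hx
    simp [sq, hx.2]
  have hR : R.card * 2 ≤ nz.card + fix.card := by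
    have h1 := Finset.card_eq_sum_card_fiberwise (s := nz) (t := R) (f := fun x => x + δ / x)
      fun x hx => Finset.mem_image_of_mem _ hx
    have h2 := Finset.card_eq_sum_card_fiberwise (s := fix) (t := R) (f := fun x => x + δ / x)
      fun x hx => Finset.mem_image_of_mem _ (Finset.mem_filter.1 hx).1
    rw [h1, h2, ← Finset.sum_add_distrib, ← smul_eq_mul]
    refine Finset.card_nsmul_le_sum _ _ _ fun y hy => ?_
    obtain ⟨x, hx, rfl⟩ := Finset.mem_image.1 hy
    have hx0 : x ≠ 0 := Finset.ne_of_mem_erase hx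
    by_cases he : x * x = δ
    · refine (show 2 ≤ 1 + 1 from le_rfl).trans (add_le_add (Finset.card_pos.2 ⟨x, ?_⟩)
        (Finset.card_pos.2 ⟨x, ?_⟩))
      · simp [nz, hx0]
      · simp [fix, nz, hx0, he]
    · refine le_trans ?_ (Nat.le_add_right _ _)
      have hne : x ≠ δ / x := fun e => he (by rwa [eq_div_iff hx0] at e)
      refine le_trans (le_of_eq (Finset.card_pair hne).symm) (Finset.card_le_card fun z hz => ?_)
      simp only [Finset.mem_insert, Finset.mem_singleton] at hz
      rcases hz with rfl | rfl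
      · simp [nz, hx0]
      · simp only [nz, Finset.mem_filter, Finset.mem_erase, Finset.mem_univ, and_true]
        refine ⟨div_ne_zero hδ hx0, ?_⟩
        field_simp
        ring
  have hB : B.card ≤ q := by
    have hp : (X ^ q - C (S.σ δ) * X : F[X]).natDegree = q := by
      rw [natDegree_sub_eq_left_of_natDegree_lt] <;> rw [natDegree_X_pow]
      have hle : (C (S.σ δ) * X : F[X]).natDegree ≤ 1 :=
        (natDegree_C_mul_le _ _).trans natDegree_X_le
      omega
    have hp0 : (X ^ q - C (S.σ δ) * X : F[X]) ≠ 0 := fun e => by rw [e, natDegree_zero] at hp; omega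
    refine le_trans (Finset.card_le_card fun x hx => ?_) ((card_roots_le _ hp0).trans hp.le)
    simp only [B, Finset.mem_filter, Finset.mem_univ, true_and] at hx ⊢
    rw [eval_sub, eval_pow, eval_X, ← h.pow, hx]; simp
  obtain ⟨τ, hτ⟩ : ∃ τ, τ ∉ R ∪ B := by
    by_contra hc
    push Not at hc
    have h1 : Fintype.card F ≤ (R ∪ B).card :=
      (Finset.card_univ (α := F)).symm.le.trans (Finset.card_le_card fun x _ => hc x)
    have h2 := h1.trans (Finset.card_union_le R B)
    rw [h.card] at h2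
    have hn : nz.card = q ^ 2 - 1 := by
      rw [Finset.card_erase_of_mem (Finset.mem_univ _), Finset.card_univ, h.card]
    have h3 : 3 * q ≤ q ^ 2 := by nlinarith
    omega
  simp only [Finset.mem_union, not_or] at hτ
  refine ⟨τ, fun x hx => ?_, fun e => hτ.2 (by simp [B, e])⟩
  have hx0 : x ≠ 0 := by
    rintro rfl
    simp [quad, hδ] at hx
  refine hτ.1 (Finset.mem_image.2 ⟨x, by simp [nz, hx0], ?_⟩)
  simp [quad] at hx
  field_simp
  linear_combination hx

theorem starP_quad (τ δ : F) :
    starP S 2 (quad τ δ) = C (S.σ δ) * X ^ 2 - C (S.σ τ) * X + 1 := by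
  ext n
  rw [starP, coeff_reflect, coeff_map, quad]
  rcases n with _ | _ | _ | n
  · simp [revAt_le, coeff_X, coeff_one]
  · simp [revAt_le, coeff_X, coeff_one, coeff_C]
  · simp [revAt_le, coeff_X, coeff_one, coeff_C]
  · rw [revAt_eq_self_of_lt (by omega)]
    simp [coeff_one, coeff_X_pow]

/-- Pairs from two similar cyclic matrices with full centralizer. -/
theorem pairable_of_sim {α : Type} [Fintype α] [DecidableEq α] (D U T : Matrix α α F)
    (hU : Sim U T) (hDU : Sim (D * U) T) (hfull : CFull T) (hT : IsUnit T.det) (δ : F)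
    (hdet : T.det * S.σ δ = S.σ T.det * δ) (hreg : Reg S T) : Pairable S D δ := by
  obtain ⟨P, Q, hP1, hP2, hP3⟩ := hDU
  obtain ⟨R, R', hR1, hR2, hR3⟩ := hU
  have hUT : U = R * T * R' := by rw [← hR3, Matrix.mul_assoc, hR1, Matrix.mul_one]
  have hDT : D * U = P * T * Q := by rw [← hP3, Matrix.mul_assoc (D * U), hP1, Matrix.mul_one]
  let gP : GL α F := ⟨P, Q, hP1, hP2⟩
  let gR : GL α F := ⟨R, R', hR1, hR2⟩
  let gT : GL α F := Matrix.nonsingInvUnit T hT
  have hne : (R : Matrix α α F).det * Q.det ≠ 0 :=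
    mul_ne_zero (Matrix.isUnit_det_of_right_inverse hR1).ne_zero
      (Matrix.isUnit_det_of_right_inverse hP2).ne_zero
  obtain ⟨Z, hZc, hZd⟩ := hfull _ (inv_ne_zero hne)
  let gZ : GL α F := Matrix.nonsingInvUnit Z (isUnit_iff_ne_zero.2 (hZd ▸ inv_ne_zero hne))
  have hcomm : gZ * gT = gT * gZ := Units.ext hZc
  let A : GL α F := gP * gT * gP⁻¹
  let B : GL α F := gR * gT⁻¹ * gR⁻¹
  refine ⟨A, B, gR * gZ * gP⁻¹, ?_, ?_, ?_, ?_, ?_, Or.inl ?_⟩
  · have hAU : (A : Matrix α α F) = D * U := by rw [hDT]; rfl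
    have hBU : U * (B : Matrix α α F) = 1 := by
      have : (gR * gT * gR⁻¹) * B = 1 := by simp only [B]; group
      have h' := congrArg Units.val this
      rw [Units.val_mul, Units.val_one] at h'
      rwa [hUT]
    rw [hAU, Matrix.mul_assoc, hBU, Matrix.mul_one]
  · exact hreg.conj S hP1
  · exact (Reg.inv S (A := gT) hreg).conj S hR1
  · show (P * T * Q).det * _ = S.σ (P * T * Q).det * _
    rw [Matrix.det_conj_of_mul_eq_one hP1 hP2]; exact hdet
  · have : ((gR * gZ * gP⁻¹ : GL α F) : Matrix α α F).det = 1 := by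
      show (R * Z * Q).det = 1
      rw [det_mul, det_mul, hZd, mul_right_comm, mul_inv_cancel₀ hne]
    rw [this, map_one]
  · simp only [← Units.val_mul]
    congr 1
    simp only [A, B]
    have h2 : gZ * gT⁻¹ * gZ⁻¹ = gT⁻¹ := by
      have h3 : Commute gZ gT⁻¹ := Commute.inv_right (hcomm : Commute gZ gT)
      rw [h3.eq, mul_inv_cancel_right]
    rw [← h2]; group

theorem pair_big (h : QConj S q) (hq : 3 ≤ q) {m : ℕ} (hm : 0 < m) {f : F[X]} (hf : f.Monic)
    (hfd : f.natDegree = m + 2) (hdet : (compOf (m + 2) f).det = 1) (δ : F) (hδ : δ ≠ 0) :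
    Pairable S (compOf (m + 2) f) δ := by
  obtain ⟨a, ha0, ha⟩ := h.exists_norm_ne hq
  have hδ2 : δ / a ^ m ≠ 0 := div_ne_zero hδ (pow_ne_zero _ ha0)
  obtain ⟨τ, hτ, hτB⟩ := exists_tau h hq (δ / a ^ m) hδ2
  set δ2 := δ / a ^ m
  have hf0 : f.coeff 0 ≠ 0 := fun e => by
    rw [H60.Ore.det_compOf hf hfd, e, mul_zero] at hdet
    exact zero_ne_one hdet
  have hco : IsCoprime (Jm m a).charpoly (quad τ δ2) := by
    rw [H60.Ore.charpoly_Jm]; exact H60.Ore.coprime_lin a (hτ a) m
  let e := (finSumFinEquiv (m := m) (n := 2)).symm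
  let T : Matrix (Fin (m + 2)) (Fin (m + 2)) F :=
    (fromBlocks (Jm m a) 0 0 (qmat τ δ2)).submatrix e e
  have hTs : Sim T (fromBlocks (Jm m a) 0 0 (qmat τ δ2)) := (Sim.submatrix _ e).symm
  have hTdet : T.det = δ := by
    rw [hTs.det_eq, det_fromBlocks_zero₂₁, H60.Ore.det_Jm, H60.Ore.det_qmat]
    exact mul_div_cancel₀ _ (pow_ne_zero _ ha0)
  have hcyc : Cyc T := Cyc.of_sim hTs ((H60.Ore.cyc_Jm m a).blocks (H60.Ore.cyc_compOf _ _)
    (by rwa [show (qmat τ δ2).charpoly = quad τ δ2 from H60.Ore.charpoly_qmat τ δ2]))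
  obtain ⟨U, hHU, hUs⟩ := H60.Ore.exists_mult hm hf hfd hf0 (Jm m a) (H60.Ore.Jm_upper m a)
    (fun i => by rw [H60.Ore.Jm_diag]; exact ha0) τ δ2 hco T hcyc (Fintype.card_fin _)
    (by rw [hTdet, hdet, one_mul, H60.Ore.det_Jm, mul_div_cancel₀ _ (pow_ne_zero _ ha0)])
  have hirr : Irreducible (quad τ δ2) := by
    refine (H60.Ore.quad_monic τ δ2).irreducible_iff_roots_eq_zero_of_degree_le_three
      (by rw [H60.Ore.quad_natDegree]) (by rw [H60.Ore.quad_natDegree]; norm_num) |>.2
      (Multiset.eq_zero_of_forall_notMem fun x hx => hτ x (isRoot_of_mem_roots hx))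
  have hfull : CFull T := CFull.of_sim hTs
    (CFull.right _ (by
      have h1 := H60.Ore.cfull_compOf (H60.Ore.quad_monic τ δ2) hirr
      rw [H60.Ore.quad_natDegree] at h1
      exact h1))
  refine pairable_of_sim _ U T (hUs.trans hTs.symm) hHU hfull
    (isUnit_iff_ne_zero.2 (hTdet ▸ hδ)) δ (by rw [hTdet, mul_comm]) ?_
  have hchar : T.charpoly = (X - C a) ^ m * quad τ δ2 := by
    rw [hTs.charpoly_eq, H60.Ore.charpoly_sum, H60.Ore.charpoly_Jm, H60.Ore.charpoly_qmat]
  have hdeg1 : ((X - C a) ^ m : F[X]).natDegree ≤ m := natDegree_pow_le.trans (by simp)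
  have hsa : S.σ a * a ≠ 1 := by rwa [mul_comm]
  refine reg_of_poly S (Matrix.nonsingInvUnit T (isUnit_iff_ne_zero.2 (hTdet ▸ hδ)))
    ((X - C a) ^ m * quad τ δ2) (m + 2)
    (natDegree_mul_le.trans (add_le_add hdeg1 (H60.Ore.quad_natDegree τ δ2).le))
    (hchar ▸ aeval_self_charpoly T) ?_ fun ν hν => ?_
  · rw [starP_mul m 2 _ _ hdeg1 (H60.Ore.quad_natDegree τ δ2).le, starP_lin_pow]
    have hq2 : ∀ x : F, (starP S 2 (quad τ δ2)).eval x ≠ 0 := by
      intro x hx
      rw [starP_quad] at hx
      simp at hx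
      rcases eq_or_ne x 0 with rfl | hx0
      · simp at hx
      refine hτ (S.σ x⁻¹) ?_
      have h0 : S.σ x ≠ 0 := (map_ne_zero S.σ).2 hx0
      have := congrArg S.σ hx
      simp only [map_add, map_sub, map_mul, map_pow, map_one, map_zero, S.inv] at this
      simp [quad, map_inv₀]
      field_simp
      linear_combination this
    refine IsCoprime.mul_left (IsCoprime.mul_right ?_ ?_) (IsCoprime.mul_right ?_ ?_)
    · refine (H60.Ore.coprime_lin a ?_ m).pow_right
      rw [eval_one_sub, sub_ne_zero]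
      exact Ne.symm hsa
    · exact H60.Ore.coprime_lin a (hq2 a) m
    · refine IsCoprime.pow_right ((hirr.coprime_iff_not_dvd).2 fun hd => ?_)
      have hle := natDegree_le_of_dvd hd (fun e0 => by simpa using congrArg (eval 0) e0)
      rw [H60.Ore.quad_natDegree] at hle
      have h1 : (1 - C (S.σ a) * X : F[X]).natDegree ≤ 1 := by compute_degree
      omega
    · refine (hirr.coprime_iff_not_dvd).2 fun hd => hτB ?_
      have hne : starP S 2 (quad τ δ2) ≠ 0 := fun e0 => hq2 0 (by rw [e0, eval_zero])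
      obtain ⟨c, hc⟩ := hd
      have hc0 : c ≠ 0 := fun e0 => hne (by rw [hc, e0, mul_zero])
      have hdc := congrArg natDegree hc
      rw [natDegree_mul (H60.Ore.quad_monic τ δ2).ne_zero hc0, H60.Ore.quad_natDegree] at hdc
      have hle : (starP S 2 (quad τ δ2)).natDegree ≤ 2 := by rw [starP_quad]; compute_degree
      obtain ⟨u, rfl⟩ := natDegree_eq_zero.1 (show c.natDegree = 0 by omega)
      rw [starP_quad] at hc
      have h2 := congrArg (fun p => coeff p 2) hc
      have h1 := congrArg (fun p => coeff p 1) hc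
      simp [quad, coeff_X, coeff_one, coeff_C] at h1 h2
      linear_combination h1 - τ * h2
  · rw [eval_mul, eval_pow, eval_sub, eval_X, eval_C]
    refine mul_ne_zero (pow_ne_zero _ (sub_ne_zero.2 fun e => ha (e ▸ hν))) (hτ ν)

/-- Two by two blocks over fields of order at least sixteen. -/
theorem pair_two (h : QConj S q) (hq : 4 ≤ q) {f : F[X]} (hf : f.Monic) (hfd : f.natDegree = 2)
    (hdet : (compOf 2 f).det = 1) (δ : F) (hδ : δ ≠ 0) : Pairable S (compOf 2 f) δ := by
  obtain ⟨a, ha0, ha1, ha2⟩ : ∃ a : F, a ≠ 0 ∧ a * S.σ a ≠ 1 ∧ S.σ δ * a ^ 2 ≠ δ * S.σ a ^ 2 := by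
    let p : F[X] := C (S.σ δ) * X ^ 2 - C δ * X ^ (2 * q)
    have hp : p ≠ 0 := fun e => by
      have h1 := congrArg (fun r => coeff r (2 * q)) e
      simp [p, coeff_X_pow, show ¬ 2 * q = 2 by omega, hδ] at h1
    have hpd : p.natDegree ≤ 2 * q := by
      refine (natDegree_sub_le _ _).trans (max_le ?_ ?_)
      · exact (natDegree_C_mul_le _ _).trans (by simp; omega)
      · exact (natDegree_C_mul_le _ _).trans (by simp)
    obtain ⟨a, ha⟩ : ∃ a, a ∉ (Finset.univ.filter fun x : F => x * S.σ x = 1) ∪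
        Finset.univ.filter fun x : F => p.eval x = 0 := by
      by_contra hc
      push Not at hc
      have h1 : Fintype.card F ≤ _ :=
        (Finset.card_univ (α := F)).symm.le.trans (Finset.card_le_card fun x _ => hc x)
      have h2 := h1.trans (Finset.card_union_le _ _)
      have h3 := h.norm_one_le
      have h4 := (card_roots_le p hp).trans hpd
      rw [h.card] at h2
      have : 4 * q ≤ q ^ 2 := by nlinarith
      omega
    simp only [Finset.mem_union, Finset.mem_filter, Finset.mem_univ, true_and, not_or] at ha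
    refine ⟨a, fun e => ha.2 ?_, ha.1, fun e => ha.2 ?_⟩
    · subst e; simp [p, show q ≠ 0 by omega]
    · simp [p, pow_mul', ← h.pow]
      linear_combination e
  obtain ⟨b, hb0, hb1, hab, hbδ, hσab⟩ : ∃ b : F, b ≠ 0 ∧ b * S.σ b ≠ 1 ∧ a ≠ b ∧
      (a * b) * S.σ δ = S.σ (a * b) * δ ∧ S.σ a * b ≠ 1 := by
    let nz : Finset F := Finset.univ.erase 0
    let R : Finset F := nz.image fun x => x * S.σ x
    have hR : q - 1 ≤ R.card := by
      have h1 := Finset.card_le_mul_card_image (f := fun x : F => x * S.σ x) nz (q + 1) fun y hy => by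
        obtain ⟨x₀, hx₀, rfl⟩ := Finset.mem_image.1 hy
        refine le_trans (Finset.card_le_card_of_injOn (fun x => x / x₀) (fun x hx => ?_) ?_) h.norm_one_le
        · simp only [Finset.mem_coe, Finset.mem_filter] at hx ⊢
          refine ⟨Finset.mem_univ _, ?_⟩
          rw [map_div₀, div_mul_div_comm, hx.2, div_self]
          have := Finset.ne_of_mem_erase hx₀
          exact mul_ne_zero this ((map_ne_zero S.σ).2 this)
        · intro x _ y _ e
          exact (div_left_inj' (Finset.ne_of_mem_erase hx₀)).1 e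
      rw [Finset.card_erase_of_mem (Finset.mem_univ _), Finset.card_univ, h.card] at h1
      by_contra hlt
      push Not at hlt
      have : (q + 1) * R.card + (q + 1) ≤ (q + 1) * (q - 1) := by
        rw [← mul_add_one]; exact Nat.mul_le_mul le_rfl hlt
      have : (q + 1) * (q - 1) = q ^ 2 - 1 := by
        obtain ⟨k, rfl⟩ : ∃ k, q = k + 1 := ⟨q - 1, by omega⟩
        rw [sq, Nat.add_sub_cancel]; ring_nf; omega
      have h1' : q ^ 2 - 1 ≤ (q + 1) * R.card := h1
      omega
    let p : F[X] := C (δ * S.σ δ) * X ^ 2 - C (a * S.σ a)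
    have hp : p ≠ 0 := fun e => by
      have h1 := congrArg (fun r => coeff r 2) e
      simp only [p, coeff_sub, coeff_C_mul, coeff_X_pow_self, coeff_C, coeff_zero] at h1
      simp [hδ] at h1
    obtain ⟨r, hr, hr'⟩ : ∃ r ∈ R, p.eval r ≠ 0 := by
      by_contra hc
      push Not at hc
      have h1 : R.card ≤ 2 := le_trans (Finset.card_le_card fun x hx => by simpa using hc x hx)
        ((card_roots_le p hp).trans (by simp only [p]; compute_degree))
      omega
    obtain ⟨x, hx, rfl⟩ := Finset.mem_image.1 hr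
    have hx0 := Finset.ne_of_mem_erase hx
    have hfix : S.σ (x * S.σ x) = x * S.σ x := by rw [map_mul, S.inv, mul_comm]
    set r := x * S.σ x
    have hr0 : r ≠ 0 := mul_ne_zero hx0 ((map_ne_zero S.σ).2 hx0)
    have hσa : S.σ a ≠ 0 := (map_ne_zero S.σ).2 ha0
    refine ⟨r * δ / a, div_ne_zero (mul_ne_zero hr0 hδ) ha0, fun e => hr' ?_, fun e => ha2 ?_, ?_,
      fun e => ha2 ?_⟩
    · rw [map_div₀, map_mul, hfix, div_mul_div_comm, div_eq_one_iff_eq (mul_ne_zero ha0 hσa)] at e
      simp [p]
      linear_combination e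
    · have e1 : a ^ 2 = r * δ := by rw [eq_div_iff ha0] at e; linear_combination e
      have e2 := congrArg S.σ e1
      rw [map_pow, map_mul, hfix] at e2
      linear_combination S.σ δ * e1 - δ * e2
    · rw [mul_div_cancel₀ _ ha0, map_mul, hfix]; ring
    · have e1 : S.σ a * r * δ = a := by
        rw [mul_div_assoc', div_eq_one_iff_eq ha0] at e; linear_combination e
      have e2 := congrArg S.σ e1
      rw [map_mul, map_mul, S.inv, hfix] at e2
      exact mul_right_cancel₀ hr0 (by linear_combination a * e2 - S.σ a * e1)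
  have hσab' : a * S.σ b ≠ 1 := fun e => hσab (by simpa [S.inv] using congrArg S.σ e)
  have hc0 : f.coeff 0 = 1 := by simpa [H60.Ore.det_compOf hf hfd] using hdet
  set D := compOf 2 f
  have hD : D = !![0, -1; 1, -f.coeff 1] := by rw [show D = compOf 2 f from rfl, H60.Ore.compOf_two, hc0]
  let x := a + b + a * f.coeff 1
  let T : Matrix (Fin 2) (Fin 2) F := diagonal ![a, b]
  have hTc : Cyc T := H60.Ore.Large.cyc_two T fun l e => hab (by
    have h0 := congrFun (congrFun e 0) 0
    have h1 := congrFun (congrFun e 1) 1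
    simp [T] at h0 h1
    rw [h0, h1])
  have hchT : T.charpoly = quad (a + b) (a * b) := by
    rw [Matrix.charpoly_fin_two]; simp [T, quad]
  have hmake : ∀ M : Matrix (Fin 2) (Fin 2) F, M 1 0 ≠ 0 → M.trace = a + b → M.det = a * b →
      Sim M T := fun M h10 ht hd => by
    refine Cyc.sim (Hess.cyc ⟨fun i j hij => absurd hij (by omega), fun i j hij => ?_⟩) hTc ?_
    · rwa [show i = 1 from Fin.ext (by simp; omega), show j = 0 from Fin.ext (by simp; omega)]
    · rw [hchT, Matrix.charpoly_fin_two, ht, hd]; rfl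
  -- a second factor in the conjugacy class of `T`
  let V : Matrix (Fin 2) (Fin 2) F := !![x + -f.coeff 1 * a, a; -b, 0]
  have hDV : D * V = !![b, 0; x - f.coeff 1 * a + b * f.coeff 1, a] := by
    rw [hD]; ext i j; fin_cases i <;> fin_cases j <;> simp [V, Matrix.mul_apply] <;> ring
  have hVs : Sim V T := hmake V (by simpa [V] using hb0)
    (by simp [V, Matrix.trace_fin_two, x]; ring) (by simp [V, Matrix.det_fin_two])
  have hDVs : Sim (D * V) T := by
    rw [hDV]
    refine (Cyc.sim (H60.Ore.Large.cyc_two _ fun l e => hab ?_) hTc ?_)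
    · have h0 := congrFun (congrFun e 0) 0
      have h1 := congrFun (congrFun e 1) 1
      simp at h0 h1
      rw [h1, h0]
    · rw [hchT, Matrix.charpoly_fin_two]
      simp [quad, Matrix.trace_fin_two, Matrix.det_fin_two, mul_comm, add_comm]
  have hTdet : T.det = a * b := by simp [T]
  have hfull : CFull T := fun d _ => ⟨diagonal ![d, 1], by simp [T, diagonal_mul_diagonal, mul_comm],
    by simp⟩
  refine pairable_of_sim D V T hVs hDVs hfull
    (isUnit_iff_ne_zero.2 (hTdet ▸ mul_ne_zero ha0 hb0)) δ (hTdet ▸ hbδ) ?_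
  refine reg_of_poly S (Matrix.nonsingInvUnit T (isUnit_iff_ne_zero.2 (hTdet ▸ mul_ne_zero ha0 hb0)))
    ((X - C a) * (X - C b)) (1 + 1) (natDegree_mul_le.trans (by simp)) ?_ ?_ fun ν hν => ?_
  · have : quad (a + b) (a * b) = (X - C a) * (X - C b) := by simp [quad]; ring
    rw [← this, ← hchT]; exact aeval_self_charpoly T
  · rw [starP_mul 1 1 _ _ (by simp) (by simp), starP_lin, starP_lin]
    have hlin : ∀ u w : F, S.σ w * u ≠ 1 → IsCoprime (X - C u) (1 - C (S.σ w) * X) := fun u w hne => by
      simpa using H60.Ore.coprime_lin u (Q := 1 - C (S.σ w) * X) (by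
        rw [eval_one_sub, sub_ne_zero]; exact Ne.symm hne) 1
    refine IsCoprime.mul_left (IsCoprime.mul_right (hlin a a (by rwa [mul_comm])) (hlin a b (by
      rwa [mul_comm]))) (IsCoprime.mul_right (hlin b a hσab) (hlin b b (by rwa [mul_comm])))
  · simp only [eval_mul, eval_sub, eval_X, eval_C]
    exact mul_ne_zero (sub_ne_zero.2 fun e => ha1 (e ▸ hν)) (sub_ne_zero.2 fun e => hb1 (e ▸ hν))

/-- One by one blocks. -/
theorem pair_one {a : F} (ha0 : a ≠ 0) (ha : a * S.σ a ≠ 1) (δ : F)
    (hdet : a * S.σ δ = S.σ a * δ) : Pairable S (1 : Matrix (Fin 1) (Fin 1) F) δ := by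
  let A : GL (Fin 1) F := Matrix.nonsingInvUnit (diagonal fun _ => a) (by simp [ha0])
  have hA : Reg S (A : Matrix (Fin 1) (Fin 1) F) := by
    refine reg_of_poly S A (X - C a) 1 (by simp) ?_ ?_ fun ν hν => ?_
    · ext i j
      show (aeval (diagonal fun _ : Fin 1 => a) (X - C a)) i j = 0
      simp [Subsingleton.elim i j, Matrix.algebraMap_eq_diagonal]
    · rw [starP_lin]
      simpa using H60.Ore.coprime_lin a (Q := 1 - C (S.σ a) * X) (by
        rw [eval_one_sub, sub_ne_zero, mul_comm]; exact Ne.symm ha) 1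
    · rw [eval_sub, eval_X, eval_C]; exact sub_ne_zero.2 fun e => ha (e ▸ hν)
  refine ⟨A, A⁻¹, 1, A.mul_inv.symm, hA, hA.inv S, ?_, by simp, Or.inl (by simp)⟩
  show (diagonal fun _ : Fin 1 => a).det * _ = S.σ (diagonal fun _ : Fin 1 => a).det * _
  simpa using hdet

end Cfsg.Agent.H31.OreSU
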