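/-
Blocks of size two over the field with nine elements.
-/
import Cfsg.Agent.H31.OreSU.PairOdd
import Cfsg.Agent.H60.Ore.Decomp

set_option autoImplicit false
set_option linter.unusedSectionVars false

namespace Cfsg.Agent.H31.OreSU

open Matrix Polynomial
open Cfsg.Agent.H60.Ore (Sim Cyc Hess CFull compOf quad qmat)

variable {F : Type*} [Field F] [Fintype F] [DecidableEq F] {S : UConj F}

theorem q3_facts (h : QConj S 3) : (3 : F) = 0 ∧ Fintype.card F % 2 = 1 ∧ (2 : F) ≠ 0 := by
  have h3 : (3 : F) = 0 := by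
    obtain ⟨p, hP⟩ := CharP.exists F
    obtain ⟨n, hp', hc⟩ := FiniteField.card F p
    rw [h.card] at hc
    have : p ∣ 3 := hp'.dvd_of_dvd_pow (hc ▸ dvd_pow_self p n.pos.ne')
    rw [(Nat.prime_dvd_prime_iff_eq hp' Nat.prime_three).1 this] at hP
    exact CharP.cast_eq_zero F 3
  exact ⟨h3, by rw [h.card]; norm_num, fun e => one_ne_zero (α := F) (by linear_combination h3 - e)⟩

/-- Every block of size two which is not unipotent. -/
theorem pair_two_three (h : QConj S 3) {g : F[X]} (hg : g.Monic) (hgd : g.natDegree = 2)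
    (hdet : (compOf 2 g).det = 1) (hg1 : g.coeff 1 ≠ 1) (δ : F) (hδ : δ ≠ 0) :
    Pairable S (compOf 2 g) δ := by
  obtain ⟨h3, hodd, h2⟩ := q3_facts h
  have hg0 : g.coeff 0 = 1 := by simpa [H60.Ore.det_compOf hg hgd] using hdet
  obtain ⟨τ, hτ, hτB⟩ := exists_tau h le_rfl δ hδ
  have hτ0 : τ ≠ 0 := fun e => hτB (by rw [e, map_zero, mul_zero])
  set t := g.coeff 1
  obtain ⟨e, c, hec⟩ : ∃ e c : F, e * e + t * e * c + c * c - τ * e + τ * c + δ = 0 := by
    by_cases ht : t = -1
    · refine ⟨-(δ / τ), δ / τ, ?_⟩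
      rw [show t = -1 from ht]
      have := div_mul_cancel₀ δ hτ0
      linear_combination (δ / τ) * (δ / τ) * h3 + 2 * this + δ * h3 - 0 * h3
    · have hα : (1 - t * t) ≠ 0 := fun e' => by
        rcases mul_eq_zero.1 (show (1 - t) * (1 + t) = 0 by linear_combination e') with e'' | e''
        · exact hg1 (by linear_combination -e'')
        · exact ht (by linear_combination e'')
      let f : F[X] := X ^ 2
      let p : F[X] := C (1 - t * t) * X ^ 2 + C (τ - t * τ) * X + C (δ - τ * τ)
      have hf2 : f.degree = 2 := degree_X_pow 2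
      have hp2 : p.degree = 2 := degree_quadratic hα
      obtain ⟨a, b, hab⟩ := FiniteField.exists_root_sum_quadratic hf2 hp2 hodd
      simp only [f, p, eval_pow, eval_X, eval_add, eval_mul, eval_C] at hab
      refine ⟨a + (t * b - τ), b, ?_⟩
      linear_combination hab + (a * (t * b - τ) + t * t * b * b - t * τ * b + τ * τ - t * τ * b + t * b * τ) * h3
  let T : Matrix (Fin 2) (Fin 2) F := compOf 2 (quad τ δ)
  have hqm := H60.Ore.quad_monic τ δ
  have hqd := H60.Ore.quad_natDegree τ δ
  have hirr : Irreducible (quad τ δ) := by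
    refine Polynomial.irreducible_of_degree_le_three_of_not_isRoot (by rw [hqd]; simp) hτ
  let U : Matrix (Fin 2) (Fin 2) F := !![τ - e, τ + c + t * e; c, e]
  have hDU : compOf 2 g * U = !![-c, -e; τ - e - t * c, τ + c + t * e - t * e] := by
    rw [H60.Ore.compOf_two, hg0]
    ext i j; fin_cases i <;> fin_cases j <;>
      simp [U, t, Matrix.mul_apply, Fin.sum_univ_two] <;> ring
  have hsim : ∀ M : Matrix (Fin 2) (Fin 2) F, M.trace = τ → M.det = δ → Sim M T := by
    intro M ht hd
    have hch : M.charpoly = quad τ δ := by rw [charpoly_fin_two, ht, hd]; rfl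
    refine Cyc.sim (H60.Ore.Large.cyc_two M fun l el => hτ l ?_) (H60.Ore.cyc_compOf _ _)
      (by rw [hch, H60.Ore.charpoly_compOf hqm hqd])
    rw [el] at ht hd
    simp [Matrix.trace_fin_two, Matrix.det_fin_two] at ht hd
    simp [IsRoot, quad, ← ht, ← hd]
    ring
  have hU : Sim U T := hsim U (by simp [U, Matrix.trace_fin_two])
    (by simp [U, Matrix.det_fin_two]; linear_combination -hec)
  have hDUs : Sim (compOf 2 g * U) T := by
    rw [hDU]
    exact hsim _ (by simp [Matrix.trace_fin_two]) (by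
      simp [Matrix.det_fin_two]; linear_combination -hec)
  have hTd : T.det = δ := by
    rw [H60.Ore.det_compOf hqm hqd]; simp [quad]
  have hTu : IsUnit T.det := isUnit_iff_ne_zero.2 (hTd ▸ hδ)
  refine pairable_of_sim _ U T hU hDUs (by have := H60.Ore.cfull_compOf hqm hirr; rw [hqd] at this; exact this) hTu δ (by rw [hTd]; ring) ?_
  refine reg_of_poly S (Matrix.nonsingInvUnit T hTu) (quad τ δ) 2 hqd.le ?_ ?_ fun ν _ => hτ ν
  · conv_lhs => rw [← H60.Ore.charpoly_compOf hqm hqd]
    exact aeval_self_charpoly T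
  · rw [starP_quad]
    refine (hirr.coprime_iff_not_dvd).2 fun hd => ?_
    obtain ⟨r, hr⟩ := hd
    have hne : C (S.σ δ) * X ^ 2 - C (S.σ τ) * X + 1 ≠ (0 : F[X]) := fun e' => by
      simpa using congrArg (fun r => coeff r 0) e'
    have hr0 : r ≠ 0 := fun e' => hne (by rw [hr, e', mul_zero])
    have hrd : r.natDegree = 0 := by
      have h5 : (C (S.σ δ) * X ^ 2 - C (S.σ τ) * X + 1 : F[X]).natDegree ≤ 2 := by compute_degree
      rw [hr, natDegree_mul hqm.ne_zero hr0, hqd] at h5
      omega
    obtain ⟨k, rfl⟩ := natDegree_eq_zero.1 hrd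
    have c1 := congrArg (fun r => coeff r 1) hr
    have c2 := congrArg (fun r => coeff r 2) hr
    simp [quad, coeff_one] at c1 c2
    exact hτB (by linear_combination c1 - τ * c2)

/-- The unipotent block. -/
theorem pair_two_unipotent (h : QConj S 3) {g : F[X]}
    (hg0 : g.coeff 0 = 1) (hg1 : g.coeff 1 = 1) : Pairable S (compOf 2 g) 1 := by
  obtain ⟨h3, hodd, h2⟩ := q3_facts h
  let A : Matrix (Fin 2) (Fin 2) F := !![1, 1; 1, 0]
  let B : Matrix (Fin 2) (Fin 2) F := !![1, -1; -1, 0]
  let C' : Matrix (Fin 2) (Fin 2) F := !![1, 0; 0, -1]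
  have hA : IsUnit A.det := by simp [A, Matrix.det_fin_two]
  have hB : IsUnit B.det := by simp [B, Matrix.det_fin_two]
  have hC : IsUnit C'.det := by simp [C', Matrix.det_fin_two]
  let gA : GL (Fin 2) F := Matrix.nonsingInvUnit A hA
  let gC : GL (Fin 2) F := Matrix.nonsingInvUnit C' hC
  let f : F[X] := X ^ 2 - X - 1
  have hreg : Reg S (gA : Matrix (Fin 2) (Fin 2) F) := by
    refine reg_of_poly S gA f 2 (by simp only [f]; compute_degree) ?_ ?_ fun ν hν e => ?_
    · show aeval A f = 0
      simp only [f, map_sub, map_pow, aeval_X, map_one, sq]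
      ext i j; fin_cases i <;> fin_cases j <;> simp [A, Matrix.mul_apply, Fin.sum_univ_two]
    · have hs : starP S 2 f = 1 - X - X ^ 2 := by
        ext n
        rw [starP, coeff_reflect, coeff_map]
        rcases n with _ | _ | _ | n
        · simp [f, revAt_le, coeff_X_pow, coeff_X, coeff_one]
        · simp [f, revAt_le, coeff_X_pow, coeff_X, coeff_one]
        · simp [f, revAt_le, coeff_X_pow, coeff_X, coeff_one]
        · rw [revAt_eq_self_of_lt (show 2 < n + 1 + 1 + 1 by omega)]
          simp [f, coeff_X_pow, coeff_X, coeff_one]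
      rw [hs]
      refine ⟨X - 2, X - 1, ?_⟩
      have h3' : (3 : F[X]) = 0 := by rw [← map_ofNat C 3, h3, map_zero]
      simp only [f]
      linear_combination (-X ^ 2 + X) * h3'
    · simp only [f, eval_sub, eval_pow, eval_X, eval_one] at e
      rw [h.pow, ← pow_succ'] at hν
      have h4 : (ν ^ 2 - 1) * (ν ^ 2 + 1) = 0 := by linear_combination hν
      rcases mul_eq_zero.1 h4 with e' | e'
      · exact one_ne_zero (α := F) (by linear_combination (e' - e) * ν - e')
      · exact one_ne_zero (α := F) (by linear_combination 2 * h3 - e' + (e' - e) * (ν - 2))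
  have hBC : (B : Matrix (Fin 2) (Fin 2) F) = C' * cT S A * (↑gC⁻¹ : Matrix (Fin 2) (Fin 2) F) := by
    have e : C' * cT S A = B * C' := by
      ext i j; fin_cases i <;> fin_cases j <;>
        simp [A, B, C', cT_apply, Matrix.mul_apply, Fin.sum_univ_two]
    rw [e, Matrix.mul_assoc, show C' * (↑gC⁻¹ : Matrix (Fin 2) (Fin 2) F) = 1 from gC.mul_inv,
      Matrix.mul_one]
  refine ⟨gA, Matrix.nonsingInvUnit B hB, gC, ?_, hreg, ?_, ?_, ?_, Or.inr ⟨by simp, hBC⟩⟩
  · rw [H60.Ore.compOf_two, hg0, hg1]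
    show _ = A * B
    ext i j; fin_cases i <;> fin_cases j <;> simp [A, B, Matrix.mul_apply, Fin.sum_univ_two]
  · show Reg S B
    rw [hBC]; exact (hreg.cT S).conj S gC.mul_inv
  · show A.det * _ = S.σ A.det * _
    simp [A, Matrix.det_fin_two]
  · show S.σ C'.det = C'.det
    simp [C', Matrix.det_fin_two]

end Cfsg.Agent.H31.OreSU
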