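/-
Pairs for cyclic blocks over the field with four elements.
-/
import Cfsg.Agent.H31.OreSU.PairOdd
import Cfsg.Agent.H31.OreSU.Chain

set_option autoImplicit false
set_option linter.unusedSectionVars false

namespace Cfsg.Agent.H31.OreSU

open Matrix Polynomial
open Cfsg.Agent.H60.Ore (Sim Cyc Hess CFull compOf)

variable {F : Type*} [Field F] [Fintype F] [DecidableEq F] {S : UConj F}

theorem q2_facts (h : QConj S 2) : (2 : F) = 0 ∧ (∀ x : F, x ≠ 0 → x ^ 3 = 1) ∧
    (∀ x : F, S.σ x = x ^ 2) ∧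
    ∃ w : F, w * w + w + 1 = 0 ∧ ∀ x : F, x = 0 ∨ x = 1 ∨ x = w ∨ x = w + 1 := by
  have hp : ∀ x : F, x ≠ 0 → x ^ 3 = 1 := fun x hx => by
    have := FiniteField.pow_card_sub_one_eq_one x hx
    rwa [h.card] at this
  have h2 : (2 : F) = 0 := by
    obtain ⟨p, hP⟩ := CharP.exists F
    obtain ⟨n, hp', hc⟩ := FiniteField.card F p
    rw [h.card] at hc
    have : p ∣ 2 := hp'.dvd_of_dvd_pow (hc ▸ dvd_pow_self p n.pos.ne')
    rw [(Nat.prime_dvd_prime_iff_eq hp' Nat.prime_two).1 this] at hP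
    exact CharP.cast_eq_zero F 2
  obtain ⟨w, hw1, hw0⟩ : ∃ w : F, w ≠ 1 ∧ w ≠ 0 := by
    obtain ⟨x, hx⟩ := S.ne
    exact ⟨x, fun e => hx (by rw [e, map_one]), fun e => hx (by rw [e, map_zero])⟩
  have key : ∀ x : F, x ≠ 0 → x ≠ 1 → x * x + x + 1 = 0 := fun x h0 h1 =>
    (mul_eq_zero.1 (show (x - 1) * (x * x + x + 1) = 0 by linear_combination hp x h0)).resolve_left
      (sub_ne_zero.2 h1)
  have hw := key w hw0 hw1
  refine ⟨h2, hp, h.pow, w, hw, fun x => ?_⟩
  by_cases h0 : x = 0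
  · exact Or.inl h0
  by_cases h1 : x = 1
  · exact Or.inr (Or.inl h1)
  have := key x h0 h1
  rcases mul_eq_zero.1 (show (x - w) * (x - (w + 1)) = 0 by
    linear_combination this - hw + (-x - x * w + w * w + w) * h2) with e | e
  · exact Or.inr (Or.inr (Or.inl (sub_eq_zero.1 e)))
  · exact Or.inr (Or.inr (Or.inr (sub_eq_zero.1 e)))

/-- Pair data with the charpoly of the first factor. -/
def Pc (S : UConj F) {α : Type} [Fintype α] [DecidableEq α] (D : Matrix α α F) (δ : F) (f : F[X]) :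
    Prop :=
  ∃ A B C : Matrix α α F, D = A * B ∧ A.det = δ ∧ C.det = 1 ∧ B * C = C * cT S A ∧ A.charpoly = f

variable {α β : Type} [Fintype α] [DecidableEq α] [Fintype β] [DecidableEq β]

theorem charpoly_cT (A : Matrix α α F) : (cT S A).charpoly = A.charpoly.map S.σ := by
  rw [cT, Matrix.charpoly_map, charpoly_transpose]

theorem charpoly_of_intertwine {B A C : Matrix α α F} (hC : C.det = 1) (h : B * C = C * A) :
    B.charpoly = A.charpoly := by
  let u : GL α F := Matrix.nonsingInvUnit C (by rw [hC]; exact isUnit_one)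
  exact Sim.charpoly_eq ⟨C, (↑u⁻¹ : Matrix α α F), u.mul_inv, u.inv_mul, h⟩

theorem Pc.pairable (h : QConj S 2) {D : Matrix α α F} {δ : F} {f : F[X]} (hδ : δ ≠ 0)
    (hP : Pc S D δ f) (hco : IsCoprime f (starP S (Fintype.card α) f))
    (hn : ∀ x : F, x ≠ 0 → f.eval x ≠ 0) : Pairable S D δ := by
  obtain ⟨h2, -, -, -⟩ := q2_facts h
  obtain ⟨A, B, C, hD, hdA, hdC, hBC, hf⟩ := hP
  have hA : IsUnit A.det := isUnit_iff_ne_zero.2 (hdA ▸ hδ)
  have hC : IsUnit C.det := by rw [hdC]; exact isUnit_one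
  have hB : IsUnit B.det := by
    refine isUnit_iff_ne_zero.2 fun h0 => ?_
    have := congrArg Matrix.det hBC
    rw [det_mul, det_mul, h0, zero_mul, hdC, one_mul, det_cT, hdA] at this
    exact hδ ((map_eq_zero S.σ).1 this.symm)
  let gA : GL α F := Matrix.nonsingInvUnit A hA
  let gC : GL α F := Matrix.nonsingInvUnit C hC
  let gB : GL α F := Matrix.nonsingInvUnit B hB
  have hreg : Reg S (gA : Matrix α α F) := by
    refine reg_of_poly S gA f (Fintype.card α) (by rw [← hf, charpoly_natDegree_eq_dim]) ?_ hco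
      fun ν hν => hn ν (left_ne_zero_of_mul_eq_one hν)
    show aeval A f = 0
    rw [← hf, aeval_self_charpoly]
  have hBe : B = C * cT S A * (↑gC⁻¹ : Matrix α α F) := by
    rw [← hBC, Matrix.mul_assoc, show C * (↑gC⁻¹ : Matrix α α F) = 1 from gC.mul_inv, Matrix.mul_one]
  refine ⟨gA, gB, gC, hD, hreg, ?_, ?_, ?_, Or.inr ⟨?_, hBe⟩⟩
  · show Reg S B
    rw [hBe]
    exact (hreg.cT S).conj S gC.mul_inv
  · show A.det * S.σ δ = S.σ A.det * δ
    rw [hdA, mul_comm]
  · show S.σ C.det = C.det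
    rw [hdC, map_one]
  · rw [show (-1 : F) = 1 by linear_combination -h2, one_pow]

theorem Pc.of_sim (h : QConj S 2) {D : Matrix α α F} {E : Matrix β β F} {δ : F} {f : F[X]}
    (e : α ≃ β) (hs : Sim D E) (hP : Pc S E δ f) : Pc S D δ f := by
  obtain ⟨-, hp, hσ, -⟩ := q2_facts h
  obtain ⟨A, B, C, hD, hdA, hdC, hBC, hf⟩ := hP
  obtain ⟨P, Q, h1, h2, h3⟩ := hs
  have hDe : D = P * E * Q := by rw [← h3, Matrix.mul_assoc, h1, Matrix.mul_one]
  have hA : Sim (P * A * Q) A :=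
    ⟨P, Q, h1, h2, by rw [Matrix.mul_assoc, h2, Matrix.mul_one]⟩
  have h2' : cT S P * cT S Q = 1 := by rw [← cT_mul, h2, cT_one]
  refine ⟨P * A * Q, P * B * Q, P * C * cT S P, ?_, by rw [hA.det_eq, hdA], ?_, ?_,
    by rw [hA.charpoly_eq, hf]⟩
  · rw [hDe, hD]
    simp only [Matrix.mul_assoc]
    rw [← Matrix.mul_assoc Q P, h2, Matrix.one_mul]
  · let P' : Matrix α α F := P.submatrix id e
    have hP' : P'.det ≠ 0 := by
      refine (Matrix.isUnit_det_of_right_inverse (B := Q.submatrix e id) ?_).ne_zero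
      rw [submatrix_mul_equiv, h1, submatrix_id_id]
    have hrw : P * C * cT S P = P' * C.submatrix e e * cT S P' := by
      rw [show cT S P' = (cT S P).submatrix e id from rfl, submatrix_mul_equiv, submatrix_mul_equiv,
        submatrix_id_id]
    rw [hrw, det_mul, det_mul, det_submatrix_equiv_self, hdC, mul_one, det_cT, hσ]
    linear_combination hp _ hP'
  · calc P * B * Q * (P * C * cT S P) = P * (B * (Q * P) * C) * cT S P := by
          simp only [Matrix.mul_assoc]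
      _ = P * (C * cT S A) * cT S P := by rw [h2, Matrix.mul_one, hBC]
      _ = P * (C * (cT S P * cT S Q) * cT S A) * cT S P := by rw [h2', Matrix.mul_one]
      _ = P * C * cT S P * cT S (P * A * Q) := by simp only [cT_mul, Matrix.mul_assoc]

/-- Gluing along a Schur complement. -/
theorem Pc.glue (h : QConj S 2) {D₁ : Matrix α α F} {D₁₂ : Matrix α β F} {D₂₁ : Matrix β α F}
    {D₂₂ : Matrix β β F} (T : Matrix α α F) (hT : D₁ * T = 1) {δ₁ δ₂ : F} (hδ₁ : δ₁ ≠ 0)
    {f₁ f₂ : F[X]} (hP₁ : Pc S D₁ δ₁ f₁) (hP₂ : Pc S (D₂₂ - D₂₁ * T * D₁₂) δ₂ f₂)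
    (hco : IsCoprime f₁ f₂) : Pc S (fromBlocks D₁ D₁₂ D₂₁ D₂₂) (δ₁ * δ₂) (f₁ * f₂) := by
  obtain ⟨A₁, B₁, C₁, hD₁, hdA₁, hdC₁, hBC₁, hf₁⟩ := hP₁
  obtain ⟨A₂, B₂, C₂, hD₂, hdA₂, hdC₂, hBC₂, hf₂⟩ := hP₂
  let gA : GL α F := Matrix.nonsingInvUnit A₁ (isUnit_iff_ne_zero.2 (hdA₁ ▸ hδ₁))
  set Ai : Matrix α α F := (↑gA⁻¹ : Matrix α α F)
  have hAi : A₁ * Ai = 1 := gA.mul_inv
  have hBi : B₁ * (T * A₁) = 1 := by
    have h1 : A₁ * (B₁ * T) = 1 := by rw [← Matrix.mul_assoc, ← hD₁, hT]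
    rw [← Matrix.mul_assoc, mul_eq_one_comm.1 h1]
  have hTA : T * A₁ * B₁ = 1 := mul_eq_one_comm.1 hBi
  have hcoσ : IsCoprime (f₁.map S.σ) (f₂.map S.σ) := hco.map (Polynomial.mapRingHom S.σ)
  have hB₁ : B₁.charpoly = f₁.map S.σ := by
    rw [charpoly_of_intertwine hdC₁ hBC₁, charpoly_cT, hf₁]
  have hB₂ : B₂.charpoly = f₂.map S.σ := by
    rw [charpoly_of_intertwine hdC₂ hBC₂, charpoly_cT, hf₂]
  obtain ⟨X₀, hX⟩ := H60.Ore.sylvester B₁ B₂ _ (aeval_self_charpoly B₁) (by rw [hB₁, hB₂]; exact hcoσ)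
    (-(Ai * D₁₂))
  obtain ⟨Y₀, hY⟩ := H60.Ore.sylvester (cT S A₁) (cT S A₂) _ (aeval_self_charpoly _)
    (by rw [charpoly_cT, charpoly_cT, hf₁, hf₂]; exact hcoσ) (cT S (D₂₁ * (T * A₁)))
  refine ⟨fromBlocks A₁ 0 (D₂₁ * (T * A₁)) A₂, fromBlocks B₁ (Ai * D₁₂) 0 B₂,
    fromBlocks 1 X₀ 0 1 * fromBlocks C₁ 0 0 C₂ * fromBlocks 1 Y₀ 0 1, ?_, ?_, ?_, ?_, ?_⟩
  · rw [fromBlocks_multiply]
    congr 1
    · rw [hD₁]; simp
    · simp [← Matrix.mul_assoc, hAi]
    · rw [Matrix.mul_assoc, hTA]; simp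
    · rw [← hD₂, ← Matrix.mul_assoc, Matrix.mul_assoc D₂₁, Matrix.mul_assoc T, hAi, Matrix.mul_one]
      simp
  · rw [det_fromBlocks_zero₁₂, hdA₁, hdA₂]
  · simp [det_mul, det_fromBlocks_zero₂₁, hdC₁, hdC₂]
  · have e1 : fromBlocks B₁ (Ai * D₁₂) 0 B₂ * fromBlocks 1 X₀ 0 1 =
        fromBlocks 1 X₀ 0 1 * fromBlocks B₁ 0 0 B₂ := by
      have : B₁ * X₀ + Ai * D₁₂ = X₀ * B₂ := by
        have h' := congrArg (fun W => W + Ai * D₁₂ + X₀ * B₂) hX
        simp only [neg_add_cancel, zero_add] at h'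
        rw [← h']; abel
      simp [fromBlocks_multiply, this]
    have e2 : fromBlocks B₁ 0 0 B₂ * fromBlocks C₁ 0 0 C₂ =
        fromBlocks C₁ 0 0 C₂ * fromBlocks (cT S A₁) 0 0 (cT S A₂) := by
      simp [fromBlocks_multiply, hBC₁, hBC₂]
    have e4 : cT S (fromBlocks A₁ 0 (D₂₁ * (T * A₁)) A₂) =
        fromBlocks (cT S A₁) (cT S (D₂₁ * (T * A₁))) 0 (cT S A₂) := by
      ext (i | i) (j | j) <;> simp [cT_apply, -cT_mul]
    have e3 : fromBlocks (cT S A₁) 0 0 (cT S A₂) * fromBlocks 1 Y₀ 0 1 =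
        fromBlocks 1 Y₀ 0 1 * fromBlocks (cT S A₁) (cT S (D₂₁ * (T * A₁))) 0 (cT S A₂) := by
      have : cT S A₁ * Y₀ = cT S (D₂₁ * (T * A₁)) + Y₀ * cT S A₂ := by
        rw [← hY]; abel
      simp [fromBlocks_multiply, this]
    rw [e4]
    simp only [Matrix.mul_assoc]
    rw [← Matrix.mul_assoc (fromBlocks B₁ _ _ _), e1, Matrix.mul_assoc,
      ← Matrix.mul_assoc (fromBlocks B₁ 0 0 B₂), e2, Matrix.mul_assoc, e3]
  · rw [charpoly_fromBlocks_zero₁₂, hf₁, hf₂]

theorem sim_transpose_compOf {d : ℕ} {f : F[X]} (hd : 0 < d) (hf : f.Monic)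
    (hfd : f.natDegree = d) : Sim (compOf d f)ᵀ (compOf d f) := by
  have hH : Hess ((compOf d f)ᵀ.submatrix Fin.revPerm Fin.revPerm) := by
    refine ⟨fun i j hij => ?_, fun i j hij => ?_⟩ <;>
      simp only [submatrix_apply, transpose_apply, Fin.revPerm_apply, compOf, H60.Ore.comp]
    · rw [if_neg (by simp only [Fin.val_rev]; omega), if_neg (by simp only [Fin.val_rev]; omega)]
    · rw [if_neg (by simp only [Fin.val_rev]; omega), if_pos (by simp only [Fin.val_rev]; omega)]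
      exact one_ne_zero
  refine (Sim.submatrix _ Fin.revPerm).trans (Cyc.sim hH.cyc (H60.Ore.cyc_compOf _ _) ?_)
  rw [← (Sim.submatrix _ Fin.revPerm).charpoly_eq, charpoly_transpose]

theorem sim_scale {d : ℕ} {c : F} (hc : c ≠ 0) {G g : F[X]}
    (hg : ∀ i, i < d → G.coeff i * c ^ d = g.coeff i * c ^ i) :
    Sim (c • compOf d G) (compOf d g) := by
  refine ⟨diagonal fun i => c ^ i.val, diagonal fun i => (c ^ i.val)⁻¹,
    by simp [diagonal_mul_diagonal, hc], by simp [diagonal_mul_diagonal, hc], ?_⟩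
  ext i j
  rw [mul_diagonal, diagonal_mul, Matrix.smul_apply, smul_eq_mul, compOf, compOf, H60.Ore.comp,
    H60.Ore.comp]
  split_ifs with h1 h2
  · have := hg i.val i.isLt
    rw [show c ^ d = c ^ j.val * c by rw [← pow_succ]; congr 1; omega] at this
    linear_combination -this
  · rw [h2, pow_succ]; ring
  · ring

theorem exists_P {d : ℕ} (h2 : (2 : F) = 0) (hd : 0 < d) (p₀ ρ : F) (H : F[X]) :
    ∃ P : F[X], P.Monic ∧ P.natDegree = d ∧ P.coeff 0 = p₀ ∧
      (∀ i, 0 < i → i < d → (evp (P * (P + C ρ))).coeff i = H.coeff i) ∧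
      (evp (P * (P + C ρ))).coeff 0 = p₀ * p₀ + ρ * p₀ ∧
      (evp (P * (P + C ρ))).coeff d = 1 ∧
      ∀ i, d < i → (evp (P * (P + C ρ))).coeff i = 0 := by
  classical
  haveI : CharP F 2 := (CharP.charP_iff_prime_eq_zero Nat.prime_two).2 (by simpa using h2)
  let Pv : (Fin d → F) → F[X] := fun v => X ^ d + ∑ i : Fin d, C (v i) * X ^ i.val
  have hcl : ∀ v (i : Fin d), (Pv v).coeff i.val = v i := fun v i => by
    simp only [Pv, coeff_add, coeff_X_pow, finsetSum_coeff, coeff_C_mul]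
    rw [if_neg (by omega), Finset.sum_eq_single i (fun j _ hj => by
      rw [if_neg (fun e => hj (Fin.ext e.symm)), mul_zero]) (by simp)]
    simp
  have hch : ∀ v k, d ≤ k → (Pv v).coeff k = if k = d then 1 else 0 := fun v k hk => by
    simp only [Pv, coeff_add, coeff_X_pow, finsetSum_coeff, coeff_C_mul]
    rw [Finset.sum_eq_zero fun j _ => by rw [if_neg (by omega), mul_zero], add_zero]
  have hev : ∀ (p : F[X]) i, (evp (p * (p + C ρ))).coeff i = p.coeff i * p.coeff i + ρ * p.coeff (2 * i) :=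
    fun p i => by
      rw [mul_add, evp_add, coeff_add, mul_comm p (C ρ), evp_smul, coeff_C_mul, coeff_evp p,
        show p * p = expand F 2 (p.map (frobenius F 2)) by
          rw [← map_expand, map_frobenius_expand, sq],
        evp_expand, coeff_map, frobenius_def, sq]
  let Φ : (Fin d → F) → (Fin d → F) := fun v i =>
    if i.val = 0 then v i else (evp (Pv v * (Pv v + C ρ))).coeff i.val
  have hinj : Function.Injective Φ := by
    intro v v' hvv
    suffices ∀ m k, d - k ≤ m → 0 < k → (Pv v).coeff k = (Pv v').coeff k by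
      funext i
      by_cases hi : i.val = 0
      · simpa [Φ, hi] using congrFun hvv i
      · rw [← hcl v i, ← hcl v' i, this d i.val (by omega) (by omega)]
    intro m
    induction m with
    | zero => intro k hk _; rw [hch v k (by omega), hch v' k (by omega)]
    | succ m ih =>
      intro k hk hk0
      rcases Nat.lt_or_ge k d with hkd | hkd
      swap
      · rw [hch v k hkd, hch v' k hkd]
      have h1 := congrFun hvv ⟨k, hkd⟩
      simp only [Φ, if_neg (show ¬ k = 0 by omega), hev] at h1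
      rw [ih (2 * k) (by omega) (by omega)] at h1
      have h3 : ((Pv v).coeff k - (Pv v').coeff k) * ((Pv v).coeff k - (Pv v').coeff k) = 0 := by
        linear_combination h1 - ((Pv v).coeff k * (Pv v').coeff k - (Pv v').coeff k * (Pv v').coeff k) * h2
      exact sub_eq_zero.1 (mul_self_eq_zero.1 h3)
  obtain ⟨v, hv⟩ := Finite.surjective_of_injective hinj fun i => if i.val = 0 then p₀ else H.coeff i.val
  have h0 : (Pv v).coeff 0 = p₀ := by
    rw [show 0 = (⟨0, hd⟩ : Fin d).val from rfl, hcl]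
    simpa [Φ] using congrFun hv ⟨0, hd⟩
  have hdeg : (Pv v).natDegree = d := by
    refine le_antisymm (natDegree_le_iff_coeff_eq_zero.2 fun k hk => ?_)
      (le_natDegree_of_ne_zero (by rw [hch v d le_rfl]; simp))
    rw [hch v k hk.le, if_neg hk.ne']
  refine ⟨Pv v, ?_, hdeg, h0, fun i hi hid => ?_, ?_, ?_, fun i hi => ?_⟩
  · rw [Monic, leadingCoeff, hdeg, hch v d le_rfl, if_pos rfl]
  · have := congrFun hv ⟨i, hid⟩
    simpa [Φ, show ¬ i = 0 by omega] using this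
  · rw [hev, h0]
  · rw [hev, hch v d le_rfl, hch v (2 * d) (by omega), if_pos rfl, if_neg (by omega)]; ring
  · rw [hev, hch v i hi.le, hch v (2 * i) (by omega), if_neg (by omega), if_neg (by omega)]; ring

/-- The basic factorization. -/
theorem pc_core (h : QConj S 2) {d : ℕ} (hd : 2 ≤ d) {c ρ : F} (hc : c ≠ 0) (hρ : ρ ≠ 0)
    {f : F[X]} (hf : f.Monic) (hfd : f.natDegree = d)
    (hG : ∀ i, i < d → (f + C ρ).coeff i * c ^ d = S.σ (f.coeff i) * c ^ i)
    (hρ0 : (f.coeff 0 * f.coeff 0 + ρ * f.coeff 0) * c ^ d = 1)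
    (hfull : CFull (compOf d (f.map S.σ))) {g : F[X]} (hg : g.Monic) (hgd : g.natDegree = d)
    (hg0 : g.coeff 0 = 1) : Pc S (compOf d g) (f.coeff 0) f := by
  obtain ⟨h2, hp, hσ, -⟩ := q2_facts h
  have hneg : ∀ x : F, -x = x := fun x => by linear_combination -x * h2
  set H : F[X] := X ^ d + ∑ i : Fin d, C (g.coeff i.val * c ^ i.val / c ^ d) * X ^ i.val with hH
  have hHl : ∀ i, i < d → H.coeff i * c ^ d = g.coeff i * c ^ i := fun i hi => by
    rw [hH, coeff_add, coeff_X_pow, if_neg hi.ne, zero_add, finsetSum_coeff,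
      Finset.sum_eq_single ⟨i, hi⟩ (fun j _ hj => by
        rw [coeff_C_mul, coeff_X_pow, if_neg (fun e => hj (Fin.ext e.symm)), mul_zero]) (by simp),
      coeff_C_mul, coeff_X_pow, if_pos rfl, mul_one, div_mul_cancel₀ _ (pow_ne_zero _ hc)]
  have hHh : ∀ k, d ≤ k → H.coeff k = if k = d then 1 else 0 := fun k hk => by
    rw [hH, coeff_add, coeff_X_pow, finsetSum_coeff,
      Finset.sum_eq_zero fun j _ => by rw [coeff_C_mul, coeff_X_pow, if_neg (by omega), mul_zero],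
      add_zero]
  obtain ⟨P, hPm, hPd, hP0, hPe, hPe0, hPed, hPeh⟩ := exists_P h2 (by omega : 0 < d) (f.coeff 0) ρ H
  have hfG : P + f + (f + C ρ) = P + C ρ := by
    ext k; simp only [coeff_add]; linear_combination f.coeff k * h2
  have hevp : evp (P * (P + f + (f + C ρ))) = H := by
    rw [hfG]
    ext k
    rcases Nat.lt_trichotomy k d with hk | rfl | hk
    · rcases Nat.eq_zero_or_pos k with rfl | hk0
      · rw [hPe0]
        refine mul_right_cancel₀ (pow_ne_zero d hc) ?_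
        rw [hρ0, hHl 0 hk, hg0, pow_zero, mul_one]
      · exact hPe k hk0 hk
    · rw [hPed, hHh k le_rfl, if_pos rfl]
    · rw [hPeh k hk, hHh k hk.le, if_neg hk.ne']
  have hHd : H.natDegree = d :=
    le_antisymm (natDegree_le_iff_coeff_eq_zero.2 fun k hk => by rw [hHh k hk.le, if_neg hk.ne'])
      (le_natDegree_of_ne_zero (by rw [hHh d le_rfl]; simp))
  have hHm : H.Monic := by rw [Monic, leadingCoeff, hHd, hHh d le_rfl, if_pos rfl]
  have hGd : (f + C ρ).natDegree = d := by rw [natDegree_add_C, hfd]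
  have hGm : (f + C ρ).Monic := by
    rw [Monic, leadingCoeff, hGd, coeff_add, coeff_C, if_neg (by omega), add_zero, ← hfd]
    exact hf.coeff_natDegree
  obtain ⟨Y, hY, hYH⟩ := exists_chain h2 hd hf hfd hGm hGd hPm hPd hP0 hHm hHd hevp
    (fun π hπ h1 _ h3 _ => by
      rw [hfG, evp_add, show evp (C ρ : F[X]) = C ρ by
        ext i; rw [coeff_evp, coeff_C, coeff_C]; exact if_congr (by omega) rfl rfl] at h3
      exact hπ.not_unit (isUnit_of_dvd_unit ((dvd_add_right h1).1 h3)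
        (isUnit_C.2 (isUnit_iff_ne_zero.2 hρ))))
  have hsY : Sim (c • Y) (compOf d (f.map S.σ)) := by
    refine Sim.trans ?_ (sim_scale (G := f + C ρ) hc fun i hi => by rw [coeff_map]; exact hG i hi)
    obtain ⟨P', Q', h1, h2', h3⟩ := hY
    exact ⟨P', Q', h1, h2', by rw [Matrix.smul_mul, Matrix.mul_smul, h3]⟩
  have hD : Sim (compOf d f * (c • Y)) (compOf d g) := by
    refine Sim.trans ?_ (sim_scale (G := H) hc hHl)
    obtain ⟨P', Q', h1, h2', h3⟩ := hYH
    exact ⟨P', Q', h1, h2', by rw [Matrix.mul_smul, Matrix.smul_mul, Matrix.mul_smul, h3]⟩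
  have hmon : (f.map S.σ).Monic := hf.map _
  have hmd : (f.map S.σ).natDegree = d := by rw [hf.natDegree_map, hfd]
  have hcTA : Sim (cT S (compOf d f)) (compOf d (f.map S.σ)) := by
    refine Sim.trans (Sim.of_eq ?_) (sim_transpose_compOf (by omega) hmon hmd)
    ext i j
    simp only [cT_apply, transpose_apply, compOf, H60.Ore.comp, coeff_map]
    split_ifs <;> simp
  refine Pc.of_sim h (Equiv.refl _) hD.symm ?_
  obtain ⟨C₀, C₀', hC1, hC2, hC3⟩ := hsY.trans hcTA.symm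
  have hne : C₀.det ≠ 0 := (Matrix.isUnit_det_of_right_inverse hC1).ne_zero
  obtain ⟨Z, hZ, hZd⟩ := (hfull.of_sim hcTA) C₀.det⁻¹ (inv_ne_zero hne)
  refine ⟨compOf d f, c • Y, C₀ * Z, rfl, ?_, ?_, ?_, H60.Ore.charpoly_compOf hf hfd⟩
  · rw [H60.Ore.det_compOf hf hfd, show (-1 : F) = 1 from hneg 1, one_pow, one_mul]
  · rw [det_mul, hZd, mul_inv_cancel₀ hne]
  · rw [← Matrix.mul_assoc, hC3, Matrix.mul_assoc, ← hZ, ← Matrix.mul_assoc]

theorem cfull_of_pow (h : QConj S 2) (M Z : Matrix α α F) (hZ : Z * M = M * Z) (hd : Z.det ≠ 0)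
    (hd1 : Z.det ≠ 1) : CFull M := by
  obtain ⟨h2, hp, -, w, hw, hall⟩ := q2_facts h
  intro e he
  obtain ⟨k, hk⟩ : ∃ k : ℕ, Z.det ^ k = e := by
    have hz : ∀ x : F, x ≠ 0 → x ≠ 1 → x = w ∨ x = w + 1 := fun x a b =>
      ((hall x).resolve_left a).resolve_left b
    have hw2 : w * w = w + 1 := by linear_combination hw - (w + 1) * h2
    by_cases he1 : e = 1
    · exact ⟨0, by rw [pow_zero, he1]⟩
    rcases hz _ hd hd1 with a | a <;> rcases hz e he he1 with b | b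
    · exact ⟨1, by rw [pow_one, a, b]⟩
    · exact ⟨2, by rw [a, b, sq, hw2]⟩
    · exact ⟨2, by rw [a, b, sq]; linear_combination hw2 + (w + 1) * h2⟩
    · exact ⟨1, by rw [pow_one, a, b]⟩
  exact ⟨Z ^ k, ((show Commute Z M from hZ).pow_left k).eq, by rw [det_pow, hk]⟩

end Cfsg.Agent.H31.OreSU
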