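/-
Every cyclic block of determinant one over the field with four elements is pairable.
-/
import Cfsg.Agent.H31.OreSU.PairTwo

set_option autoImplicit false
set_option linter.unusedSectionVars false

namespace Cfsg.Agent.H31.OreSU

open Matrix Polynomial
open Cfsg.Agent.H60.Ore (Sim Cyc Hess CFull compOf)

universe u

variable {F : Type u} [Field F] [Fintype F] [DecidableEq F] {S : UConj F}

theorem coprime_of_roots (f g : F[X])
    (H : ∀ (K : Type u) [Field K] [Algebra F K] (x : K), aeval x f = 0 → aeval x g = 0 → False) :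
    IsCoprime f g := by
  refine isCoprime_of_prime_dvd (fun h0 => H F 0 (by rw [h0.1]; simp) (by rw [h0.2]; simp))
    fun π hπ hf hg => ?_
  haveI : Fact (Irreducible π) := ⟨hπ.irreducible⟩
  have hz : ∀ p : F[X], π ∣ p → aeval (AdjoinRoot.root π) p = 0 := fun p hp => by
    rw [AdjoinRoot.aeval_eq]; exact AdjoinRoot.mk_eq_zero.2 hp
  exact H (AdjoinRoot π) (AdjoinRoot.root π) (hz f hf) (hz g hg)

theorem coprime_starP (f g : F[X]) (d : ℕ) (hg : g.natDegree ≤ d) (hf0 : f.coeff 0 ≠ 0)
    (H : ∀ (K : Type u) [Field K] [Algebra F K] (x y : K), x * y = 1 → aeval x f = 0 →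
      aeval y (g.map S.σ) = 0 → False) :
    IsCoprime f (starP S d g) := by
  refine coprime_of_roots _ _ fun K _ _ x hf hs => ?_
  have hx : x ≠ 0 := by
    rintro rfl
    rw [← Polynomial.coeff_zero_eq_aeval_zero'] at hf
    exact hf0 ((map_eq_zero _).1 hf)
  refine H K x x⁻¹ (mul_inv_cancel₀ hx) hf ?_
  have h1 := aeval_reflect x x⁻¹ (mul_inv_cancel₀ hx) d (g.map S.σ) (natDegree_map_le.trans hg)
  rw [starP] at hs
  rw [← h1, hs, zero_mul]

theorem eval_eq_zero_of_aeval {K : Type u} [Field K] [Algebra F K] (f : F[X]) (a : F) (x : K)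
    (hx : x = algebraMap F K a) (h : aeval x f = 0) : f.eval a = 0 := by
  rw [hx, aeval_algebraMap_apply_eq_algebraMap_eval] at h
  exact (map_eq_zero _).1 h

/-- The two families of polynomials. -/
noncomputable def pl (d : ℕ) (a b : F) : F[X] := X ^ d + (C a * X + C b)

/-- The polynomial used when three divides the degree. -/
noncomputable def pq (d : ℕ) (b : F) : F[X] := X ^ d + (X ^ 2 + (X + C b))

theorem pl_monic {d : ℕ} (hd : 2 ≤ d) (a b : F) : (pl d a b).Monic ∧ (pl d a b).natDegree = d := by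
  have h1 : (C a * X + C b : F[X]).natDegree < d := by
    have : (C a * X + C b : F[X]).natDegree ≤ 1 := natDegree_linear_le
    omega
  refine ⟨monic_X_pow_add (lt_of_le_of_lt degree_le_natDegree (by exact_mod_cast h1)), ?_⟩
  rw [pl, natDegree_add_eq_left_of_natDegree_lt (by rwa [natDegree_X_pow]), natDegree_X_pow]

theorem pq_monic {d : ℕ} (hd : 3 ≤ d) (b : F) : (pq d b).Monic ∧ (pq d b).natDegree = d := by
  have h1 : (X ^ 2 + (X + C b) : F[X]).natDegree < d := by
    have : (X ^ 2 + (X + C b) : F[X]).natDegree ≤ 2 := by compute_degree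
    omega
  refine ⟨monic_X_pow_add (lt_of_le_of_lt degree_le_natDegree (by exact_mod_cast h1)), ?_⟩
  rw [pq, natDegree_add_eq_left_of_natDegree_lt (by rwa [natDegree_X_pow]), natDegree_X_pow]

theorem pl_coeff {d : ℕ} (a b : F) (i : ℕ) (hi : i < d) :
    (pl d a b).coeff i = if i = 0 then b else if i = 1 then a else 0 := by
  rcases i with _ | _ | i <;> simp [pl, coeff_X_pow, coeff_C, coeff_X, hi.ne]

theorem pq_coeff {d : ℕ} (b : F) (i : ℕ) (hi : i < d) :
    (pq d b).coeff i = if i = 0 then b else if i ≤ 2 then 1 else 0 := by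
  rcases i with _ | _ | _ | i <;> simp [pq, coeff_X_pow, coeff_C, coeff_X, hi.ne]

theorem pow_cases (h : QConj S 2) (d : ℕ) (x : F) (hx : x ≠ 0) :
    (d % 3 = 0 → x ^ d = 1) ∧ (d % 3 = 1 → x ^ d = x) ∧ (d % 3 = 2 → x ^ d = x * x) := by
  obtain ⟨-, hp, -⟩ := q2_facts h
  have : x ^ d = x ^ (d % 3) := by
    conv_lhs => rw [← Nat.div_add_mod d 3, pow_add, pow_mul, hp x hx, one_pow, one_mul]
  refine ⟨fun e => by rw [this, e, pow_zero], fun e => by rw [this, e, pow_one],
    fun e => by rw [this, e, sq]⟩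

theorem two_eq_zero' (h : QConj S 2) (K : Type u) [Field K] [Algebra F K] : (2 : K) = 0 := by
  rw [← map_ofNat (algebraMap F K) 2, (q2_facts h).1, map_zero]

theorem pl_coprime (h : QConj S 2) {d : ℕ} (hd : 2 ≤ d) {a b : F} (ha : a ≠ 0) (hb : b ≠ 0)
    (hr : ∀ x : F, x ≠ 0 → (pl d a b).eval x ≠ 0) :
    IsCoprime (pl d a b) (starP S d (pl d a b)) := by
  obtain ⟨h2, hp, hσ, w, hw, hall⟩ := q2_facts h
  refine coprime_starP _ _ d (pl_monic hd a b).2.le (by rw [pl_coeff a b 0 (by omega), if_pos rfl]; exact hb)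
    fun K _ _ x y hxy hf hg => ?_
  have h2K := two_eq_zero' h K
  simp only [pl, Polynomial.map_add, Polynomial.map_pow, Polynomial.map_mul, map_X, map_C, map_add,
    map_pow, map_mul, aeval_X, aeval_C] at hf hg
  set φ := algebraMap F K
  have na : φ a * φ (S.σ a) = 1 := by rw [← map_mul, hσ, ← pow_succ', hp a ha, map_one]
  have nb : φ b * φ (S.σ b) = 1 := by rw [← map_mul, hσ, ← pow_succ', hp b hb, map_one]
  have hd1 : x ^ d * y ^ d = 1 := by rw [← mul_pow, hxy, one_pow]
  have e1 : φ (a * S.σ b) * x + φ (S.σ a * b) * y = 1 := by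
    rw [map_mul, map_mul]
    linear_combination (-y ^ d) * hf + (φ a * x + φ b) * hg + hd1 - (φ a * φ (S.σ a)) * hxy - na - nb -
      1 * h2K
  set u : F := a * S.σ b
  have hu0 : u ≠ 0 := mul_ne_zero ha ((_root_.map_ne_zero _).2 hb)
  have hu : S.σ u = S.σ a * b := by rw [map_mul, S.inv]
  have nu : φ u * φ (S.σ u) = 1 := by rw [← map_mul, hσ, ← pow_succ', hp u hu0, map_one]
  rw [← hu] at e1
  have e2 : (φ u * x - φ w) * (φ u * x - φ (w + 1)) = 0 := by
    have hwK : φ w * φ w + φ w + 1 = 0 := by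
      rw [← map_one φ, ← map_mul, ← map_add, ← map_add, hw, map_zero]
    rw [map_add, map_one]
    linear_combination (φ u * x) * e1 - (φ u * φ (S.σ u)) * hxy - nu + hwK -
      (φ u * x * φ w + 1) * h2K + 0 * h2K
  have hxF : ∀ v : F, v ≠ 0 → φ u * x = φ v → False := fun v hv he => by
    have hxv : x = φ (v / u) := by
      rw [map_div₀, eq_div_iff ((_root_.map_ne_zero φ).2 hu0), mul_comm, he]
    refine hr (v / u) (div_ne_zero hv hu0) (eval_eq_zero_of_aeval _ _ x hxv ?_)
    simp only [pl, map_add, map_pow, map_mul, aeval_X, aeval_C]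
    exact hf
  rcases mul_eq_zero.1 e2 with e | e
  · exact hxF w (fun e' => by rw [e'] at hw; simp at hw) (sub_eq_zero.1 e)
  · exact hxF (w + 1) (fun e' => one_ne_zero (α := F) (by linear_combination hw - w * e')) (sub_eq_zero.1 e)

theorem pq_coprime (h : QConj S 2) {d : ℕ} (hd : 3 ≤ d) {b : F} (hb : b ≠ 0) (hb1 : b ≠ 1)
    (hr : ∀ x : F, x ≠ 0 → (pq d b).eval x ≠ 0) :
    IsCoprime (pq d b) (starP S d (pq d b)) := by
  obtain ⟨h2, hp, hσ, w, hw, hall⟩ := q2_facts h
  refine coprime_starP _ _ d (pq_monic hd b).2.le (by rw [pq_coeff b 0 (by omega), if_pos rfl]; exact hb)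
    fun K _ _ x y hxy hf hg => ?_
  have h2K := two_eq_zero' h K
  simp only [pq, Polynomial.map_add, Polynomial.map_pow, map_X, map_C, map_add,
    map_pow, aeval_X, aeval_C] at hf hg
  set φ := algebraMap F K
  have hb2 : S.σ b = b + 1 := by
    rw [hσ]
    have := (mul_eq_zero.1 (show (b - 1) * (b * b + b + 1) = 0 by linear_combination hp b hb)).resolve_left
      (sub_ne_zero.2 hb1)
    linear_combination this - (b + 1) * h2
  have nb : φ b * φ (S.σ b) = 1 := by rw [← map_mul, hσ, ← pow_succ', hp b hb, map_one]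
  have hd1 : x ^ d * y ^ d = 1 := by rw [← mul_pow, hxy, one_pow]
  rw [hb2, map_add, map_one] at hg nb
  have e0 : (x * x + x + φ b) * (y * y + y + (φ b + 1)) = 1 := by
    linear_combination (-y ^ d) * hf + (x * x + x + φ b) * hg + hd1
  have e1 : ((φ b + 1) * x + φ b) * (x * x * x + 1) = 0 := by
    linear_combination (x * x) * e0 - (x * x + x + φ b) * (x * y + 1 + x) * hxy - (x * x) * nb -
      (x * x + x * x * x) * h2K
  have hxF : ∀ v : F, v ≠ 0 → x = φ v → False := fun v hv he => by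
    refine hr v hv (eval_eq_zero_of_aeval _ _ x he ?_)
    simp only [pq, map_add, map_pow, aeval_X, aeval_C]
    exact hf
  have hbs : b + 1 ≠ 0 := fun e => hb1 (by linear_combination e - h2)
  rcases mul_eq_zero.1 e1 with e | e
  · refine hxF (b / (b + 1)) (div_ne_zero hb hbs) ?_
    rw [map_div₀, eq_div_iff ((_root_.map_ne_zero φ).2 hbs), map_add, map_one]
    linear_combination e - φ b * h2K
  · have hwK : φ w * φ w + φ w + 1 = 0 := by
      rw [← map_one φ, ← map_mul, ← map_add, ← map_add, hw, map_zero]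
    have e2 : (x - 1) * ((x - φ w) * (x - φ (w + 1))) = 0 := by
      rw [map_add, map_one]
      linear_combination e + (x - 1) * hwK - (φ w * x * x - φ w * x + x * x * 1) * h2K
    rcases mul_eq_zero.1 e2 with e | e
    · exact hxF 1 one_ne_zero (by rw [map_one]; exact sub_eq_zero.1 e)
    rcases mul_eq_zero.1 e with e | e
    · exact hxF w (fun e' => by rw [e'] at hw; simp at hw) (sub_eq_zero.1 e)
    · exact hxF (w + 1) (fun e' => one_ne_zero (α := F) (by linear_combination hw - w * e')) (sub_eq_zero.1 e)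

end Cfsg.Agent.H31.OreSU
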