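/-
Degree three, splitting off a block of size two, and the resulting theorem over four elements.
-/
import Cfsg.Agent.H31.OreSU.PairTwoB

set_option autoImplicit false
set_option linter.unusedSectionVars false

namespace Cfsg.Agent.H31.OreSU

open Matrix Polynomial
open Cfsg.Agent.H60.Ore (Sim Cyc Hess CFull compOf)

universe u

variable {F : Type u} [Field F] [Fintype F] [DecidableEq F] {S : UConj F}

theorem om_facts (h : QConj S 2) {a : F} (ha : a * a + a + 1 = 0) :
    a ≠ 0 ∧ a ≠ 1 ∧ a + 1 ≠ 0 ∧ S.σ a = a + 1 ∧ S.σ (a + 1) = a ∧ a * (a + 1) = 1 ∧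
      ∀ v : F, v * v + v + a ≠ 0 := by
  obtain ⟨h2, hp, hσ, w, hw, hall⟩ := q2_facts h
  have h0 : a ≠ 0 := fun e => one_ne_zero (α := F) (by linear_combination ha - (a + 1) * e)
  have h1 : a ≠ 1 := fun e => one_ne_zero (α := F) (by linear_combination ha - (a + 2) * e - h2)
  have hσa : S.σ a = a + 1 := by rw [hσ]; linear_combination ha - (a + 1) * h2
  refine ⟨h0, h1, fun e => h1 (by linear_combination e - h2), hσa,
    by rw [map_add, map_one, hσa]; linear_combination h2,
    by linear_combination ha - h2, fun v hv => ?_⟩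
  rcases hall v with rfl | rfl | rfl | rfl
  · exact h0 (by linear_combination hv)
  · exact h0 (by linear_combination hv - h2)
  · exact h1 (by linear_combination hv - hw)
  · exact h1 (by linear_combination hv - hw - (w + 1) * h2)

/-- The factor for a determinant which is not one. -/
noncomputable def fne (d : ℕ) (δ : F) : F[X] := if d % 3 = 0 then pq d δ else pl d 1 δ

theorem fne_spec (h : QConj S 2) {d : ℕ} (hd : 2 ≤ d) {δ : F} (hδ : δ * δ + δ + 1 = 0) :
    (fne d δ).Monic ∧ (fne d δ).natDegree = d ∧ (fne d δ).coeff 0 = δ ∧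
      (∀ x : F, x ≠ 0 → (fne d δ).eval x ≠ 0) ∧
      IsCoprime (fne d δ) (starP S d (fne d δ)) ∧
      ∀ g : F[X], g.Monic → g.natDegree = d → g.coeff 0 = 1 →
        Pc S (compOf d g) δ (fne d δ) := by
  obtain ⟨h2, hp, hσ, w, hw, hall⟩ := q2_facts h
  obtain ⟨h0, h1, h01, hσd, hσd1, hmul, hart⟩ := om_facts h hδ
  have hv : ∀ x : F, x ≠ 0 → x * x + x + 1 + δ ≠ 0 := fun x hx e => by
    rcases hall x with rfl | rfl | rfl | rfl
    · exact hx rfl
    · exact h1 (by linear_combination e - 2 * h2)
    · exact h0 (by linear_combination e - hw)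
    · exact h0 (by linear_combination e - hw - (w + 1) * h2)
  have core : ∀ {f : F[X]}, f.Monic → f.natDegree = d → f.coeff 0 = δ →
      (∀ i, 0 < i → i < d → f.coeff i = 0 ∨ f.coeff i = 1) →
      ∀ g : F[X], g.Monic → g.natDegree = d → g.coeff 0 = 1 → Pc S (compOf d g) δ f := by
    intro f hf hfd hf0 hfi g hg hgd hg0
    have := pc_core h hd (c := 1) (ρ := 1) one_ne_zero one_ne_zero hf hfd (fun i hi => ?_) ?_ ?_ hg hgd hg0
    · rwa [hf0] at this
    · rw [one_pow, one_pow, mul_one, mul_one, coeff_add, coeff_C]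
      rcases Nat.eq_zero_or_pos i with rfl | hi0
      · rw [if_pos rfl, hf0, hσd]
      · rw [if_neg hi0.ne', add_zero]
        rcases hfi i hi0 hi with e | e <;> simp [e]
    · rw [one_pow, mul_one, hf0]; linear_combination hmul
    · have hne : (compOf d (f.map S.σ)).det = δ + 1 := by
        rw [H60.Ore.det_compOf (hf.map _) (by rw [hf.natDegree_map, hfd]),
          show (-1 : F) = 1 by linear_combination -h2, one_pow, one_mul, coeff_map, hf0, hσd]
      exact cfull_of_pow h _ _ rfl (by rw [hne]; exact h01)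
        (by rw [hne]; exact fun e => h0 (by linear_combination e))
  unfold fne
  split_ifs with hmod
  · have h3 : 3 ≤ d := by omega
    have hr : ∀ x : F, x ≠ 0 → (pq d δ).eval x ≠ 0 := fun x hx e => by
      simp only [pq, eval_add, eval_pow, eval_X, eval_C, (pow_cases h d x hx).1 hmod] at e
      exact hv x hx (by linear_combination e)
    refine ⟨(pq_monic h3 δ).1, (pq_monic h3 δ).2, by rw [pq_coeff δ 0 (by omega), if_pos rfl], hr,
      pq_coprime h h3 h0 h1 hr, core (pq_monic h3 δ).1 (pq_monic h3 δ).2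
        (by rw [pq_coeff δ 0 (by omega), if_pos rfl]) fun i hi hid => ?_⟩
    rw [pq_coeff δ i hid, if_neg hi.ne']
    split_ifs <;> simp
  · have hr : ∀ x : F, x ≠ 0 → (pl d 1 δ).eval x ≠ 0 := fun x hx e => by
      simp only [pl, eval_add, eval_pow, eval_mul, eval_X, eval_C] at e
      rcases (show d % 3 = 1 ∨ d % 3 = 2 by omega) with hm | hm
      · rw [(pow_cases h d x hx).2.1 hm] at e
        exact h0 (by linear_combination e - x * h2)
      · rw [(pow_cases h d x hx).2.2 hm] at e
        exact hart x (by linear_combination e)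
    refine ⟨(pl_monic hd 1 δ).1, (pl_monic hd 1 δ).2, by rw [pl_coeff 1 δ 0 (by omega), if_pos rfl], hr,
      pl_coprime h hd one_ne_zero h0 hr, core (pl_monic hd 1 δ).1 (pl_monic hd 1 δ).2
        (by rw [pl_coeff 1 δ 0 (by omega), if_pos rfl]) fun i hi hid => ?_⟩
    rw [pl_coeff 1 δ i hid, if_neg hi.ne']
    split_ifs <;> simp

theorem pair_coprime_to_three (h : QConj S 2) {d : ℕ} (hd : 2 ≤ d) (hd3 : d % 3 ≠ 0) {g : F[X]}
    (hg : g.Monic) (hgd : g.natDegree = d) (hg0 : g.coeff 0 = 1) :
    Pairable S (compOf d g) 1 := by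
  obtain ⟨h2, hp, hσ, w, hw, hall⟩ := q2_facts h
  obtain ⟨h0, h1, h01, hσw, hσw1, hmul, hart⟩ := om_facts h hw
  have hww : w * w = w + 1 := by linear_combination hw - (w + 1) * h2
  have hwd : w ^ d ≠ 1 := by
    rcases (show d % 3 = 1 ∨ d % 3 = 2 by omega) with hm | hm
    · rw [(pow_cases h d w h0).2.1 hm]; exact h1
    · rw [(pow_cases h d w h0).2.2 hm, hww]; exact fun e => h0 (by linear_combination e)
  have fin : ∀ (a ρ : F), a ≠ 0 → ρ ≠ 0 → (∀ x : F, x ≠ 0 → (pl d a 1).eval x ≠ 0) →
      (1 + ρ) * w ^ d = 1 → a * w ^ d = S.σ a * w → Pairable S (compOf d g) 1 := by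
    intro a ρ ha hρ hr e0 e1
    have hf := pl_monic hd a 1
    refine Pc.pairable h one_ne_zero (f := pl d a 1) ?_
      (by rw [Fintype.card_fin]; exact pl_coprime h hd ha one_ne_zero hr) hr
    have hc0 : (pl d a 1).coeff 0 = 1 := by rw [pl_coeff a 1 0 (by omega), if_pos rfl]
    have := pc_core h hd (c := w) (ρ := ρ) h0 hρ hf.1 hf.2 (fun i hi => ?_) ?_ ?_ hg hgd hg0
    · rwa [hc0] at this
    · rw [coeff_add, coeff_C, pl_coeff a 1 i hi]
      rcases i with _ | _ | i
      · simpa using e0
      · simpa using e1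
      · simp
    · rw [hc0]; linear_combination e0
    · exact cfull_of_pow h _ (w • 1) (by simp) (by simp [h0]) (by simp [hwd])
  rcases (show d % 3 = 1 ∨ d % 3 = 2 by omega) with hm | hm
  · refine fin 1 w one_ne_zero h0 (fun x hx e => ?_) ?_ ?_
    · simp only [pl, eval_add, eval_pow, eval_mul, eval_X, eval_C, (pow_cases h d x hx).2.1 hm] at e
      exact one_ne_zero (α := F) (by linear_combination e - x * h2)
    · rw [(pow_cases h d w h0).2.1 hm]; linear_combination hmul
    · rw [(pow_cases h d w h0).2.1 hm, map_one]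
  · refine fin w (w + 1) h0 h01 (fun x hx e => ?_) ?_ ?_
    · simp only [pl, eval_add, eval_pow, eval_mul, eval_X, eval_C, (pow_cases h d x hx).2.2 hm] at e
      rcases hall x with rfl | rfl | rfl | rfl
      · exact hx rfl
      · exact h0 (by linear_combination e - h2)
      · exact one_ne_zero (α := F) (by linear_combination e - x * x * h2)
      · exact h0 (by linear_combination e - hw - hw - 0 * h2)
    · rw [(pow_cases h d w h0).2.2 hm]; linear_combination (w - 1) * hw + w * w * h2
    · rw [(pow_cases h d w h0).2.2 hm, hσw]; linear_combination w * hww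

/-! ### The cross conditions for the two blocks -/

theorem cross (h : QConj S 2) {a : F} (ha : a * a + a + 1 = 0) {e : ℕ} (he : e % 3 = 1)
    (K : Type u) [Field K] [Algebra F K] (z : K) (hz : z * z + z + algebraMap F K a = 0) :
    z ^ e + z + algebraMap F K (a + 1) ≠ 0 ∧
      ∀ u : K, z * u = 1 → u ^ e + u + algebraMap F K a ≠ 0 := by
  obtain ⟨h0, h1, h01, -, -, hmul, hart⟩ := om_facts h ha
  have h2 := two_eq_zero' h K
  have hne : ∀ v : F, z ≠ algebraMap F K v := fun v hv => hart v
    ((map_eq_zero (algebraMap F K)).1 (by rw [map_add, map_add, map_mul, ← hv]; exact hz))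
  have hz0 : z ≠ 0 := fun e' => hne 0 (by rw [e', map_zero])
  set A := algebraMap F K a
  have hA : A * A + A + 1 = 0 := by
    rw [← map_one (algebraMap F K), ← map_mul, ← map_add, ← map_add, ha, map_zero]
  have hA0 : A ≠ 0 := (_root_.map_ne_zero _).2 h0
  have hA1 : A + 1 ≠ 0 := by
    rw [← map_one (algebraMap F K), ← map_add]; exact (_root_.map_ne_zero _).2 h01
  have z4 : z ^ 4 = z + 1 := by
    linear_combination (z * z - z - A + 1) * hz + hA + (z * A - z - 1 - A) * h2
  have z5 : z ^ 5 = A := by linear_combination z * z4 + hz - A * h2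
  have hmap : algebraMap F K (a + 1) = A + 1 := by rw [map_add, map_one]
  have red : ∀ x : K, x ^ 15 = 1 → ∀ P : K → Prop, P x → P (x ^ 4) → P (x ^ 7) → P (x ^ 10) →
      P (x ^ 13) → P (x ^ e) := by
    intro x hx P p1 p4 p7 p10 p13
    have : x ^ e = x ^ (e % 15) := by
      conv_lhs => rw [← Nat.div_add_mod e 15, pow_add, pow_mul, hx, one_pow, one_mul]
    rw [this]
    rcases (show e % 15 = 1 ∨ e % 15 = 4 ∨ e % 15 = 7 ∨ e % 15 = 10 ∨ e % 15 = 13 by omega) with
      r | r | r | r | r <;> rw [r]
    · rwa [pow_one]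
    all_goals assumption
  have z15 : z ^ 15 = 1 := by
    linear_combination (z ^ 10 + A * z ^ 5 + A * A) * z5 + (A - 1) * hA
  refine ⟨?_, fun u hu => ?_⟩
  · refine red z z15 (fun t => t + z + algebraMap F K (a + 1) ≠ 0) ?_ ?_ ?_ ?_ ?_ <;>
      rw [hmap] <;> intro e'
    · exact hA1 (by linear_combination e' - z * h2)
    · exact hA0 (by linear_combination e' - z4 - (z + 1) * h2)
    · exact hz0 (mul_left_cancel₀ hA1 (by
        linear_combination e' - z * z * z5 - A * hz - (A + 1) * h2 + hA + A * z * h2))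
    · exact hz0 (by linear_combination e' - (z ^ 5 + A) * z5 - hA - 0 * h2)
    · refine hne (a / (a + 1)) ?_
      rw [map_div₀, eq_div_iff (by rw [hmap]; exact hA1), hmap]
      linear_combination e' - (z ^ 8 + A * z ^ 3) * z5 - A * A * (z - 1) * hz - ((A - 1) * (1 - z) + z) * hA +
        (A + 1) * (z - 1) * h2
  · have u15 : u ^ 15 = 1 := by
      have := congrArg (fun t => t ^ 15) hu
      simp only [mul_pow, z15, one_mul, one_pow] at this
      exact this
    have u2 : u * u = (A + 1) * (u + 1) := by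
      linear_combination (A + 1) * u * u * hz - (A + 1) * (z * u + 1 + u) * hu - (u * u) * hA -
        (1 + u + A * u - u * u + A) * h2
    have u4 : u ^ 4 = u + A + 1 := by
      linear_combination (u * u + (A + 1) * (u + 1) + (A + 1) * (A + 1)) * u2 +
        ((A + 2) * (u + 1) + 2 * u + 1) * hA + (u * A - u - 1) * h2
    have u5 : u ^ 5 = A + 1 := by linear_combination u * u4 + u2 + (u + A * u) * h2
    refine red u u15 (fun t => t + u + algebraMap F K a ≠ 0) ?_ ?_ ?_ ?_ ?_ <;> intro e'
    · exact hA0 (by linear_combination e' - u * h2)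
    · exact one_ne_zero (α := K) (by linear_combination e' - u4 - (u + A) * h2)
    · have : (A + 1) * u = 0 := by linear_combination e' - u * u * u5 - (A + 1) * u2 - (u + 1) * hA - A * h2
      exact (mul_ne_zero hA1 (fun e => by rw [e, mul_zero] at hu; exact zero_ne_one hu)) this
    · refine (fun e => by rw [e, mul_zero] at hu; exact zero_ne_one hu : u ≠ 0) ?_
      linear_combination e' - (u ^ 5 + A + 1) * u5 - hA - A * h2
    · refine hne (a + 1) ?_
      have : (A + 1) * u + 1 = 0 := by
        linear_combination e' - (u ^ 8 + (A + 1) * u ^ 3) * u5 - (A + 1) ^ 2 * (u + A + 1) * u2 -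
          ((A * A + 3 * A + 2) * (u + 1) + (A + 2) * u) * hA + ((A + 1) * u + 1) * h2
      rw [hmap]
      linear_combination z * this - (A + 1) * hu - (1 + A) * h2

end Cfsg.Agent.H31.OreSU
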