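/-
Degree three and the block decomposition: all cyclic blocks over four elements.
-/
import Cfsg.Agent.H31.OreSU.PairTwoC

set_option autoImplicit false
set_option linter.unusedSectionVars false

namespace Cfsg.Agent.H31.OreSU

open Matrix Polynomial
open Cfsg.Agent.H60.Ore (Sim Cyc Hess CFull compOf)

universe u

variable {F : Type u} [Field F] [Fintype F] [DecidableEq F] {S : UConj F}

theorem compOf_apply (n : ℕ) (f : F[X]) (i j : Fin n) : compOf n f i j =
    if j.val + 1 = n then -f.coeff i.val else if i.val = j.val + 1 then 1 else 0 := by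
  unfold compOf H60.Ore.comp
  split_ifs <;> rfl

/-- The companion matrix of `X³ + X + 1` in characteristic two. -/
def c3 : Matrix (Fin 3) (Fin 3) F := !![0, 0, 1; 1, 0, 1; 0, 1, 0]

/-- An upper unitriangular matrix. -/
def u3 (α b c : F) : Matrix (Fin 3) (Fin 3) F := !![1, α, b; 0, 1, c; 0, 0, 1]

theorem pair_three_core (h : QConj S 2) (α b c : F) (g : F[X]) (hg : g.Monic) (hgd : g.natDegree = 3)
    (P : Matrix (Fin 3) (Fin 3) F) (hP : P.det ≠ 0)
    (hD : c3 * (u3 α b c * c3 * u3 α (α * c + b) c) * P = P * compOf 3 g) :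
    Pairable S (compOf 3 g) 1 := by
  obtain ⟨h2, hp, hσ, w, hw, hall⟩ := q2_facts h
  let f : F[X] := X ^ 3 + (C 1 * X + C 1)
  have hf : f = pl 3 1 1 := rfl
  have hr : ∀ x : F, x ≠ 0 → f.eval x ≠ 0 := fun x hx e => by
    simp only [f, eval_add, eval_pow, eval_mul, eval_X, eval_C, hp x hx] at e
    exact hx (by linear_combination e - h2)
  refine Pc.pairable h one_ne_zero (f := f) ?_
    (by rw [Fintype.card_fin, hf]; exact pl_coprime h (by norm_num) one_ne_zero one_ne_zero hr) hr
  let gP : GL (Fin 3) F := Matrix.nonsingInvUnit P (isUnit_iff_ne_zero.2 hP)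
  have hs : Sim (c3 * (u3 α b c * c3 * u3 α (α * c + b) c)) (compOf 3 g) :=
    ⟨P, (↑gP⁻¹ : Matrix (Fin 3) (Fin 3) F), gP.mul_inv, gP.inv_mul, hD⟩
  refine Pc.of_sim h (Equiv.refl _) hs.symm ?_
  refine ⟨c3, _, u3 α b c * !![1, 0, 0; 0, 0, 1; 0, 1, 0], rfl, ?_, ?_, ?_, ?_⟩
  · simp [c3, det_fin_three]
  · simp [u3, det_fin_three]
    linear_combination -h2
  · have hu : u3 α (α * c + b) c * u3 α b c = 1 := by
      ext i j; fin_cases i <;> fin_cases j <;> simp [u3, Matrix.mul_apply, Fin.sum_univ_three]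
      · linear_combination α * h2
      · linear_combination (α * c + b) * h2
      · linear_combination c * h2
    have hc : c3 * (!![1, 0, 0; 0, 0, 1; 0, 1, 0] : Matrix (Fin 3) (Fin 3) F) =
        !![1, 0, 0; 0, 0, 1; 0, 1, 0] * cT S c3 := by
      ext i j; fin_cases i <;> fin_cases j <;> simp [c3, cT_apply, Matrix.mul_apply, Fin.sum_univ_three]
    rw [Matrix.mul_assoc (u3 α b c * c3), ← Matrix.mul_assoc (u3 α (α * c + b) c), hu, Matrix.one_mul,
      Matrix.mul_assoc, hc, Matrix.mul_assoc]
  · have he : (c3 : Matrix (Fin 3) (Fin 3) F) = compOf 3 f := by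
      have h1 : (-1 : F) = 1 := by linear_combination -h2
      ext i j; fin_cases i <;> fin_cases j <;>
        simp [c3, compOf, H60.Ore.comp, f, coeff_X, coeff_one, coeff_C, h1]
    rw [he]
    exact H60.Ore.charpoly_compOf (pl_monic (d := 3) (by norm_num) (1 : F) 1).1
      (pl_monic (d := 3) (by norm_num) (1 : F) 1).2

theorem pair_three (h : QConj S 2) {g : F[X]} (hg : g.Monic) (hgd : g.natDegree = 3)
    (hg0 : g.coeff 0 = 1) : Pairable S (compOf 3 g) 1 := by
  obtain ⟨h2, hp, hσ, w, hw, hall⟩ := q2_facts h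
  have hneg : ∀ x : F, -x = x := fun x => by linear_combination -x * h2
  have hcomp : compOf 3 g = !![0, 0, 1; 1, 0, g.coeff 1; 0, 1, g.coeff 2] := by
    ext i j; fin_cases i <;> fin_cases j <;> simp [compOf, H60.Ore.comp, hg0, hneg]
  set x1 := g.coeff 1
  set x2 := g.coeff 2
  have hp4 : ∀ x : F, x ^ 4 = x := fun x => by
    rcases eq_or_ne x 0 with rfl | hx
    · simp
    · rw [pow_succ, hp x hx, one_mul]
  by_cases hx : x1 * x2 = 1
  · have hx1 : x1 = x2 ^ 2 := by
      have h0 : x2 ≠ 0 := right_ne_zero_of_mul_eq_one hx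
      exact mul_right_cancel₀ h0 (by rw [hx, ← pow_succ, hp x2 h0])
    have caseB : ∀ v : F, v * v + v + 1 = 0 → x2 = v → Pairable S (compOf 3 g) 1 := by
      intro v hv e
      refine pair_three_core h (v + 1) 0 (v + 1) g hg hgd !![0, v + 1, v + 1; 0, 0, v; 1, 1, v] ?_ ?_
      · simp [det_fin_three]
        exact ⟨(om_facts h hv).2.2.1, (om_facts h hv).1⟩
      · rw [hcomp, hx1, e]
        ext i j; fin_cases i <;> fin_cases j <;>
          simp [c3, u3, Matrix.mul_apply, Fin.sum_univ_three]
        all_goals grind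
    rcases hall x2 with e | e | e | e
    · rw [e, mul_zero] at hx; exact absurd hx zero_ne_one
    · refine pair_three_core h 1 w 1 g hg hgd !![0, 1, w + 1; 0, 0, 1; 1, w + 1, w + 1] ?_ ?_
      · simp [det_fin_three]
      · rw [hcomp, hx1, e]
        ext i j; fin_cases i <;> fin_cases j <;>
          simp [c3, u3, Matrix.mul_apply, Fin.sum_univ_three]
        all_goals grind
    · exact caseB w hw e
    · exact caseB (w + 1) (by linear_combination hw + (w + 1) * h2) e
  · refine pair_three_core h 0 (x1 ^ 2 + 1) (x2 ^ 2) g hg hgd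
      !![1, 0, x2 ^ 2; 0, 0, 1 + x2 ^ 2 * x1 ^ 2; 0, 1, x1 ^ 2 + (x2 ^ 2) ^ 2] ?_ ?_
    · simp [det_fin_three]
      intro e
      refine hx ?_
      have e2 : (x1 * x2) ^ 2 = 1 := by linear_combination -e - h2
      exact sub_eq_zero.1 (pow_eq_zero_iff (n := 2) two_ne_zero |>.1
        (show (x1 * x2 - 1) ^ 2 = 0 by linear_combination e2 - (x1 * x2 - 1) * h2))
    · have a := hp4 x1
      have b := hp4 x2
      rw [hcomp]
      ext i j; fin_cases i <;> fin_cases j <;>
        simp [c3, u3, Matrix.mul_apply, Fin.sum_univ_three]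
      all_goals grind

theorem pair_split (h : QConj S 2) {e : ℕ} (he : 2 ≤ e) (hmod : e % 3 = 1) {g : F[X]} (hg : g.Monic)
    (hgd : g.natDegree = 2 + e) (hg0 : g.coeff 0 = 1) : Pairable S (compOf (2 + e) g) 1 := by
  obtain ⟨h2, hp, hσ, w, hw, hall⟩ := q2_facts h
  obtain ⟨w0, w1, w01, hσw, hσw1, hmul, hart⟩ := om_facts h hw
  have hw' : (w + 1) * (w + 1) + (w + 1) + 1 = 0 := by linear_combination hw + (w + 1) * h2
  have hneg : ∀ x : F, -x = x := fun x => by linear_combination -x * h2
  obtain ⟨m1, d1, c1, r1, co1, P1⟩ := fne_spec h (d := 2) le_rfl hw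
  obtain ⟨m2, d2, c2, r2, co2, P2⟩ := fne_spec h he hw'
  have ef : fne 2 w = pl 2 1 w := if_neg (by norm_num)
  have ee : fne e (w + 1) = pl e 1 (w + 1) := if_neg (by omega)
  set f₁ := fne 2 w
  set f₂ := fne e (w + 1)
  have h00 : ∀ {p : F[X]} {a : F}, p.coeff 0 = a → a ≠ 0 → p.coeff 0 ≠ 0 := fun e' ha => e' ▸ ha
  -- coprimality
  have k1 : IsCoprime f₁ f₂ := by
    refine coprime_of_roots _ _ fun K _ _ x hx hy => ?_
    rw [ef, pl] at hx; rw [ee, pl] at hy
    simp only [map_add, map_pow, map_mul, map_one, aeval_X, aeval_C, one_mul] at hx hy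
    refine (cross h hw hmod K x (by linear_combination hx)).1 ?_
    rw [map_add, map_one]; linear_combination hy
  have k2 : IsCoprime f₁ (starP S e f₂) := by
    refine coprime_starP _ _ e d2.le (h00 c1 w0) fun K _ _ x y hxy hx hy => ?_
    rw [ef, pl] at hx; rw [ee, pl] at hy
    simp only [Polynomial.map_add, Polynomial.map_pow, Polynomial.map_mul, map_X, map_C, map_one,
      Polynomial.map_one, hσw, hσw1, map_add, map_pow, map_mul, aeval_X, aeval_C, one_mul] at hx hy
    exact (cross h hw hmod K x (by linear_combination hx)).2 y hxy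
      (by linear_combination hy - two_eq_zero' h K)
  have k3 : IsCoprime f₂ (starP S 2 f₁) := by
    refine coprime_starP _ _ 2 d1.le (h00 c2 w01) fun K _ _ x y hxy hx hy => ?_
    rw [ee, pl] at hx; rw [ef, pl] at hy
    simp only [Polynomial.map_add, Polynomial.map_pow, Polynomial.map_mul, map_X, map_C, map_one,
      Polynomial.map_one, hσw, map_add, map_pow, map_mul, aeval_X, aeval_C, one_mul] at hx hy
    refine (cross h hw' hmod K y ?_).2 x (by rwa [mul_comm]) ?_
    · rw [map_add, map_one]; linear_combination hy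
    · rw [map_add, map_one]; linear_combination hx
  refine Pc.pairable h one_ne_zero (f := f₁ * f₂) ?_ ?_ ?_
  rotate_left
  · rw [Fintype.card_fin, starP_mul 2 e f₁ f₂ d1.le d2.le]
    exact (co1.mul_right k2).mul_left (k3.mul_right co2)
  · intro x hx
    rw [eval_mul]; exact mul_ne_zero (r1 x hx) (r2 x hx)
  -- the basis
  let e0 : Fin e := ⟨0, by omega⟩
  let el : Fin e := ⟨e - 1, by omega⟩
  let M := (compOf (2 + e) g).submatrix finSumFinEquiv finSumFinEquiv
  let Z : Matrix (Fin 2) (Fin e) F := Matrix.single 0 e0 1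
  let D11 : Matrix (Fin 2) (Fin 2) F := !![0, 0; 1, 0]
  let D21 : Matrix (Fin e) (Fin 2) F := Matrix.single e0 1 1
  let D12 : Matrix (Fin 2) (Fin e) F := Matrix.of fun i j => if j = el then g.coeff i.val else 0
  let D22 : Matrix (Fin e) (Fin e) F := compOf e (g.divX.divX)
  have hM : M = fromBlocks D11 D12 D21 D22 := by
    ext (i | i) (j | j)
    · have hi := i.isLt
      have hj := j.isLt
      show compOf (2 + e) g (Fin.castAdd e i) (Fin.castAdd e j) = D11 i j
      rw [compOf_apply, Fin.val_castAdd, Fin.val_castAdd, if_neg (by omega)]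
      fin_cases i <;> fin_cases j <;> simp [D11]
    · show compOf (2 + e) g (Fin.castAdd e i) (Fin.natAdd 2 j) = if j = el then g.coeff i.val else 0
      rw [compOf_apply, Fin.val_castAdd, Fin.val_natAdd, hneg]
      by_cases hc : j = el
      · have := congrArg Fin.val hc
        rw [if_pos hc, if_pos (by simp only [el] at this; omega)]
      · have hc' : j.val ≠ e - 1 := fun e' => hc (Fin.ext e')
        rw [if_neg hc, if_neg (by omega), if_neg (by omega)]
    · show compOf (2 + e) g (Fin.natAdd 2 i) (Fin.castAdd e j) = Matrix.single e0 (1 : Fin 2) 1 i j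
      have hj := j.isLt
      rw [compOf_apply, Fin.val_castAdd, Fin.val_natAdd, if_neg (by omega)]
      by_cases hc : e0 = i ∧ 1 = j
      · rw [← hc.1, ← hc.2, Matrix.single_apply_same, if_pos]
        rfl
      · rw [Matrix.single_apply_of_ne _ _ _ _ _ hc, if_neg]
        intro e'
        exact hc ⟨Fin.ext (show 0 = i.val by omega), Fin.ext (show 1 = j.val by omega)⟩
    · show compOf (2 + e) g (Fin.natAdd 2 i) (Fin.natAdd 2 j) = compOf e g.divX.divX i j
      rw [compOf_apply, compOf_apply, Fin.val_natAdd, Fin.val_natAdd, coeff_divX, coeff_divX]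
      simp only [show 2 + j.val + 1 = 2 + e ↔ j.val + 1 = e by omega,
        show 2 + i.val = 2 + j.val + 1 ↔ i.val = j.val + 1 by omega]
      rw [show 2 + i.val = i.val + 1 + 1 by omega]
  let g₁ : F[X] := X ^ 2 + (C 0 * X + C 1)
  let g₂ : F[X] := X ^ e + ∑ i : Fin e, C (if i.val = 0 then g.coeff 0 else g.coeff (i.val + 2)) * X ^ i.val
  have g2c : ∀ i (hi : i < e), g₂.coeff i = if i = 0 then g.coeff 0 else g.coeff (i + 2) := fun i hi => by
    simp only [g₂]
    rw [coeff_add, coeff_X_pow, if_neg hi.ne, zero_add, finsetSum_coeff,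
      Finset.sum_eq_single ⟨i, hi⟩ (fun j _ hj => by
        rw [coeff_C_mul_X_pow, if_neg (show ¬ i = j.val from fun e' => hj (Fin.ext e'.symm))]) (by simp),
      coeff_C_mul_X_pow, if_pos rfl]
  have g2d : g₂.natDegree = e ∧ g₂.Monic := by
    have hlt : (∑ i : Fin e, C (if i.val = 0 then g.coeff 0 else g.coeff (i.val + 2)) * X ^ i.val :
        F[X]).degree < (e : ℕ) := by
      refine (degree_sum_le _ _).trans_lt ((Finset.sup_lt_iff (WithBot.bot_lt_coe e)).2 fun i _ => ?_)
      exact (degree_C_mul_X_pow_le _ _).trans_lt (WithBot.coe_lt_coe.2 i.isLt)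
    refine ⟨natDegree_eq_of_degree_eq_some ?_, monic_X_pow_add hlt⟩
    rw [degree_add_eq_left_of_degree_lt (by rwa [degree_X_pow]), degree_X_pow]
  have hT : (compOf 2 g₁) = (!![0, 1; 1, 0] : Matrix (Fin 2) (Fin 2) F) := by
    rw [H60.Ore.compOf_two]
    simp [g₁, coeff_one, hneg]
  set T : Matrix (Fin 2) (Fin 2) F := !![0, 1; 1, 0]
  have hT2 : T * T = 1 := by
    ext i j; fin_cases i <;> fin_cases j <;> simp [T, Matrix.mul_apply, Fin.sum_univ_two]
  set N12 := D11 * Z + D12 + Z * D22
  have hs : Sim M (fromBlocks T N12 D21 D22) := by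
    have hZ : Z * Z.transpose * Z = Z := by simp [Z, Matrix.single_mul_single_same]
    have hDZ : D21 * Z = 0 := by
      simp [D21, Z, Matrix.single_mul_single_of_ne (h := show (1 : Fin 2) ≠ 0 by decide)]
    have hT' : D11 + Z * D21 = T := by
      ext i j; fin_cases i <;> fin_cases j <;>
        simp [D11, D21, Z, T, Matrix.single_mul_single_same, Matrix.single_apply]
    have hZZ : Z + Z = 0 := by
      ext i j; rw [Matrix.add_apply, Matrix.zero_apply]; linear_combination (Z i j) * h2
    refine ⟨fromBlocks 1 Z 0 1, fromBlocks 1 Z 0 1, by simp [fromBlocks_multiply, hZZ, fromBlocks_one],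
      by simp [fromBlocks_multiply, hZZ, fromBlocks_one], ?_⟩
    rw [hM, fromBlocks_multiply, fromBlocks_multiply]
    congr 1
    · rw [← hT']
      simp only [Matrix.one_mul, Matrix.mul_one, Matrix.mul_zero, add_zero]
      ext i j; simp only [Matrix.add_apply]
      linear_combination -((Z * D21) i j) * h2
    · simp only [N12, Matrix.one_mul, Matrix.mul_one]
      ext i j; simp only [Matrix.add_apply]
      linear_combination -((Z * D22) i j) * h2
    · simp
    · simp [hDZ]
  have hS : D22 - D21 * T * N12 = compOf e g₂ := by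
    have hrow : D21 * T = Matrix.single e0 0 1 := by
      ext i j; fin_cases j <;> simp [D21, T, Matrix.mul_apply, Fin.sum_univ_two, Matrix.single_apply]
    rw [hrow]
    ext i j
    rw [Matrix.sub_apply]
    by_cases hi : i = e0
    · subst hi
      rw [Matrix.single_mul_apply_same, one_mul]
      have r1 : (D11 * Z) 0 j = 0 := by simp [D11, Z, Matrix.mul_apply, Fin.sum_univ_two]
      have r2 : (Z * D22) 0 j = D22 e0 j := by rw [Matrix.single_mul_apply_same, one_mul]
      simp only [N12, Matrix.add_apply, r1, r2]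
      simp only [D22, D12, Matrix.of_apply, compOf, H60.Ore.comp, coeff_divX, g2c e0.val e0.isLt,
        if_pos (show e0.val = 0 from rfl), hneg, e0, el, Fin.ext_iff, Fin.val_zero]
      repeat' split
      all_goals first | omega | contradiction | exact hneg _ | (linear_combination 0 * h2) |
        linear_combination -(g.coeff 0) * h2
    · rw [Matrix.single_mul_apply_of_ne (h := hi), sub_zero]
      simp only [D22, compOf, H60.Ore.comp, coeff_divX, g2c i.val i.isLt,
        if_neg (show ¬ i.val = 0 from fun e' => hi (Fin.ext e'))]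
  have hA : Pc S T w f₁ := by
    rw [← hT]
    refine P1 g₁ (pl_monic (le_refl 2) 0 1).1 (pl_monic (le_refl 2) 0 1).2 ?_
    simp [g₁]
  have hB : Pc S (D22 - D21 * T * N12) (w + 1) f₂ := by
    rw [hS]
    exact P2 g₂ g2d.2 g2d.1 (by rw [g2c 0 (by omega), if_pos rfl, hg0])
  have hG := Pc.glue h T hT2 w0 hA hB k1
  rw [hmul] at hG
  exact Pc.of_sim h finSumFinEquiv.symm ((Sim.submatrix _ finSumFinEquiv).trans hs) hG

/-- All cyclic blocks of determinant one over four elements. -/
theorem pairable_two (h : QConj S 2) {d : ℕ} (hd : 2 ≤ d) {g : F[X]} (hg : g.Monic)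
    (hgd : g.natDegree = d) (hdet : (compOf d g).det = 1) (δ : F) (hδ : δ ≠ 0) :
    Pairable S (compOf d g) δ := by
  obtain ⟨h2, hp, hσ, w, hw, hall⟩ := q2_facts h
  have hg0 : g.coeff 0 = 1 := by
    rwa [H60.Ore.det_compOf hg hgd, show (-1 : F) = 1 by linear_combination -h2, one_pow, one_mul] at hdet
  have hne : ∀ v : F, v * v + v + 1 = 0 → Pairable S (compOf d g) v := fun v hv => by
    obtain ⟨-, -, -, hr, hco, hP⟩ := fne_spec h hd hv
    exact Pc.pairable h (om_facts h hv).1 (hP g hg hgd hg0) (by rwa [Fintype.card_fin]) hr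
  rcases hall δ with e | e | e | e
  · exact absurd e hδ
  · subst e
    by_cases hmod : d % 3 = 0
    · rcases eq_or_ne d 3 with rfl | h3
      · exact pair_three h hg hgd hg0
      · obtain ⟨e, rfl⟩ : ∃ e, d = 2 + e := ⟨d - 2, by omega⟩
        exact pair_split h (by omega) (by omega) hg hgd hg0
    · exact pair_coprime_to_three h hd hmod hg hgd hg0
  · exact e ▸ hne w hw
  · exact e ▸ hne (w + 1) (by linear_combination hw + (w + 1) * h2)

end Cfsg.Agent.H31.OreSU
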