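/-
Pairs for Hessenberg blocks; data for the middle block.
-/
import Cfsg.Agent.H31.OreSU.PairTwoD
import Cfsg.Agent.H31.OreSU.PairThree
import Cfsg.Agent.H31.OreSU.Norm

set_option autoImplicit false
set_option linter.unusedSectionVars false

namespace Cfsg.Agent.H31.OreSU

open Matrix Polynomial
open Cfsg.Agent.H60.Ore (Hess compOf comp)

variable {F : Type*} [Field F] [Fintype F] [DecidableEq F] {S : UConj F} {q : ℕ}

theorem pair_gen (h : QConj S q) {d : ℕ} (hd : 2 ≤ d) {a : Matrix (Fin d) (Fin d) F} (ha : Hess a)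
    (hdet : a.det = 1) (δ : F) (hδ : δ ≠ 0)
    (hex : q = 3 → d = 2 → a.trace ≠ -1 ∨ δ = 1) : Pairable S a δ := by
  set f := a.charpoly
  have hf : f.Monic := charpoly_monic a
  have hfd : f.natDegree = d := by rw [charpoly_natDegree_eq_dim, Fintype.card_fin]
  have hsim : H60.Ore.Sim a (compOf d f) := ha.cyc.sim_comp (Fintype.card_fin d)
  refine Pairable.of_sim S hsim ?_
  have hdc : (compOf d f).det = 1 := by rw [← hsim.det_eq, hdet]
  have hq := h.two_le
  rcases hq.lt_or_eq with hq3 | hq2
  · rcases hd.lt_or_eq with hd3 | hd2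
    · obtain ⟨m, rfl⟩ : ∃ m, d = m + 2 := ⟨d - 2, by omega⟩
      exact pair_big h hq3 (by omega) hf hfd hdc δ hδ
    · subst hd2
      rcases (show 3 ≤ q from hq3).lt_or_eq with hq4 | hq3
      · exact pair_two h hq4 hf hfd hdc δ hδ
      · subst hq3
        have h1 : f.coeff 1 = -a.trace := by simp [f, Matrix.charpoly_fin_two, coeff_X_pow]
        by_cases ht : f.coeff 1 = 1
        · rcases hex rfl rfl with he | he
          · exact absurd (by linear_combination h1 - ht) he
          · subst he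
            refine pair_two_unipotent h ?_ ht
            have : f.coeff 0 = a.det := by simp [f, Matrix.charpoly_fin_two, coeff_X_pow]
            rw [this, hdet]
        · exact pair_two_three h hf hfd hdc ht δ hδ
  · subst hq2
    exact pairable_two h hd hf hfd hdc δ hδ

theorem pair_dim_one {d : ℕ} (hd : d = 1) (a : Matrix (Fin d) (Fin d) F) (hdet : a.det = 1) {x : F}
    (hx0 : x ≠ 0) (hx : x * S.σ x ≠ 1) (δ : F) (hxδ : x * S.σ δ = S.σ x * δ) : Pairable S a δ := by
  subst hd
  have : a = 1 := by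
    ext i j
    rw [Subsingleton.elim i 0, Subsingleton.elim j 0, one_apply_eq, ← hdet, det_fin_one]
  exact this ▸ pair_one hx0 hx δ hxδ

theorem exists_scale (h : QConj S q) (hq : 4 ≤ q) {δ : F} (hδ : δ ≠ 0) :
    ∃ x : F, x ≠ 0 ∧ x * S.σ x ≠ 1 ∧ x * S.σ δ = S.σ x * δ := by
  classical
  let fx : Finset F := Finset.univ.filter fun x => S.σ x = x
  have hcf : fx.card = q := by
    have h1 := card_fix_sq S
    rw [Nat.card_eq_fintype_card, Nat.card_eq_fintype_card, h.card, Fintype.card_subtype] at h1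
    exact Nat.pow_left_injective two_ne_zero h1
  have hsub : ¬ fx ⊆ insert 0 (Finset.univ.filter fun r : F => (C (δ * S.σ δ) * X ^ 2 - 1).eval r = 0) := by
    intro hs
    have h1 := (Finset.card_le_card hs).trans (Finset.card_insert_le _ _)
    have hp : (C (δ * S.σ δ) * X ^ 2 - 1 : F[X]) ≠ 0 := fun e => by
      have := congrArg (fun p => p.coeff 0) e
      simp at this
    have h2 := (card_roots_le _ hp).trans (natDegree_sub_le _ _)
    have h3 : max (C (δ * S.σ δ) * X ^ 2 : F[X]).natDegree (1 : F[X]).natDegree ≤ 2 :=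
      max_le ((natDegree_C_mul_X_pow_le _ _)) (by simp)
    omega
  obtain ⟨r, hr, hr'⟩ := Finset.not_subset.1 hsub
  simp only [fx, Finset.mem_filter, Finset.mem_univ, true_and, Finset.mem_insert, not_or] at hr hr'
  refine ⟨r * δ, mul_ne_zero hr'.1 hδ, fun e => hr'.2 ?_, ?_⟩
  · rw [map_mul, hr] at e
    simp only [eval_sub, eval_mul, eval_pow, eval_C, eval_X, eval_one]
    linear_combination e
  · rw [map_mul, hr]; ring

variable (S)

omit [Fintype F] [DecidableEq F] in
theorem hilbert90 {t : F} (ht : t * S.σ t = 1) : ∃ δ : F, δ ≠ 0 ∧ δ * t = S.σ δ := by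
  have key : ∀ x, (x + S.σ t * S.σ x) * t = S.σ (x + S.σ t * S.σ x) := fun x => by
    rw [map_add, map_mul, S.inv, S.inv]; linear_combination S.σ x * ht
  by_cases h1 : (1 : F) + S.σ t * S.σ 1 = 0
  · obtain ⟨u, hu⟩ := S.ne
    refine ⟨u + S.σ t * S.σ u, fun h2 => hu ?_, key u⟩
    rw [map_one] at h1
    linear_combination (S.σ u) * h1 - h2
  · exact ⟨_, h1, key 1⟩

omit [Fintype F] [DecidableEq F] in
theorem exists_cycle {β : Type} [Fintype β] [DecidableEq β] (w : β → F) (hw : ∀ x, w x * S.σ (w x) = 1)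
    (hp : (∏ x, w x) = 1) :
    ∃ (π : β ≃ β) (E : β → F), (∀ x, E x * S.σ (E x) = 1) ∧ ∀ x, w x = E x * (E (π x))⁻¹ := by
  classical
  set m := Fintype.card β
  rcases Nat.eq_zero_or_pos m with hm | hm
  · haveI : IsEmpty β := Fintype.card_eq_zero_iff.1 hm
    exact ⟨Equiv.refl _, fun _ => 1, fun x => isEmptyElim x, fun x => isEmptyElim x⟩
  obtain ⟨k, hk⟩ : ∃ k, m = k + 1 := ⟨m - 1, by omega⟩
  let e : β ≃ Fin (k + 1) := Fintype.equivFinOfCardEq hk
  let v : Fin (k + 1) → F := fun i => w (e.symm i)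
  have hv : (∏ i, v i) = 1 := by rw [← hp]; exact Equiv.prod_comp e.symm w
  let E : Fin (k + 1) → F := fun i => (Fin.partialProd v i.castSucc)⁻¹
  have hEn : ∀ i : Fin (k + 2), Fin.partialProd v i * S.σ (Fin.partialProd v i) = 1 := by
    intro i
    induction i using Fin.induction with
    | zero => simp
    | succ i ih => rw [Fin.partialProd_succ, map_mul]; linear_combination v i * S.σ (v i) * ih + hw (e.symm i)
  have hP0 : ∀ i, Fin.partialProd v i ≠ 0 := fun i => left_ne_zero_of_mul_eq_one (hEn i)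
  refine ⟨e.trans ((finRotate (k + 1)).trans e.symm), fun x => E (e x), fun x => ?_, fun x => ?_⟩
  · simp only [E, map_inv₀, ← mul_inv, hEn, inv_one]
  · simp only [Equiv.trans_apply, Equiv.apply_symm_apply, E, inv_inv]
    have hx : v (e x) = w x := by simp [v]
    rw [← hx]
    generalize e x = i
    have hstep : Fin.partialProd v (finRotate (k + 1) i).castSucc = Fin.partialProd v i.succ := by
      rcases Fin.eq_castSucc_or_eq_last i with ⟨j, rfl⟩ | rfl
      · rw [finRotate_succ_apply, Fin.coeSucc_eq_succ, ← Fin.succ_castSucc]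
      · rw [finRotate_last, Fin.castSucc_zero, Fin.partialProd_zero, Fin.succ_last]
        show 1 = Fin.partialProd v (Fin.last (k + 1))
        rw [← hv, Fin.partialProd]
        simp [List.take_of_length_le, Fin.prod_ofFn, Fin.prod_univ_succ]
    rw [hstep, Fin.partialProd_succ, inv_mul_cancel_left₀ (hP0 _)]

end Cfsg.Agent.H31.OreSU
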