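/-
Sums and changes of frames.
-/
import Cfsg.Agent.H31.OreSU.Levi
import Cfsg.Agent.H31.OreSU.TopIn
import Cfsg.Agent.H60.Ore.Units

set_option autoImplicit false
set_option linter.unusedSectionVars false

namespace Cfsg.Agent.H31.OreSU

open Matrix
open Cfsg.Agent.H60.Ore (Hess)

variable {F : Type*} [Field F] [Finite F] (S : UConj F)
variable {ι : Type} [Fintype ι] [DecidableEq ι]

/-- A frame together with the blocks of `g` in it. -/
structure Fr {α β : Type} [Fintype α] [DecidableEq α] [Fintype β] [DecidableEq β]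
    (J : Matrix ι ι F) (g : Matrix ι ι F) (E : Matrix ι (Idx α β) F) (μ : β → F)
    (a : Matrix α α F) (b : Matrix α β F) (c : Matrix α α F) (d : Matrix β α F) (e : Matrix β β F)
    (f : Matrix β α F) (k : Matrix α α F) (h : Matrix α β F) (i : Matrix α α F) : Prop where
  fix : ∀ x, μ x ≠ 0 ∧ S.σ (μ x) = μ x
  gram : cT S E * J * E = hypJ (diagonal μ)
  act : g * E = E * b3 a b c d e f k h i

theorem cols3_mul_b3 {α β γ α' β' γ' : Type} [Fintype α] [Fintype β] [Fintype γ] (A : Matrix ι α F)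
    (B : Matrix ι β F) (C : Matrix ι γ F) (a : Matrix α α' F) (b : Matrix α β' F) (c : Matrix α γ' F)
    (d : Matrix β α' F) (e : Matrix β β' F) (f : Matrix β γ' F) (k : Matrix γ α' F)
    (h : Matrix γ β' F) (i : Matrix γ γ' F) :
    cols3 A B C * b3 a b c d e f k h i =
      cols3 (A * a + B * d + C * k) (A * b + B * e + C * h) (A * c + B * f + C * i) := by
  ext n (x | x | x) <;> simp [cols3, b3, Matrix.mul_apply, Fintype.sum_sum_type, add_assoc]

theorem exists_cols3 {α β γ : Type} (E : Matrix ι (α ⊕ (β ⊕ γ)) F) :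
    ∃ A B C, E = cols3 A B C :=
  ⟨E.toCols₁, E.toCols₂.toCols₁, E.toCols₂.toCols₂, by ext n (x | x | x) <;> rfl⟩

theorem cols3_inj {α β γ : Type} {A A' : Matrix ι α F} {B B' : Matrix ι β F} {C C' : Matrix ι γ F} :
    cols3 A B C = cols3 A' B' C' ↔ A = A' ∧ B = B' ∧ C = C' := by
  refine ⟨fun h => ⟨?_, ?_, ?_⟩, by rintro ⟨rfl, rfl, rfl⟩; rfl⟩ <;> ext n x
  · exact congrFun (congrFun h n) (Sum.inl x)
  · exact congrFun (congrFun h n) (Sum.inr (Sum.inl x))
  · exact congrFun (congrFun h n) (Sum.inr (Sum.inr x))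

section Sum

variable {α α' β β' : Type} [Fintype α] [DecidableEq α] [Fintype β] [DecidableEq β]
  [Fintype α'] [DecidableEq α'] [Fintype β'] [DecidableEq β'] {m : ℕ}

/-- Orthogonal sum of a frame with a frame of the complement. -/
theorem fr_sum {J : Matrix ι ι F} (hJ : cT S J = J) {g : Matrix ι ι F} {E : Matrix ι (Idx α β) F}
    {μ : β → F} {a b c d e f k h i} (hf : Fr S J g E μ a b c d e f k h i)
    (K1 : Matrix ι (Fin m) F) (g1 : Matrix (Fin m) (Fin m) F) (hcross : cT S E * J * K1 = 0)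
    (hg : g * K1 = K1 * g1) {E' : Matrix (Fin m) (Idx α' β') F} {μ' : β' → F} {a' b' c' d' e' f' k' h' i'}
    (hf' : Fr S (cT S K1 * J * K1) g1 E' μ' a' b' c' d' e' f' k' h' i') :
    ∃ E'' : Matrix ι (Idx (α ⊕ α') (β ⊕ β')) F, Fr S J g E'' (Sum.elim μ μ')
      (fromBlocks a 0 0 a') (fromBlocks b 0 0 b') (fromBlocks c 0 0 c') (fromBlocks d 0 0 d')
      (fromBlocks e 0 0 e') (fromBlocks f 0 0 f') (fromBlocks k 0 0 k') (fromBlocks h 0 0 h')
      (fromBlocks i 0 0 i') := by
  obtain ⟨A, B, C, rfl⟩ := exists_cols3 E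
  obtain ⟨A', B', C', rfl⟩ := exists_cols3 E'
  have hact := hf.act
  have hact' := congrArg (fun M => K1 * M) hf'.act
  simp only [← Matrix.mul_assoc, ← hg] at hact'
  rw [Matrix.mul_assoc g] at hact'
  simp only [mul_cols3, cols3_mul_b3, cols3_inj] at hact hact'
  have hgram := hf.gram
  have hgram' : cT S (K1 * cols3 A' B' C') * J * (K1 * cols3 A' B' C') = hypJ (diagonal μ') := by
    rw [← hf'.gram]; simp only [cT_mul, Matrix.mul_assoc]
  have hc1 : cT S (cols3 A B C) * J * (K1 * cols3 A' B' C') = 0 := by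
    rw [← Matrix.mul_assoc, hcross, Matrix.zero_mul]
  have hc2 : cT S (K1 * cols3 A' B' C') * J * cols3 A B C = 0 := by
    have := congrArg (cT S) hc1
    simpa only [cT_mul, cT_cT, hJ, cT_zero, Matrix.mul_assoc] using this
  rw [mul_cols3 K1] at hgram' hc1 hc2
  rw [cols3_gram] at hgram hgram' hc1 hc2
  rw [hypJ, b3_inj] at hgram hgram'
  have hz : ∀ {u v w u' v' w' : Type}, (0 : Matrix (u ⊕ (v ⊕ w)) (u' ⊕ (v' ⊕ w')) F) = b3 0 0 0 0 0 0 0 0 0 := by
    intros; ext (x | x | x) (y | y | y) <;> rfl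
  rw [hz, b3_inj] at hc1 hc2
  obtain ⟨g1', g2, g3, g4, g5, g6, g7, g8, g9⟩ := hgram
  obtain ⟨u1, u2, u3, u4, u5, u6, u7, u8, u9⟩ := hgram'
  obtain ⟨p1, p2, p3, p4, p5, p6, p7, p8, p9⟩ := hc1
  obtain ⟨q1, q2, q3, q4, q5, q6, q7, q8, q9⟩ := hc2
  refine ⟨cols3 (fromCols A (K1 * A')) (fromCols B (K1 * B')) (fromCols C (K1 * C')), ?_, ?_, ?_⟩
  · rintro (x | x)
    · exact hf.fix x
    · exact hf'.fix x
  · have hT : ∀ {u v u' v' : Type} [Fintype u] [Fintype v] [Fintype u'] [Fintype v'] [DecidableEq u]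
        [DecidableEq v] [DecidableEq u'] [DecidableEq v'] (P : Matrix ι u F) (Q : Matrix ι v F)
        (R : Matrix ι u' F) (T : Matrix ι v' F), cT S (fromCols P Q) * J * fromCols R T =
          fromBlocks (cT S P * J * R) (cT S P * J * T) (cT S Q * J * R) (cT S Q * J * T) := by
      intros
      rename_i P Q R T
      rw [show cT S (fromCols P Q) = fromRows (cT S P) (cT S Q) by ext (x | x) y <;> simp [cT_apply],
        fromRows_mul, fromRows_mul_fromCols]
    rw [cols3_gram]
    simp only [hT, g1', g2, g3, g4, g5, g6, g7, g8, g9, u1, u2, u3, u4, u5, u6, u7, u8, u9, p1, p2, p3,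
      p4, p5, p6, p7, p8, p9, q1, q2, q3, q4, q5, q6, q7, q8, q9, fromBlocks_zero, fromBlocks_one,
      fromBlocks_diagonal, hypJ]
  · obtain ⟨r1, r2, r3⟩ := hact
    obtain ⟨s1, s2, s3⟩ := hact'
    simp only [cols3_mul_b3, mul_cols3, mul_fromCols, fromCols_mul_fromBlocks, r1, r2, r3, s1, s2, s3,
      Matrix.mul_zero, add_zero, zero_add]
    congr 1
    · ext n (x | x) <;> simp [Matrix.add_apply]
    · ext n (x | x) <;> simp [Matrix.add_apply]
    · ext n (x | x) <;> simp [Matrix.add_apply]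

/-- Change of the complementary Lagrangian, when the lower left middle block vanishes. -/
theorem fr_shift {J : Matrix ι ι F} {g : Matrix ι ι F} {E : Matrix ι (Idx α β) F} {μ : β → F}
    {a b c e f k h i} (hf : Fr S J g E μ a b c 0 e f k h i) (x : Matrix α β F) (y : Matrix β α F)
    (hy : y = -(diagonal (fun j => (μ j)⁻¹) * cT S x)) (X : Matrix α α F)
    (hX : X + cT S X = x * y) :
    ∃ (E' : Matrix ι (Idx α β) F) (b' c' : _) (f' h' i' : _),
      Fr S J g E' μ (a + (x * y - X) * k) b' c' (-(y * k)) (e - y * (k * x + h)) f' k h' i' := by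
  let P : Matrix (Idx α β) (Idx α β) F := b3 1 x X 0 1 y 0 0 1
  let P' : Matrix (Idx α β) (Idx α β) F := b3 1 (-x) (x * y - X) 0 1 (-y) 0 0 1
  have hPP : P * P' = 1 := by
    simp only [P, P', b3_mul]
    rw [← b3_one, b3_inj]
    refine ⟨?_, ?_, ?_, ?_, ?_, ?_, ?_, ?_, ?_⟩ <;> simp
    all_goals abel
  have hμ0 : ∀ j, μ j ≠ 0 := fun j => (hf.fix j).1
  have hDD : diagonal μ * diagonal (fun j => (μ j)⁻¹) = 1 := by simp [diagonal_mul_diagonal, hμ0]
  have hDx : diagonal μ * y = -cT S x := by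
    rw [hy, Matrix.mul_neg, ← Matrix.mul_assoc, hDD, Matrix.one_mul]
  have hDh : cT S (diagonal μ) = diagonal μ := by
    rw [cT_diagonal]; exact congrArg diagonal (funext fun j => (hf.fix j).2)
  have hxy : cT S y * diagonal μ = -x := by
    have := congrArg (cT S) hDx
    rwa [cT_mul, hDh, cT_neg, cT_cT] at this
  have hgr : cT S (E * P) * J * (E * P) = hypJ (diagonal μ) := by
    calc cT S (E * P) * J * (E * P) = cT S P * (cT S E * J * E) * P := by
          simp only [cT_mul, Matrix.mul_assoc]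
      _ = _ := by
          rw [hf.gram]
          simp only [P, hypJ, cT_b3, b3_mul, b3_inj, cT_one, cT_zero, Matrix.mul_zero, Matrix.zero_mul,
            Matrix.mul_one, Matrix.one_mul, add_zero, zero_add]
          refine ⟨trivial, trivial, trivial, trivial, trivial, ?_, trivial, ?_, ?_⟩
          · rw [hDx]; simp
          · rw [hxy]; simp
          · rw [hxy, Matrix.neg_mul, ← hX]; abel
  refine ⟨E * P, (a + (x * y - X) * k) * x + (b + -x * e + (x * y - X) * h),
    (a + (x * y - X) * k) * X + (b + -x * e + (x * y - X) * h) * y + (c + -x * f + (x * y - X) * i),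
    -y * k * X + (e + -y * h) * y + (f + -y * i), k * x + h, k * X + h * y + i, hf.fix, hgr, ?_⟩
  calc g * (E * P) = E * (P * P') * b3 a b c 0 e f k h i * P := by
        rw [hPP, Matrix.mul_one, ← Matrix.mul_assoc, hf.act]
    _ = _ := by
        rw [← Matrix.mul_assoc E P P', Matrix.mul_assoc (E * P), Matrix.mul_assoc (E * P)]
        congr 1
        simp only [P, P', b3_mul, b3_inj, Matrix.mul_zero, Matrix.zero_mul, Matrix.mul_one, Matrix.one_mul,
          add_zero, zero_add]
        refine ⟨trivial, trivial, trivial, ?_, ?_, trivial, trivial, trivial, trivial⟩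
        · rw [Matrix.neg_mul]
        · simp only [Matrix.mul_add, Matrix.neg_mul, Matrix.mul_assoc]; abel

/-- The frame as a change of coordinates. -/
theorem fr_transport {J : Matrix ι ι F} {g : GL ι F} (hg : g ∈ U S J)
    {E : Matrix ι (Idx α β) F} {μ : β → F} {a b c d e f k h i}
    (hf : Fr S J (g : Matrix ι ι F) E μ a b c d e f k h i)
    (hcard : Fintype.card (Idx α β) = Fintype.card ι) :
    ∃ g' : GL (Idx α β) F, g' ∈ U S (hypJ (diagonal μ)) ∧
      (g' : Matrix (Idx α β) (Idx α β) F) = b3 a b c d e f k h i ∧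
      (g' : Matrix (Idx α β) (Idx α β) F).det = (g : Matrix ι ι F).det ∧
      (Com S (hypJ (diagonal μ)) g' → Com S J g) := by
  set Q : Matrix (Idx α β) ι F := hypJ (diagonal fun j => (μ j)⁻¹) * (cT S E * J)
  have hJJ : (hypJ (diagonal fun j => (μ j)⁻¹) : Matrix (Idx α β) (Idx α β) F) * hypJ (diagonal μ) = 1 := by
    simp [hypJ, b3_mul, diagonal_mul_diagonal, fun j => (hf.fix j).1, b3_one]
  have hQE : Q * E = 1 := (Matrix.mul_assoc _ _ _).trans ((congrArg _ hf.gram).trans hJJ)
  let eq : Idx α β ≃ ι := Fintype.equivOfCardEq hcard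
  have hEQ : E * Q = 1 := (Matrix.mul_eq_one_comm_of_equiv eq).1 hQE
  let g' := transport Q E hQE hEQ g
  have hval : (g' : Matrix (Idx α β) (Idx α β) F) = b3 a b c d e f k h i := by
    show Q * (g : Matrix ι ι F) * E = _
    rw [Matrix.mul_assoc, hf.act, ← Matrix.mul_assoc, hQE, Matrix.one_mul]
  have hback : transport E Q hEQ hQE g' = g := by
    refine Units.ext ?_
    show E * (Q * (g : Matrix ι ι F) * E) * Q = _
    simp only [Matrix.mul_assoc, hEQ, Matrix.mul_one]
    rw [← Matrix.mul_assoc, hEQ, Matrix.one_mul]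
  refine ⟨g', ?_, hval, Matrix.det_conj_of_mul_eq_one hQE hEQ, fun hC => ?_⟩
  · rw [mem_U, ← hf.gram]
    calc cT S (g' : Matrix (Idx α β) (Idx α β) F) * (cT S E * J * E) * (g' : Matrix (Idx α β) (Idx α β) F)
        = cT S (E * (g' : Matrix (Idx α β) (Idx α β) F)) * J * (E * (g' : Matrix (Idx α β) (Idx α β) F)) := by simp only [cT_mul, Matrix.mul_assoc]
      _ = cT S E * (cT S (g : Matrix ι ι F) * J * (g : Matrix ι ι F)) * E := by
          rw [hval, ← hf.act]; simp only [cT_mul, Matrix.mul_assoc]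
      _ = _ := by rw [hg]
  · rw [← hback]
    exact Com.of_transport S E Q hEQ hQE (hf.gram ▸ hC)

end Sum

section Blocks

variable {α β : Type} [Fintype α] [DecidableEq α] [Fintype β] [DecidableEq β]

theorem det_relation {μ : β → F} (hμ : ∀ x, μ x ≠ 0 ∧ S.σ (μ x) = μ x) {g : GL (Idx α β) F}
    (hg : g ∈ U S (hypJ (diagonal μ))) {a b c d e f k h i}
    (eg : (g : Matrix (Idx α β) (Idx α β) F) = b3 a b c d e f k h i) (D : GL α F)
    (hD : (D : Matrix α α F) = a) :
    cT S (e - d * (↑D⁻¹ : Matrix α α F) * b) * diagonal μ * (e - d * (↑D⁻¹ : Matrix α α F) * b) = diagonal μ ∧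
      (g : Matrix (Idx α β) (Idx α β) F).det * S.σ a.det =
        a.det * (e - d * (↑D⁻¹ : Matrix α α F) * b).det := by
  have hJh : cT S (diagonal fun x => (μ x)⁻¹) = diagonal fun x => (μ x)⁻¹ := by
    rw [cT_diagonal]; simp [hμ]
  obtain ⟨c₀, u, v, hc, hu, hv, ec, rfl⟩ :=
    exists_decomp S (diagonal fun x => (μ x)⁻¹) (by simp [diagonal_mul_diagonal, hμ]) hJh hg eg D hD
  rw [← ec]
  refine ⟨hc, ?_⟩
  have hsw : (swap : GL (Idx α β) F).val.det * (swap : GL (Idx α β) F).val.det = 1 := by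
    rw [← det_mul]
    conv_lhs => arg 1; rw [show (swap : GL (Idx α β) F).val = (swap : GL (Idx α β) F).inv from rfl]
    rw [show (swap : GL (Idx α β) F).inv * (swap : GL (Idx α β) F).inv = 1 from
      (swap : GL (Idx α β) F).inv_val.trans rfl |> fun _ => by simp [swap, b3_mul, b3_one], det_one]
  have hud : (u : Matrix (Idx α β) (Idx α β) F).det = 1 := by
    have := hu.det S
    rw [Units.val_mul, Units.val_mul, det_mul, det_mul] at this
    linear_combination this - (u : Matrix (Idx α β) (Idx α β) F).det * hsw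
  have hσ : S.σ (↑D⁻¹ : Matrix α α F).det * S.σ a.det = 1 := by
    rw [← map_mul, ← det_mul, ← hD, D.inv_mul, det_one, map_one]
  rw [Units.val_mul, Units.val_mul, det_mul, det_mul, hud, hv.det S, one_mul, mul_one, det_levi, hD]
  linear_combination (a.det * (c₀ : Matrix β β F).det) * hσ

theorem det_hess_last {n : ℕ} (M : Matrix (Fin (n + 1)) (Fin (n + 1)) F) (hM : Hess M) :
    (M.updateCol (Fin.last n) (Pi.single 0 1)).det ≠ 0 := by
  intro h0
  obtain ⟨v, hv, hMv⟩ := Matrix.exists_mulVec_eq_zero_iff.2 h0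
  have hrow : ∀ i : Fin (n + 1), ∀ j : Fin (n + 1), i.val = j.val + 1 →
      (∀ l : Fin (n + 1), i.val ≤ l.val → l ≠ Fin.last n → v l = 0) → v j = 0 := by
    intro i j hij hz
    have h1 := congrFun hMv i
    rw [Matrix.mulVec, dotProduct, Finset.sum_eq_single j (fun l _ hl => ?_) (by simp),
      Pi.zero_apply, mul_eq_zero] at h1
    · refine h1.resolve_left ?_
      rw [Matrix.updateCol_ne (fun e => by rw [e, Fin.val_last] at hij; omega)]
      exact hM.2 i j hij
    · by_cases hll : l = Fin.last n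
      · rw [hll, Matrix.updateCol_self, Pi.single_eq_of_ne (fun e => by rw [e] at hij; simp at hij), zero_mul]
      · rw [Matrix.updateCol_ne hll]
        rcases Nat.lt_or_ge (l.val + 1) i.val with hlt | hge
        · rw [hM.1 i l hlt, zero_mul]
        · rcases hge.lt_or_eq with h2 | h2
          · rw [hz l (by omega) hll, mul_zero]
          · exact absurd (Fin.ext (by omega)) hl
  have hlow : ∀ m, ∀ l : Fin (n + 1), l ≠ Fin.last n → n - l.val ≤ m → v l = 0 := by
    intro m
    induction m with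
    | zero => intro l hl hlm; exact absurd (Fin.ext (by simp; omega)) hl
    | succ m ih =>
      intro l hl hlm
      have hln : l.val < n := by
        rcases (Nat.le_of_lt_succ l.isLt).lt_or_eq with h | h
        · exact h
        · exact absurd (Fin.ext (by simpa using h)) hl
      exact hrow ⟨l.val + 1, by omega⟩ l rfl fun p hp hp' => ih p hp' (by simp only at hp; omega)
  refine hv (funext fun l => ?_)
  by_cases hl : l = Fin.last n
  · subst hl
    have h1 := congrFun hMv 0
    rw [Matrix.mulVec, dotProduct, Finset.sum_eq_single (Fin.last n) (fun p _ hp => by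
      rw [hlow n p hp (by omega), mul_zero]) (by simp), Matrix.updateCol_self, Pi.single_eq_same, one_mul] at h1
    exact h1
  · exact hlow n l hl (by omega)

theorem hess_blocks {p q : ℕ} (A : Matrix (Fin p) (Fin p) F) (B : Matrix (Fin p) (Fin q) F)
    (L : Matrix (Fin q) (Fin p) F) (D : Matrix (Fin q) (Fin q) F) (hA : Hess A) (hD : Hess D) {γ : F}
    (hγ : γ ≠ 0) (hL : ∀ x y, L x y = if x.val = 0 ∧ y.val + 1 = p then γ else 0) :
    Hess ((fromBlocks A B L D).submatrix finSumFinEquiv.symm finSumFinEquiv.symm) := by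
  have key : ∀ (x y : Fin p ⊕ Fin q) (P : F → Prop),
      P ((fromBlocks A B L D) x y) → P (((fromBlocks A B L D).submatrix finSumFinEquiv.symm
        finSumFinEquiv.symm) (finSumFinEquiv x) (finSumFinEquiv y)) := fun x y P h => by simpa using h
  refine ⟨fun i j => ?_, fun i j => ?_⟩ <;>
    obtain ⟨x, rfl⟩ := finSumFinEquiv.surjective i <;>
    obtain ⟨y, rfl⟩ := finSumFinEquiv.surjective j <;> intro hij
  · refine key x y (· = 0) ?_
    rcases x with x | x <;> rcases y with y | y <;>
      simp only [finSumFinEquiv_apply_left, finSumFinEquiv_apply_right, Fin.val_castAdd, Fin.val_natAdd] at hij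
    · exact hA.1 x y hij
    · omega
    · rw [fromBlocks_apply₂₁, hL, if_neg (by omega)]
    · exact hD.1 x y (by omega)
  · refine key x y (· ≠ 0) ?_
    rcases x with x | x <;> rcases y with y | y <;>
      simp only [finSumFinEquiv_apply_left, finSumFinEquiv_apply_right, Fin.val_castAdd, Fin.val_natAdd] at hij
    · exact hA.2 x y hij
    · omega
    · rw [fromBlocks_apply₂₁, hL, if_pos (by omega)]; exact hγ
    · exact hD.2 x y (by omega)

end Blocks

end Cfsg.Agent.H31.OreSU
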