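/-
Linking a top block to a frame of the orthogonal complement.
-/
import Cfsg.Agent.H31.OreSU.Frame
import Cfsg.Agent.H31.OreSU.Exists

set_option autoImplicit false
set_option linter.unusedSectionVars false

namespace Cfsg.Agent.H31.OreSU

open Matrix
open Cfsg.Agent.H60.Ore (Hess)

variable {F : Type*} [Field F] [Finite F] (S : UConj F)
variable {ι : Type} [Fintype ι] [DecidableEq ι]

/-- The corner entry. -/
def corner (p : ℕ) (γ : F) {q : ℕ} : Matrix (Fin q) (Fin p) F :=
  Matrix.of fun x y => if x.val = 0 ∧ y.val + 1 = p then γ else 0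

/-- The linked block. -/
def aLink {k0 d1 : ℕ} (a0 : Matrix (Fin k0) (Fin k0) F) (k1 : Matrix (Fin d1) (Fin d1) F)
    (a1 : Matrix (Fin d1) (Fin d1) F) (β s l : F) : Matrix (Fin k0 ⊕ Fin d1) (Fin k0 ⊕ Fin d1) F :=
  fromBlocks (a0 - corner k0 (s * β))
    (Matrix.of fun x y => if x.val = 0 then S.σ l * ∑ q : Fin d1, (if q.val = 0 then k1 q y else 0) else 0)
    (corner k0 (-(l * β))) a1

theorem corner_mul_single {p q r : ℕ} (γ δ : F) (Z : Matrix (Fin q) (Fin p) F)
    (hZ : ∀ x y, Z x y = if x.val = 0 ∧ y.val = 0 then δ else 0) :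
    Z * (corner r γ : Matrix (Fin p) (Fin r) F) = if 0 < p then corner r (δ * γ) else 0 := by
  by_cases hp : 0 < p
  · rw [if_pos hp]
    ext x y
    rw [Matrix.mul_apply, Finset.sum_eq_single ⟨0, hp⟩ (fun z _ hz => by
      rw [hZ, if_neg (fun h => hz (Fin.ext h.2)), zero_mul]) (by simp), hZ]
    simp only [corner, Matrix.of_apply]
    by_cases hx : x.val = 0 <;> simp [hx, mul_ite]
  · rw [if_neg hp]; ext x y; rw [Matrix.mul_apply, Matrix.zero_apply]
    exact Finset.sum_eq_zero fun z _ => absurd z.pos hp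

theorem fr_reindex {α α' β : Type} [Fintype α] [DecidableEq α] [Fintype α'] [DecidableEq α'] [Fintype β]
    [DecidableEq β] {J g : Matrix ι ι F} {E : Matrix ι (Idx α β) F} {μ : β → F} {a b c d e f k h i}
    (hf : Fr S J g E μ a b c d e f k h i) (eα : α' ≃ α) :
    ∃ (E' : Matrix ι (Idx α' β) F),
      Fr S J g E' μ (a.submatrix eα eα) (b.submatrix eα id) (c.submatrix eα eα) (d.submatrix id eα) e
        (f.submatrix id eα) (k.submatrix eα eα) (h.submatrix eα id) (i.submatrix eα eα) := by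
  let ε : Idx α' β ≃ Idx α β := Equiv.sumCongr eα (Equiv.sumCongr (Equiv.refl β) eα)
  refine ⟨E.submatrix id ε, hf.fix, ?_, ?_⟩
  · have h1 : cT S (E.submatrix id ε) = (cT S E).submatrix ε id := rfl
    have h2 : (cT S E).submatrix ε id * J = (cT S E * J).submatrix ε id := by
      ext x y; simp [Matrix.mul_apply]
    rw [h1, h2, ← submatrix_mul _ _ ε id ε Function.bijective_id, hf.gram]
    ext (x | x | x) (y | y | y) <;>
      simp [hypJ, b3, ε, Matrix.one_apply, diagonal_apply]
  · have h1 : (b3 (a.submatrix eα eα) (b.submatrix eα id) (c.submatrix eα eα) (d.submatrix id eα) e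
        (f.submatrix id eα) (k.submatrix eα eα) (h.submatrix eα id) (i.submatrix eα eα)) =
        (b3 a b c d e f k h i).submatrix ε ε := by
      ext (x | x | x) (y | y | y) <;> simp [b3, ε]
    have h2 : g * E.submatrix id ε = (g * E).submatrix id ε := by
      ext x y; simp [Matrix.mul_apply]
    rw [h1, h2, hf.act, submatrix_mul_equiv]

theorem link {J : Matrix ι ι F} (hJh : cT S J = J) {g : Matrix ι ι F} {k0 r : ℕ} (hk0 : 1 ≤ k0)
    {E : Matrix ι (Idx (Fin k0) (Fin r)) F} {μ : Fin r → F} {a0 : Matrix (Fin k0) (Fin k0) F}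
    {b c Md0 f β h i}
    (hf : Fr S J g E μ a0 b c 0 (diagonal Md0) f (corner k0 β) h i)
    {m : ℕ} (K1 : Matrix ι (Fin m) F) (g1 : Matrix (Fin m) (Fin m) F) (hcross : cT S E * J * K1 = 0)
    (hg : g * K1 = K1 * g1) {d1 m1 : ℕ} {E1 : Matrix (Fin m) (Idx (Fin d1) (Fin m1)) F} {μ1 : Fin m1 → F}
    {a1 b1 c1 Md1 f1 k1 h1 i1}
    (hf1 : Fr S (cT S K1 * J * K1) g1 E1 μ1 a1 b1 c1 0 (diagonal Md1) f1 k1 h1 i1)
    (s l : F) (z : Fin r ⊕ Fin m1 → F)
    (hs : s + S.σ s = ∑ x, z x * S.σ (z x) / Sum.elim μ μ1 x) :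
    ∃ (E' : Matrix ι (Idx (Fin (k0 + d1)) (Fin r ⊕ Fin m1)) F) (b' c' d' e' f' k' h' i' : _),
      Fr S J g E' (Sum.elim μ μ1)
        ((aLink S a0 k1 a1 β s l).submatrix finSumFinEquiv.symm finSumFinEquiv.symm) b' c' d' e' f' k' h' i' ∧
      (β ≠ 0 → k' ≠ 0) ∧
      ∀ x, z x = 0 → (∀ p, d' x p = 0) ∧ ∀ y, e' x y = if x = y then Sum.elim Md0 Md1 x else 0 := by
  classical
  obtain ⟨E2, hF⟩ := fr_sum S hJh hf K1 g1 hcross hg hf1
  set μs := Sum.elim μ μ1
  rw [fromBlocks_zero, fromBlocks_diagonal] at hF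
  let o : Fin k0 ⊕ Fin d1 := Sum.inl ⟨0, hk0⟩
  let xm : Matrix (Fin k0 ⊕ Fin d1) (Fin r ⊕ Fin m1) F := Matrix.of fun p q => if p = o then z q else 0
  set y := -(diagonal (fun j => (μs j)⁻¹) * cT S xm)
  have hy : ∀ q p, y q p = -((μs q)⁻¹ * if p = o then S.σ (z q) else 0) := fun q p => by
    simp only [y, Matrix.neg_apply, diagonal_mul, cT_apply, xm, Matrix.of_apply]
    split_ifs <;> simp
  set S0 := ∑ q, z q * S.σ (z q) / μs q
  have hxy : xm * y = Matrix.of fun p p' => if p = o ∧ p' = o then -S0 else 0 := by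
    ext p p'
    simp only [Matrix.mul_apply, hy, Matrix.of_apply]
    by_cases hp : p = o
    · by_cases hp' : p' = o
      · rw [if_pos ⟨hp, hp'⟩, ← Finset.sum_neg_distrib]
        refine Finset.sum_congr rfl fun q _ => ?_
        rw [if_pos hp']; simp only [xm, Matrix.of_apply, if_pos hp]
        rw [div_eq_mul_inv]; ring
      · rw [if_neg fun h => hp' h.2]
        exact Finset.sum_eq_zero fun q _ => by simp [if_neg hp']
    · rw [if_neg fun h => hp h.1]
      exact Finset.sum_eq_zero fun q _ => by simp [xm, if_neg hp]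
  let w00 : Matrix (Fin k0) (Fin k0) F := Matrix.of fun p q => if p.val = 0 ∧ q.val = 0 then s else 0
  let w10 : Matrix (Fin d1) (Fin k0) F := Matrix.of fun p q => if p.val = 0 ∧ q.val = 0 then l else 0
  let W : Matrix (Fin k0 ⊕ Fin d1) (Fin k0 ⊕ Fin d1) F := fromBlocks w00 (-cT S w10) w10 0
  have hW : W + cT S W = -(xm * y) := by
    rw [hxy]
    ext (p | p) (q | q)
    · simp only [W, w00, Matrix.add_apply, cT_apply, fromBlocks_apply₁₁, Matrix.of_apply,
        Matrix.neg_apply, o, Sum.inl.injEq, Fin.ext_iff]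
      by_cases hp : p.val = 0 <;> by_cases hq : q.val = 0 <;> simp [hp, hq, hs]
    · simp [W, w10, cT_apply, o, S.inv]
    · simp [W, w10, cT_apply, o, S.inv]
    · simp [W, cT_apply, o]
  have hX : xm * y + W + cT S (xm * y + W) = xm * y := by
    have hh : cT S (xm * y) = xm * y := by
      have hS0 : S.σ S0 = S0 := by
        simp only [S0, map_sum, map_div₀, map_mul, S.inv, (hF.fix _).2]
        exact Finset.sum_congr rfl fun q _ => by rw [mul_comm]
      rw [hxy]; ext p p'
      simp only [cT_apply, Matrix.of_apply]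
      by_cases h : p = o ∧ p' = o
      · rw [if_pos h, if_pos ⟨h.2, h.1⟩, map_neg, hS0]
      · rw [if_neg h, if_neg fun h' => h ⟨h'.2, h'.1⟩, map_zero]
    rw [cT_add, hh]
    calc xm * y + W + (xm * y + cT S W) = xm * y + xm * y + (W + cT S W) := by abel
      _ = _ := by rw [hW]; abel
  obtain ⟨E3, b3', c3', f3', h3', i3', hF3⟩ := fr_shift S hF xm y rfl _ hX
  obtain ⟨E4, hF4⟩ := fr_reindex S hF3 finSumFinEquiv.symm
  have ha : fromBlocks a0 0 0 a1 + (xm * y - (xm * y + W)) * fromBlocks (corner k0 β) 0 0 k1 =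
      aLink S a0 k1 a1 β s l := by
    rw [show xm * y - (xm * y + W) = -W by abel, Matrix.neg_mul, fromBlocks_multiply]
    have h00 : w00 * (corner k0 β : Matrix (Fin k0) (Fin k0) F) = corner k0 (s * β) := by
      rw [corner_mul_single β s w00 (fun _ _ => rfl), if_pos (by omega : 0 < k0)]
    have h10 : w10 * (corner k0 β : Matrix (Fin k0) (Fin k0) F) = corner k0 (l * β) := by
      rw [corner_mul_single β l w10 (fun _ _ => rfl), if_pos (by omega : 0 < k0)]
    simp only [Matrix.mul_zero, Matrix.zero_mul, add_zero, zero_add, neg_zero, aLink, fromBlocks_neg, fromBlocks_add]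
    congr 1
    · rw [h00, sub_eq_add_neg]
    · rw [Matrix.neg_mul, neg_neg]
      ext x q
      simp only [Matrix.mul_apply, Matrix.of_apply, cT_apply, w10]
      by_cases hx : x.val = 0
      · rw [if_pos hx, Finset.mul_sum]
        exact Finset.sum_congr rfl fun p _ => by by_cases hp : p.val = 0 <;> simp [hp, hx]
      · rw [if_neg hx]
        exact Finset.sum_eq_zero fun p _ => by simp [hx]
    · rw [h10]; ext x q; simp only [Matrix.neg_apply, corner, Matrix.of_apply]; split_ifs <;> simp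
  rw [ha] at hF4
  refine ⟨E4, _, _, _, _, _, _, _, _, hF4, fun hβ h0 => hβ ?_, fun x hx => ?_⟩
  · have := congrFun (congrFun h0 (finSumFinEquiv (Sum.inl ⟨0, hk0⟩)))
      (finSumFinEquiv (Sum.inl ⟨k0 - 1, by omega⟩))
    simp only [submatrix_apply, Equiv.symm_apply_apply, fromBlocks_apply₁₁, corner, Matrix.of_apply,
      Matrix.zero_apply] at this
    rwa [if_pos ⟨trivial, by omega⟩] at this
  have hyx : ∀ p, y x p = 0 := fun p => by rw [hy, hx]; simp
  have hrow : ∀ {γ : Type} (M : Matrix (Fin k0 ⊕ Fin d1) γ F) p, (y * M) x p = 0 := fun M p => by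
    rw [Matrix.mul_apply]; exact Finset.sum_eq_zero fun q _ => by rw [hyx, zero_mul]
  refine ⟨fun p => ?_, fun q => ?_⟩
  · rw [submatrix_apply, id_eq, Matrix.neg_apply, hrow, neg_zero]
  · rw [Matrix.sub_apply, hrow, sub_zero, diagonal_apply]

end Cfsg.Agent.H31.OreSU
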