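/-
Frames with an invertible cyclic block for every isometry.
-/
import Cfsg.Agent.H31.OreSU.Link

set_option autoImplicit false
set_option linter.unusedSectionVars false

namespace Cfsg.Agent.H31.OreSU

open Matrix
open Cfsg.Agent.H60.Ore (Hess comp)

variable {F : Type*} [Field F] [Finite F] (S : UConj F)
variable {ι : Type} [Fintype ι] [DecidableEq ι]

theorem fr_reindex_mid {α β β' : Type} [Fintype α] [DecidableEq α] [Fintype β] [DecidableEq β]
    [Fintype β'] [DecidableEq β'] {J g : Matrix ι ι F} {E : Matrix ι (Idx α β) F} {μ : β → F}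
    {a b c d e f k h i} (hf : Fr S J g E μ a b c d e f k h i) (eβ : β' ≃ β) :
    ∃ (E' : Matrix ι (Idx α β') F),
      Fr S J g E' (μ ∘ eβ) a (b.submatrix id eβ) c (d.submatrix eβ id) (e.submatrix eβ eβ)
        (f.submatrix eβ id) k (h.submatrix id eβ) i := by
  let ε : Idx α β' ≃ Idx α β := Equiv.sumCongr (Equiv.refl α) (Equiv.sumCongr eβ (Equiv.refl α))
  refine ⟨E.submatrix id ε, fun x => hf.fix _, ?_, ?_⟩
  · have h1 : cT S (E.submatrix id ε) = (cT S E).submatrix ε id := rfl
    have h2 : (cT S E).submatrix ε id * J = (cT S E * J).submatrix ε id := by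
      ext x y; simp [Matrix.mul_apply]
    rw [h1, h2, ← submatrix_mul _ _ ε id ε Function.bijective_id, hf.gram]
    ext (x | x | x) (y | y | y) <;> simp [hypJ, b3, ε, Matrix.one_apply, diagonal_apply]
  · have h1 : (b3 a (b.submatrix id eβ) c (d.submatrix eβ id) (e.submatrix eβ eβ)
        (f.submatrix eβ id) k (h.submatrix id eβ) i) = (b3 a b c d e f k h i).submatrix ε ε := by
      ext (x | x | x) (y | y | y) <;> simp [b3, ε]
    have h2 : g * E.submatrix id ε = (g * E).submatrix id ε := by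
      ext x y; simp [Matrix.mul_apply]
    rw [h1, h2, hf.act, submatrix_mul_equiv]

/-- An orthogonal basis. -/
theorem diag_basis : ∀ (n : ℕ) (J : Matrix (Fin n) (Fin n) F), IsUnit J.det → cT S J = J →
    ∃ (E : Matrix (Fin n) (Fin n) F) (μ : Fin n → F), (∀ x, μ x ≠ 0 ∧ S.σ (μ x) = μ x) ∧
      cT S E * J * E = diagonal μ := by
  intro n
  induction n with
  | zero => intro J _ _; exact ⟨0, fun _ => 0, fun x => x.elim0, by ext i; exact i.elim0⟩
  | succ n ih =>
    intro J hJ hJh
    obtain ⟨v, hv⟩ : ∃ v, hf S J v v ≠ 0 := by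
      by_contra hc
      push Not at hc
      rw [hf_polar S J hc] at hJ
      simp at hJ
    let E0 : Matrix (Fin (n + 1)) (Fin 1) F := Matrix.of fun i _ => v i
    have hE0 : cT S E0 * J * E0 = diagonal fun _ => hf S J v v := by
      ext i j
      rw [Subsingleton.elim i j, diagonal_apply_eq, Matrix.mul_assoc]
      simp [hf, dotProduct, Matrix.mulVec, Matrix.mul_apply, cT_apply, E0]
    obtain ⟨m, K1, g1, hTK, hJ1, hJ1h, -, -, hcard, -⟩ :=
      exists_compl S hJ hJh (one_mem (U S J)) E0 _ (by simp [hv]) hE0 1 (by simp)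
    simp only [Fintype.card_fin] at hcard
    obtain rfl : m = n := by omega
    obtain ⟨E1, μ1, hμ1, hE1⟩ := ih _ hJ1 hJ1h
    let e : Fin (m + 1) ≃ Fin 1 ⊕ Fin m := (finCongr (by omega)).trans finSumFinEquiv.symm
    refine ⟨(fromCols E0 (K1 * E1)).submatrix id e, (Sum.elim (fun _ => hf S J v v) μ1) ∘ e,
      fun x => ?_, ?_⟩
    · show Sum.elim (fun _ => hf S J v v) μ1 (e x) ≠ 0 ∧ _
      rcases hex : e x with y | y
      · simpa [hex] using ⟨hv, hf_conj S hJh v v⟩
      · simpa [hex] using hμ1 y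
    · have hc : cT S (fromCols E0 (K1 * E1)) = fromRows (cT S E0) (cT S (K1 * E1)) := by
        ext (x | x) y <;> simp [cT_apply, -cT_mul]
      have hcr : cT S (K1 * E1) * J * E0 = 0 := by
        have := congrArg (cT S) (show cT S E0 * J * (K1 * E1) = 0 by
          rw [← Matrix.mul_assoc, hTK, Matrix.zero_mul])
        simpa only [cT_mul, cT_cT, hJh, cT_zero, Matrix.mul_assoc] using this
      have hkk : cT S (K1 * E1) * J * (K1 * E1) = diagonal μ1 := by
        rw [← hE1]; simp only [cT_mul, Matrix.mul_assoc]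
      have hfull : cT S (fromCols E0 (K1 * E1)) * J * fromCols E0 (K1 * E1) =
          diagonal (Sum.elim (fun _ => hf S J v v) μ1) := by
        rw [hc, fromRows_mul, fromRows_mul_fromCols, hE0, hcr, hkk, ← Matrix.mul_assoc, hTK,
          Matrix.zero_mul, fromBlocks_diagonal]
      show ((cT S (fromCols E0 (K1 * E1))).submatrix e id) * J * _ = _
      rw [show ((cT S (fromCols E0 (K1 * E1))).submatrix e id) * J =
          (cT S (fromCols E0 (K1 * E1)) * J).submatrix e id by ext x y; simp [Matrix.mul_apply],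
        ← submatrix_mul _ _ e id e Function.bijective_id, hfull, submatrix_diagonal_equiv]

/-- A frame with an invertible cyclic block. -/
def Good (J g : Matrix ι ι F) {d m : ℕ} (a k : Matrix (Fin d) (Fin d) F) (Md : Fin m → F) : Prop :=
  ∃ (E : Matrix ι (Idx (Fin d) (Fin m)) F) (μ : Fin m → F)
    (b : Matrix (Fin d) (Fin m) F) (c : Matrix (Fin d) (Fin d) F)
    (f : Matrix (Fin m) (Fin d) F) (h : Matrix (Fin d) (Fin m) F) (i : Matrix (Fin d) (Fin d) F),
    Fr S J g E μ a b c 0 (diagonal Md) f k h i ∧ Hess a ∧ a.det ≠ 0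

/-- Frames for scalars. -/
theorem scalar_frame {J : Matrix ι ι F} (hJ : IsUnit J.det) (hJh : cT S J = J) (l : F)
    (h2 : 2 ≤ Fintype.card ι) :
    ∃ (m : ℕ) (E : Matrix ι (Idx (Fin 1) (Fin m)) F) (μ : Fin m → F), 2 + m = Fintype.card ι ∧
      Fr S J (l • 1) E μ (l • 1) 0 0 0 (diagonal fun _ => l) 0 0 0 (l • 1) := by
  classical
  let en := (Fintype.equivFin ι).symm
  set n := Fintype.card ι
  let J' := J.submatrix en en
  have hJ' : IsUnit J'.det := by simpa [J'] using hJ
  have hJh' : cT S J' = J' := by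
    show (cT S J).submatrix en en = _
    rw [hJh]
  obtain ⟨D, μd, hμd, hD⟩ := diag_basis S n J' hJ' hJh'
  let i0 : Fin n := ⟨0, by omega⟩
  let i1 : Fin n := ⟨1, by omega⟩
  obtain ⟨z, hz⟩ := S.nrm (-(μd i0 / μd i1)) (by rw [map_neg, map_div₀, (hμd i0).2, (hμd i1).2])
  have hz0 : z ≠ 0 := fun e => by
    rw [e, zero_mul] at hz
    exact div_ne_zero (hμd i0).1 (hμd i1).1 (by linear_combination hz)
  let A : Matrix (Fin n) (Fin 2) F := Matrix.of fun x y =>
    if x = i0 then (if y = 0 then 1 else 0) else if x = i1 then (if y = 0 then z else 1) else 0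
  set B := D * A
  set M := cT S B * J' * B
  have hMe : ∀ p q, M p q = ∑ x, S.σ (A x p) * μd x * A x q := fun p q => by
    have : M = cT S A * diagonal μd * A := by rw [← hD]; simp only [M, B, cT_mul, Matrix.mul_assoc]
    rw [this, Matrix.mul_apply]
    exact Finset.sum_congr rfl fun x _ => by rw [Matrix.mul_diagonal, cT_apply]
  have h01 : i0 ≠ i1 := fun e => by simp [i0, i1] at e
  have hsum : ∀ p q, M p q = S.σ (A i0 p) * μd i0 * A i0 q + S.σ (A i1 p) * μd i1 * A i1 q := fun p q => by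
    rw [hMe, ← Finset.sum_pair h01 (f := fun x => S.σ (A x p) * μd x * A x q)]
    refine (Finset.sum_subset (Finset.subset_univ _) fun x _ hx => ?_).symm
    simp only [Finset.mem_insert, Finset.mem_singleton, not_or] at hx
    simp [A, hx.1, hx.2]
  have m00 : M 0 0 = 0 := by
    rw [hsum]; simp [A, h01.symm]
    have := mul_div_cancel₀ (μd i0) (hμd i1).1
    linear_combination (μd i1) * hz - this
  have m01 : M 0 1 = S.σ z * μd i1 := by rw [hsum]; simp [A, h01.symm]
  have hMh : cT S M = M := by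
    show cT S (cT S B * J' * B) = cT S B * J' * B
    simp only [cT_mul, cT_cT, hJh', Matrix.mul_assoc]
  have hMdet : IsUnit M.det := by
    refine isUnit_iff_ne_zero.2 ?_
    rw [det_fin_two, m00, zero_mul, zero_sub, neg_ne_zero]
    refine mul_ne_zero (m01 ▸ mul_ne_zero ((map_ne_zero _).2 hz0) (hμd i1).1) ?_
    rw [← hMh, cT_apply, m01, ne_eq, map_eq_zero]
    exact mul_ne_zero ((map_ne_zero _).2 hz0) (hμd i1).1
  obtain ⟨μp, Ep, -, -, -, -, -, -, -, -, -, hμp, hgp, -⟩ :=
    top_in S (N := 2) (k := 1) (r := 0) le_rfl rfl (by omega) M hMdet hMh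
      (fun p q hp hq => by
        rw [show p = 0 from Fin.ext (by simp; omega), show q = 0 from Fin.ext (by simp; omega)]; exact m00)
      (fun p q _ h1 h2 => absurd h1 (by omega))
      (fun p q hp hq => by
        rw [show p = 0 from Fin.ext hp, show q = 1 from Fin.ext hq, m01]
        exact mul_ne_zero ((map_ne_zero _).2 hz0) (hμd i1).1)
      (Matrix.of fun p q => if p.val = q.val + 1 then 1 else 0) (fun p q _ => rfl)
  let EB : Matrix ι (Idx (Fin 1) (Fin 0)) F := (B * Ep).submatrix en.symm id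
  have hEB : cT S EB * J * EB = hypJ (diagonal μp) := by
    rw [← hgp]
    have : cT S EB * J * EB = cT S (B * Ep) * J' * (B * Ep) := by
      have e1 : J = J'.submatrix en.symm en.symm := by ext; simp [J']
      rw [e1, show cT S EB = (cT S (B * Ep)).submatrix id en.symm from rfl, submatrix_mul_equiv,
        submatrix_mul_equiv, submatrix_id_id]
    rw [this]; simp only [M, cT_mul, Matrix.mul_assoc]
  have hJJ : IsUnit (hypJ (diagonal μp) : Matrix (Idx (Fin 1) (Fin 0)) _ F).det := by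
    refine Matrix.isUnit_det_of_right_inverse (B := b3 0 0 1 0 (diagonal fun x => (μp x)⁻¹) 0 1 0 0) ?_
    simp [hypJ, b3_mul, diagonal_mul_diagonal, fun x => (hμp x).1, b3_one]
  obtain ⟨m, K1, g1, hTK, hJ1, hJ1h, -, -, hcard, -⟩ :=
    exists_compl S hJ hJh (one_mem (U S J)) EB _ hJJ hEB 1 (by rw [Units.val_one, Matrix.one_mul, Matrix.mul_one])
  obtain ⟨E1, μ1, hμ1, hE1⟩ := diag_basis S m _ hJ1 hJ1h
  have hone : ∀ {α β : Type} [Fintype α] [DecidableEq α] [Fintype β] [DecidableEq β],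
      (b3 (l • 1) 0 0 0 (diagonal fun _ => l) 0 0 0 (l • 1) : Matrix (Idx α β) (Idx α β) F) = l • 1 := by
    intros
    ext (x | x | x) (y | y | y) <;> simp [b3, Matrix.one_apply, diagonal_apply, smul_eq_mul]
  have hfp : Fr S J (l • 1) EB μp (l • 1) 0 0 0 (diagonal fun _ => l) 0 0 0 (l • 1) :=
    ⟨hμp, hEB, by rw [hone, Matrix.smul_mul, Matrix.one_mul, Matrix.mul_smul, Matrix.mul_one]⟩
  let E1' : Matrix (Fin m) (Idx (Fin 0) (Fin m)) F :=
    E1.submatrix id (Equiv.trans (Equiv.emptySum (Fin 0) _) (Equiv.sumEmpty (Fin m) (Fin 0)))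
  have hf1 : Fr S (cT S K1 * J * K1) (l • 1) E1' μ1 (l • 1) 0 0 0 (diagonal fun _ => l) 0 0 0 (l • 1) := by
    refine ⟨hμ1, ?_, by rw [hone, Matrix.smul_mul, Matrix.one_mul, Matrix.mul_smul, Matrix.mul_one]⟩
    set ε := Equiv.trans (Equiv.emptySum (Fin 0) _) (Equiv.sumEmpty (Fin m) (Fin 0))
    have h2 : cT S E1' * (cT S K1 * J * K1) * E1' =
        (cT S E1 * (cT S K1 * J * K1) * E1).submatrix ε ε := by
      rw [submatrix_mul _ _ ε id ε Function.bijective_id,
        submatrix_mul _ _ ε id id Function.bijective_id, submatrix_id_id]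
      rfl
    rw [h2, hE1]
    ext (x | x | x) (y | y | y) <;> try exact x.elim0
    all_goals try exact y.elim0
    simp [hypJ, b3, ε, diagonal_apply]
  obtain ⟨E, hF⟩ := fr_sum S hJh hfp K1 (l • 1) hTK
    (by rw [Matrix.smul_mul, Matrix.one_mul, Matrix.mul_smul, Matrix.mul_one]) hf1
  obtain ⟨E', hF'⟩ := fr_reindex S hF (finSumFinEquiv (m := 1) (n := 0)).symm
  obtain ⟨E'', hF''⟩ := fr_reindex_mid S hF' (finSumFinEquiv.symm.trans (Equiv.refl _) :
    Fin (0 + m) ≃ Fin 0 ⊕ Fin m)
  refine ⟨0 + m, E'', (Sum.elim μp μ1) ∘ (finSumFinEquiv.symm.trans (Equiv.refl _) :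
    Fin (0 + m) ≃ Fin 0 ⊕ Fin m), by simp at hcard; omega, ?_⟩
  have e1 : (fromBlocks (l • (1 : Matrix (Fin 1) (Fin 1) F)) 0 0 (l • (1 : Matrix (Fin 0) (Fin 0) F))) = l • 1 := by
    rw [← fromBlocks_one, fromBlocks_smul, smul_zero, smul_zero]
  simp only [e1, fromBlocks_diagonal, fromBlocks_zero] at hF''
  have e2 : ∀ {p q : Type} [DecidableEq p] [DecidableEq q] (e : q ≃ p),
      (l • (1 : Matrix p p F)).submatrix e e = l • 1 := by
    intros; ext x y; simp [Matrix.one_apply]
  simpa [e2, submatrix_zero, submatrix_diagonal_equiv, Function.comp_def, Sum.elim_lam_const_lam_const] using hF''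

theorem det_aLink {k0 d1 : ℕ} {a0 : Matrix (Fin k0) (Fin k0) F} (k1 a1 : Matrix (Fin d1) (Fin d1) F)
    (hk : 1 ≤ k0) (ha0 : Hess a0) (ha1 : a1.det ≠ 0) {β : F} (hβ : β ≠ 0) (l : F) :
    ∃ c, c ≠ 0 ∧ ∀ s, (aLink S a0 k1 a1 β s l).det = (aLink S a0 k1 a1 β 0 l).det + s * c := by
  classical
  obtain ⟨n, rfl⟩ : ∃ n, k0 = n + 1 := ⟨k0 - 1, by omega⟩
  set M := aLink S a0 k1 a1 β 0 l
  let j : Fin (n + 1) ⊕ Fin d1 := Sum.inl (Fin.last n)
  let ev : Fin (n + 1) ⊕ Fin d1 → F := Pi.single (Sum.inl 0) 1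
  refine ⟨-β * (M.updateCol j ev).det, mul_ne_zero (neg_ne_zero.2 hβ) ?_, fun s => ?_⟩
  · have : M.updateCol j ev = fromBlocks (a0.updateCol (Fin.last n) (Pi.single 0 1))
        (M.toBlocks₁₂) 0 a1 := by
      ext (x | x) (y | y)
      · by_cases hy : y = Fin.last n
        · subst hy
          rw [Matrix.updateCol_self, fromBlocks_apply₁₁, Matrix.updateCol_self]
          simp [ev, Pi.single_apply]
        · rw [Matrix.updateCol_ne (by simpa [j] using hy), fromBlocks_apply₁₁, Matrix.updateCol_ne hy]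
          simp [M, aLink, corner]
      · rw [Matrix.updateCol_ne (by simp [j]), fromBlocks_apply₁₂]; rfl
      · rw [fromBlocks_apply₂₁, Matrix.zero_apply]
        by_cases hy : y = Fin.last n
        · subst hy; rw [Matrix.updateCol_self]; simp [ev]
        · rw [Matrix.updateCol_ne (by simpa [j] using hy)]
          simp only [M, aLink, fromBlocks_apply₂₁, corner, Matrix.of_apply]
          rw [if_neg]
          exact fun h => hy (Fin.ext (by simpa using h.2))
      · rw [Matrix.updateCol_ne (by simp [j]), fromBlocks_apply₂₂]; rfl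
    rw [this, det_fromBlocks_zero₂₁]
    exact mul_ne_zero (det_hess_last a0 ha0) ha1
  · have : aLink S a0 k1 a1 β s l = M.updateCol j ((fun p => M p j) + (-(s * β)) • ev) := by
      ext p q
      by_cases hq : q = j
      · subst hq
        rw [Matrix.updateCol_self, Pi.add_apply, Pi.smul_apply]
        rcases p with p | p
        · simp [M, aLink, j, corner, ev, Pi.single_apply]
          by_cases hp : p = 0 <;> simp [hp]
          ring
        · simp [M, aLink, j, ev]
      · rw [Matrix.updateCol_ne hq]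
        rcases p with p | p <;> rcases q with q | q <;> simp [M, aLink, corner]
        intro _ hq'
        exact absurd (congrArg Sum.inl (Fin.ext (by simpa using hq') : q = Fin.last n)) hq
    rw [this, det_updateCol_add, Matrix.det_updateCol_smul, Matrix.updateCol_eq_self]
    ring

theorem hess_aLink {k0 d1 : ℕ} {a0 : Matrix (Fin k0) (Fin k0) F} (k1 : Matrix (Fin d1) (Fin d1) F)
    {a1 : Matrix (Fin d1) (Fin d1) F} (ha0 : Hess a0) (ha1 : Hess a1) {β l : F} (hβ : β ≠ 0) (hl : l ≠ 0)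
    (s : F) : Hess ((aLink S a0 k1 a1 β s l).submatrix finSumFinEquiv.symm finSumFinEquiv.symm) := by
  refine hess_blocks _ _ _ _ ⟨fun x y hxy => ?_, fun x y hxy => ?_⟩ ha1
    (γ := -(l * β)) (neg_ne_zero.2 (mul_ne_zero hl hβ)) fun x y => rfl
  · rw [Matrix.sub_apply, ha0.1 x y hxy, corner, Matrix.of_apply, if_neg (by omega), sub_zero]
  · rw [Matrix.sub_apply, corner, Matrix.of_apply, if_neg (by omega), sub_zero]; exact ha0.2 x y hxy

theorem good_exists : ∀ (n : ℕ) {ι : Type} [Fintype ι] [DecidableEq ι], Fintype.card ι = n →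
    ∀ {J : Matrix ι ι F}, IsUnit J.det → cT S J = J → ∀ {g : GL ι F}, g ∈ U S J →
      ∃ (d m : ℕ) (a k : Matrix (Fin d) (Fin d) F) (Md : Fin m → F),
        Good S J (g : Matrix ι ι F) a k Md ∧ 2 * d + m = n ∧
        (2 ≤ n → 1 ≤ d) ∧ ((∀ l : F, (g : Matrix ι ι F) ≠ l • 1) → k ≠ 0) ∧
        ((∃ l : F, (g : Matrix ι ι F) = l • 1) → ∃ l : F, (g : Matrix ι ι F) = l • 1 ∧
          a = l • 1 ∧ k = 0 ∧ ∀ x, Md x = l) := by
  classical
  intro n
  induction n using Nat.strong_induction_on with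
  | _ n ih =>
    intro ι _ _ hn J hJ hJh g hg
    by_cases hs : ∀ l : F, (g : Matrix ι ι F) ≠ l • 1
    swap
    · push Not at hs
      obtain ⟨l, hl⟩ := hs
      rw [hl]
      rcases Nat.lt_or_ge n 2 with hn2 | hn2
      · let en : Fin n ≃ ι := (Fintype.equivFinOfCardEq hn).symm
        obtain ⟨D, μ, hμ, hD⟩ := diag_basis S n (J.submatrix en en) (by simpa using hJ)
          (by show (cT S J).submatrix en en = _; rw [hJh])
        let ε : Idx (Fin 0) (Fin n) ≃ Fin n := Equiv.trans (Equiv.emptySum (Fin 0) _) (Equiv.sumEmpty (Fin n) (Fin 0))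
        refine ⟨0, n, l • 1, 0, fun _ => l, ⟨D.submatrix en.symm ε, μ, 0, 0, 0, 0, l • 1,
          ⟨hμ, ?_, ?_⟩, ⟨fun i => i.elim0, fun i => i.elim0⟩, by simp⟩, by omega, by omega,
          fun h => absurd rfl (h l), fun _ => ⟨l, rfl, rfl, rfl, fun _ => rfl⟩⟩
        · have e1 : J = (J.submatrix en en).submatrix en.symm en.symm := by ext; simp
          rw [e1, show cT S (D.submatrix en.symm ε) = (cT S D).submatrix ε en.symm from rfl,
            submatrix_mul_equiv, submatrix_mul_equiv, hD]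
          ext (x | x | x) (y | y | y) <;> try exact x.elim0
          all_goals try exact y.elim0
          simp [hypJ, b3, ε, diagonal_apply]
        · have : (b3 (l • 1) 0 0 0 (diagonal fun _ => l) 0 0 0 (l • 1) :
              Matrix (Idx (Fin 0) (Fin n)) (Idx (Fin 0) (Fin n)) F) = l • 1 := by
            ext (x | x | x) (y | y | y) <;> simp [b3, Matrix.one_apply, diagonal_apply, smul_eq_mul]
          rw [this, Matrix.smul_mul, Matrix.one_mul, Matrix.mul_smul, Matrix.mul_one]
      · obtain ⟨m, E, μ, hm, hF⟩ := scalar_frame S hJ hJh l (hn ▸ hn2)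
        refine ⟨1, m, l • 1, 0, fun _ => l, ⟨E, μ, _, _, _, _, _, hF, ⟨fun i j h => absurd h (by omega),
          fun i j h => absurd h (by omega)⟩, ?_⟩, by omega, fun _ => le_rfl, fun h => absurd rfl (h l),
          fun _ => ⟨l, rfl, rfl, rfl, fun _ => rfl⟩⟩
        rw [det_fin_one, Matrix.smul_apply, one_apply_eq, smul_eq_mul, mul_one]
        intro h0
        have := (Matrix.isUnit_iff_isUnit_det _).1 g.isUnit
        rw [hl, h0, zero_smul] at this
        haveI hne : Nonempty ι := Fintype.card_pos_iff.1 (by omega)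
        rw [Matrix.det_zero] at this
        exact not_isUnit_zero this
    obtain ⟨k0, r, hk0, hr, μ, E, G0, hμ, hgr, hgE, a0, b, c, Md, f, β, h, i, rfl, ha0, hβ⟩ :=
      exists_top S n hn hJ hJh hg hs
    have hJJ : IsUnit (hypJ (diagonal μ) : Matrix (Idx (Fin k0) (Fin r)) _ F).det := by
      refine Matrix.isUnit_det_of_right_inverse (B := b3 0 0 1 0 (diagonal fun x => (μ x)⁻¹) 0 1 0 0) ?_
      simp [hypJ, b3_mul, diagonal_mul_diagonal, fun x => (hμ x).1, b3_one]
    obtain ⟨m, K1, g1, hTK, hJ1, hJ1h, hg1, hgK, hcard, -⟩ := exists_compl S hJ hJh hg E _ hJJ hgr _ hgE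
    simp only [Fintype.card_sum, Fintype.card_fin] at hcard
    obtain ⟨d1, m1, a1, k1, Md1, ⟨E1, μ1, b1, c1, f1, h1, i1, hf1, ha1, hd1⟩, hm1, -, -, -⟩ :=
      ih m (by omega) (Fintype.card_fin m) hJ1 hJ1h hg1
    obtain ⟨c0, hc0, hdet⟩ := det_aLink S k1 a1 hk0 ha0 hd1 hβ 1
    obtain ⟨x, hx⟩ := S.ne
    obtain ⟨s, hss, hsd⟩ : ∃ s, s + S.σ s = 0 ∧ (aLink S a0 k1 a1 β s 1).det ≠ 0 := by
      by_cases h0 : (aLink S a0 k1 a1 β 0 1).det = 0
      · refine ⟨x - S.σ x, by rw [map_sub, S.inv]; ring, ?_⟩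
        rw [hdet, h0, zero_add]
        exact mul_ne_zero (sub_ne_zero.2 (Ne.symm hx)) hc0
      · exact ⟨0, by simp, h0⟩
    obtain ⟨E', b', c', d', e', f', k', h', i', hF, hk', hrows⟩ :=
      link S hJh hk0 ⟨hμ, hgr, hgE⟩ K1 (g1 : Matrix (Fin m) (Fin m) F) hTK hgK hf1 s 1 0
        (by rw [hss]; simp)
    obtain ⟨E'', hF'⟩ := fr_reindex_mid S hF (finSumFinEquiv.symm : Fin (r + m1) ≃ _)
    have e1 : d'.submatrix finSumFinEquiv.symm id = (0 : Matrix (Fin (r + m1)) _ F) := by
      ext p q; exact (hrows _ rfl).1 q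
    have e2 : e'.submatrix finSumFinEquiv.symm finSumFinEquiv.symm =
        diagonal ((Sum.elim Md Md1) ∘ finSumFinEquiv.symm) := by
      ext p q
      rw [submatrix_apply, (hrows _ rfl).2, diagonal_apply]
      simp [Equiv.apply_eq_iff_eq]
    rw [e1, e2] at hF'
    refine ⟨k0 + d1, r + m1, _, k', _, ⟨E'', _, _, _, _, _, _, hF',
      hess_aLink S k1 ha0 ha1 hβ one_ne_zero s, ?_⟩, by omega, fun _ => by omega, fun _ => hk' hβ,
      fun ⟨l, hl⟩ => absurd hl (hs l)⟩
    rwa [det_submatrix_equiv_self]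

end Cfsg.Agent.H31.OreSU
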