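/-
Linked frames with first block of determinant one and diagonal middle block.
-/
import Cfsg.Agent.H31.OreSU.Good
import Cfsg.Agent.H31.OreSU.Middle

set_option autoImplicit false
set_option linter.unusedSectionVars false

namespace Cfsg.Agent.H31.OreSU

open Matrix Polynomial
open Cfsg.Agent.H60.Ore (Hess)

variable {F : Type*} [Field F] [Finite F] (S : UConj F)
variable {ι : Type} [Fintype ι] [DecidableEq ι]

theorem det_real {α β : Type} [Fintype α] [DecidableEq α] [Fintype β] [DecidableEq β] [IsEmpty β]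
    {J : Matrix ι ι F} {g : GL ι F} (hg : g ∈ U S J) (hdet : (g : Matrix ι ι F).det = 1)
    {E : Matrix ι (Idx α β) F} {μ : β → F} {a b c d e f k h i}
    (hf : Fr S J (g : Matrix ι ι F) E μ a b c d e f k h i)
    (hcard : Fintype.card (Idx α β) = Fintype.card ι) : S.σ a.det = a.det := by
  by_cases h0 : a.det = 0
  · rw [h0, map_zero]
  obtain ⟨g', hg', eg, hd, -⟩ := fr_transport S hg hf hcard
  have := (det_relation S hf.fix hg' eg (Matrix.nonsingInvUnit a (isUnit_iff_ne_zero.2 h0)) rfl).2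
  simpa [hd, hdet, det_isEmpty] using this

/-- A unitary matrix which is diagonal outside one row is diagonal. -/
theorem mid_diag {β : Type} [Fintype β] [DecidableEq β] {μ : β → F} (hμ : ∀ x, μ x ≠ 0)
    {M : Matrix β β F} (hU : cT S M * diagonal μ * M = diagonal μ) (hdet : M.det = 1) (v : β → F) (i0 : β)
    (hrow : ∀ x, x ≠ i0 → ∀ y, M x y = if x = y then v x else 0) :
    ∃ w : β → F, M = diagonal w ∧ (∀ x, w x * S.σ (w x) = 1) ∧ (∏ x, w x) = 1 ∧
      ∀ x, x ≠ i0 → w x = v x := by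
  have h00 : M i0 i0 ≠ 0 := fun h => by
    rw [Matrix.det_eq_zero_of_column_eq_zero i0 (fun x => ?_)] at hdet
    · exact zero_ne_one hdet
    · by_cases hx : x = i0
      · subst hx; exact h
      · rw [hrow x hx, if_neg hx]
  have hoff : ∀ y, y ≠ i0 → M i0 y = 0 := fun y hy => by
    have h1 := congrFun (congrFun hU i0) y
    rw [Matrix.mul_apply, diagonal_apply_ne _ (Ne.symm hy), Finset.sum_eq_single i0] at h1
    · rw [Matrix.mul_diagonal, cT_apply, mul_eq_zero, mul_eq_zero, map_eq_zero] at h1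
      exact h1.resolve_left fun h => h.elim h00 (hμ i0)
    · intro x _ hx
      rw [Matrix.mul_diagonal, cT_apply, hrow x hx i0, if_neg hx, map_zero, zero_mul, zero_mul]
    · simp
  have hM : M = diagonal fun x => M x x := by
    ext x y
    by_cases hxy : x = y
    · subst hxy; rw [diagonal_apply_eq]
    · rw [diagonal_apply_ne _ hxy]
      by_cases hx : x = i0
      · subst hx; exact hoff y (Ne.symm hxy)
      · rw [hrow x hx, if_neg hxy]
  refine ⟨fun x => M x x, hM, fun x => ?_, ?_, fun x hx => by simp [hrow x hx]⟩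
  · have h1 := congrFun (congrFun hU x) x
    rw [hM, cT_diagonal, diagonal_mul_diagonal, diagonal_mul_diagonal, diagonal_apply_eq,
      diagonal_apply_eq] at h1
    exact mul_left_cancel₀ (hμ x) (by linear_combination h1)
  · rw [← hdet]; conv_rhs => rw [hM, det_diagonal]

theorem link_one {J : Matrix ι ι F} (hJh : cT S J = J) {g : GL ι F} (hg : g ∈ U S J)
    (hdet : (g : Matrix ι ι F).det = 1) {k0 r : ℕ} (hk0 : 1 ≤ k0) (hr : r ≤ 1)
    {E : Matrix ι (Idx (Fin k0) (Fin r)) F} {μ : Fin r → F} {a0 : Matrix (Fin k0) (Fin k0) F}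
    {b c Md0 f β h i}
    (hf : Fr S J (g : Matrix ι ι F) E μ a0 b c 0 (diagonal Md0) f (corner k0 β) h i)
    (ha0 : Hess a0) (hβ : β ≠ 0)
    {m : ℕ} (K1 : Matrix ι (Fin m) F) (g1 : Matrix (Fin m) (Fin m) F) (hcross : cT S E * J * K1 = 0)
    (hgK : (g : Matrix ι ι F) * K1 = K1 * g1) {d1 m1 : ℕ} {a1 k1 : Matrix (Fin d1) (Fin d1) F}
    {Md1 : Fin m1 → F} (hGood : Good S (cT S K1 * J * K1) g1 a1 k1 Md1)
    (hcard : 2 * (k0 + d1) + (r + m1) = Fintype.card ι) (l : F) (hl : l ≠ 0) :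
    ∃ (s : F) (A : Matrix (Fin (k0 + d1)) (Fin (k0 + d1)) F) (w : Fin r ⊕ Fin m1 → F),
      A = (aLink S a0 k1 a1 β s l).submatrix finSumFinEquiv.symm finSumFinEquiv.symm ∧
      A.det = 1 ∧ Hess A ∧ (∀ x, w x * S.σ (w x) = 1) ∧ (∏ x, w x) = 1 ∧
      (r = 1 → ∀ x, w (Sum.inr x) = Md1 x) ∧ ((∀ x, Md1 x = 1) → ∀ x, w x = 1) ∧
      ∀ (π : Fin r ⊕ Fin m1 ≃ Fin r ⊕ Fin m1) (Ef : Fin r ⊕ Fin m1 → F) (δ : F),
        (∀ x, Ef x * S.σ (Ef x) = 1) → (∀ x, w x = Ef x * (Ef (π x))⁻¹) → δ ≠ 0 →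
        δ * (∏ x, Ef x) = S.σ δ → Pairable S A δ → Com S J g := by
  classical
  haveI := Fintype.ofFinite F
  obtain ⟨E1, μ1, b1, c1, f1, h1, i1, hf1, ha1, hd1⟩ := hGood
  obtain ⟨c0, hc0, haff⟩ := det_aLink S k1 a1 hk0 ha0 hd1 hβ l
  set D0 := (aLink S a0 k1 a1 β 0 l).det
  have hfix : ∀ x, Sum.elim μ μ1 x ≠ 0 ∧ S.σ (Sum.elim μ μ1 x) = Sum.elim μ μ1 x := by
    rintro (x | x)
    · exact hf.fix x
    · exact hf1.fix x
  have hcd : Fintype.card (Idx (Fin (k0 + d1)) (Fin r ⊕ Fin m1)) = Fintype.card ι := by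
    simp only [Fintype.card_sum, Fintype.card_fin]; omega
  obtain ⟨s, z, hs, hdA, hzr⟩ : ∃ (s : F) (z : Fin r ⊕ Fin m1 → F),
      s + S.σ s = ∑ x, z x * S.σ (z x) / Sum.elim μ μ1 x ∧ (aLink S a0 k1 a1 β s l).det = 1 ∧
      (IsEmpty (Fin r ⊕ Fin m1) ∨
        ∃ i0, (r = 1 → ∀ x, Sum.inr x ≠ i0) ∧ ∀ x, x ≠ i0 → z x = 0) := by
    rcases isEmpty_or_nonempty (Fin r ⊕ Fin m1) with hb | ⟨⟨x0⟩⟩
    · obtain ⟨u, hu⟩ := S.ne
      set x1 := u - S.σ u
      have hx1 : x1 ≠ 0 := sub_ne_zero.2 (Ne.symm hu)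
      have hx1s : S.σ x1 = -x1 := by simp [x1, S.inv]
      let φ : {x : F // S.σ x = x} → {x : F // S.σ x = x} := fun t => ⟨D0 + t.1 * x1 * c0, by
        obtain ⟨E', b', c', d', e', f', k', h', i', hF, -, -⟩ :=
          link S hJh hk0 hf K1 g1 hcross hgK hf1 (t.1 * x1) l 0 (by simp [t.2, hx1s])
        have h2 := det_real S hg hdet hF hcd
        rwa [det_submatrix_equiv_self, haff] at h2⟩
      have hφ : Function.Injective φ := fun t t' h => by
        have h2 := congrArg Subtype.val h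
        simp only [φ] at h2
        exact Subtype.ext (mul_right_cancel₀ hx1 (mul_right_cancel₀ hc0 (add_left_cancel h2)))
      obtain ⟨t, ht⟩ := (Finite.injective_iff_surjective.1 hφ) ⟨1, map_one _⟩
      refine ⟨t.1 * x1, 0, by simp [t.2, hx1s], ?_, Or.inl hb⟩
      rw [haff]; exact congrArg Subtype.val ht
    · let i1 : Fin r ⊕ Fin m1 := if h : r = 1 then Sum.inl ⟨0, by omega⟩ else x0
      set s := (1 - D0) / c0
      obtain ⟨u, hu⟩ := S.nrm (Sum.elim μ μ1 i1 * (s + S.σ s))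
        (by rw [map_mul, map_add, S.inv, (hfix i1).2, add_comm (S.σ s)])
      refine ⟨s, Pi.single i1 u, ?_, ?_, Or.inr ⟨i1, fun hr1 x => by simp [i1, hr1],
        fun x hx => Pi.single_eq_of_ne hx _⟩⟩
      · rw [Finset.sum_eq_single i1 (fun x _ hx => by simp [Pi.single_eq_of_ne hx]) (by simp),
          Pi.single_eq_same, hu, mul_div_cancel_left₀ _ (hfix i1).1]
      · rw [haff, div_mul_cancel₀ _ hc0]; ring
  obtain ⟨E', b', c', d', e', f', k', h', i', hF, -, hrows⟩ :=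
    link S hJh hk0 hf K1 g1 hcross hgK hf1 s l z hs
  set A := (aLink S a0 k1 a1 β s l).submatrix finSumFinEquiv.symm finSumFinEquiv.symm
  have hA : A.det = 1 := by rw [det_submatrix_equiv_self, hdA]
  let D : GL (Fin (k0 + d1)) F := Matrix.nonsingInvUnit A (isUnit_iff_ne_zero.2 (by rw [hA]; exact one_ne_zero))
  obtain ⟨g', hg', eg, hd, hback⟩ := fr_transport S hg hF hcd
  obtain ⟨hMU, hMdet⟩ := det_relation S hfix hg' eg D rfl
  set M := e' - d' * (↑D⁻¹ : Matrix (Fin (k0 + d1)) (Fin (k0 + d1)) F) * b' with hMdef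
  rw [hd, hdet, hA, map_one, one_mul, one_mul] at hMdet
  obtain ⟨w, hMw, hw, hwp, hwr, hw1⟩ : ∃ w : Fin r ⊕ Fin m1 → F, M = diagonal w ∧
      (∀ x, w x * S.σ (w x) = 1) ∧ (∏ x, w x) = 1 ∧
      (r = 1 → ∀ x, w (Sum.inr x) = Md1 x) ∧ ((∀ x, Md1 x = 1) → ∀ x, w x = 1) := by
    rcases hzr with hb | ⟨i0, hi0, hz⟩
    · exact ⟨fun _ => 1, by ext x; exact (hb.false x).elim, fun x => (hb.false x).elim,
        Finset.prod_eq_one fun x _ => rfl, fun _ x => (hb.false (Sum.inr x)).elim,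
        fun _ x => rfl⟩
    obtain ⟨w, hMw, hw, hwp, hwv⟩ := mid_diag S (fun x => (hfix x).1) hMU hMdet.symm
      (Sum.elim Md0 Md1) i0 fun x hx y => by
        rw [hMdef, Matrix.sub_apply, (hrows x (hz x hx)).2 y, Matrix.mul_assoc, Matrix.mul_apply]
        simp [(hrows x (hz x hx)).1]
    refine ⟨w, hMw, hw, hwp, fun hr1 x => hwv _ (hi0 hr1 x), fun h1 x => ?_⟩
    have hrest : ∀ x, x ≠ i0 → w x = 1 := fun x hx => by
      rw [hwv x hx]
      rcases x with y | y
      · exfalso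
        have hr1 : r = 1 := by have := y.isLt; omega
        rcases i0 with y' | y'
        · exact hx (congrArg Sum.inl (Fin.ext (by omega)))
        · exact hi0 hr1 y' rfl
      · exact h1 y
    by_cases hx : x = i0
    · subst hx
      rw [← hwp, Finset.prod_eq_single x (fun y _ hy => hrest y hy) (by simp)]
    · exact hrest x hx
  refine ⟨s, A, w, rfl, hA, hess_aLink S k1 ha0 ha1 hβ hl s, hw, hwp, hwr, hw1,
    fun π Ef δ hE hwE hδ0 hδ hP => hback ?_⟩
  exact com_of_pair S _ (fun x => (hfix x).1) (fun x => (hfix x).2) hg' eg D rfl π Ef hE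
    (by rw [← hMdef, hMw]; exact congrArg diagonal (funext hwE)) δ hδ0 hδ hP

end Cfsg.Agent.H31.OreSU
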