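/-
Choice of the piece; an invariant totally isotropic plane in the exceptional case.
-/
import Cfsg.Agent.H31.OreSU.LinkOne

set_option autoImplicit false
set_option linter.unusedSectionVars false

namespace Cfsg.Agent.H31.OreSU

open Matrix Polynomial
open Cfsg.Agent.H60.Ore (Hess)

variable {F : Type*} [Field F] [Finite F] (S : UConj F)
variable {ι : Type} [Fintype ι] [DecidableEq ι]

theorem piece_compl {J : Matrix ι ι F} (hJ : IsUnit J.det) (hJh : cT S J = J) {g : GL ι F}
    (hg : g ∈ U S J) {v : ι → F} {P : F[X]} (hv : IsPiece S J g v P) (hdeg : 1 ≤ P.natDegree) :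
    ∃ (m : ℕ) (K1 : Matrix ι (Fin m) F) (g1 : GL (Fin m) F),
      IsUnit (cT S K1 * J * K1).det ∧ (g : Matrix ι ι F) * K1 = K1 * (g1 : Matrix (Fin m) (Fin m) F) ∧
        P.natDegree + m = Fintype.card ι ∧
        (∀ (p : F[X]) (x : Fin m → F), hf S J (aeval (g : Matrix ι ι F) p *ᵥ v) (K1 *ᵥ x) = 0) ∧
        ∀ M : Matrix ι ι F, (∀ p : F[X], M *ᵥ (aeval (g : Matrix ι ι F) p *ᵥ v) = 0) → M * K1 = 0 → M = 0 := by
  classical
  set G : Matrix ι ι F := (g : Matrix ι ι F)
  set N := P.natDegree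
  have hP1 : P ≠ 1 := fun h => by simp [N, h] at hdeg
  let Ev : Matrix ι (Fin N) F := Matrix.of fun x i => (aeval G (X ^ i.val : F[X]) *ᵥ v) x
  let pol : (Fin N → F) → F[X] := fun c => ∑ i : Fin N, C (c i) * X ^ i.val
  have hpol : ∀ c, Ev *ᵥ c = aeval G (pol c) *ᵥ v := fun c => by
    funext x
    show ∑ i : Fin N, (aeval G (X ^ i.val : F[X]) *ᵥ v) x * c i = _
    rw [show pol c = ∑ i : Fin N, C (c i) * X ^ i.val from rfl, map_sum, Matrix.sum_mulVec,
      Finset.sum_apply]
    refine Finset.sum_congr rfl fun i _ => ?_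
    rw [map_mul (aeval G) (C (c i)), aeval_C, ← Algebra.smul_def, Matrix.smul_mulVec, Pi.smul_apply,
      smul_eq_mul, mul_comm]
  let cf : F[X] → Fin N → F := fun p i => (p %ₘ P).coeff i.val
  have hcf : ∀ p, Ev *ᵥ cf p = aeval G p *ᵥ v := fun p => by
    have h1 : pol (cf p) = p %ₘ P := by
      ext k
      simp only [pol, finsetSum_coeff, coeff_C_mul_X_pow]
      by_cases hk : k < N
      · rw [Finset.sum_eq_single (⟨k, hk⟩ : Fin N) (fun j _ hj => if_neg fun h => hj (Fin.ext h.symm))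
          (by simp), if_pos rfl]
      · rw [coeff_eq_zero_of_natDegree_lt (lt_of_lt_of_le (natDegree_modByMonic_lt p hv.monic hP1) (not_lt.1 hk))]
        exact Finset.sum_eq_zero fun j _ => if_neg fun (h : k = j.val) => hk (h ▸ j.isLt)
    rw [hpol, h1]
    conv_rhs => rw [← modByMonic_add_div p P, map_add, Matrix.add_mulVec, mul_comm P, map_mul,
      ← Matrix.mulVec_mulVec, hv.zero, Matrix.mulVec_zero, add_zero]
  let G0 : Matrix (Fin N) (Fin N) F := Matrix.of fun i j => cf (X ^ (j.val + 1)) i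
  have hgE : G * Ev = Ev * G0 := by
    ext x j
    have h1 := congrFun (hcf (X ^ (j.val + 1))) x
    rw [show (Ev * G0) x j = (Ev *ᵥ cf (X ^ (j.val + 1))) x by
      simp [Matrix.mul_apply, Matrix.mulVec, dotProduct, G0], h1, pow_succ', map_mul, aeval_X,
      ← Matrix.mulVec_mulVec]
    simp [Matrix.mul_apply, Matrix.mulVec, dotProduct, Ev]
  set K := cT S Ev * J * Ev
  have hK : IsUnit K.det := by
    refine isUnit_iff_ne_zero.2 fun h0 => ?_
    obtain ⟨c, hc, hKc⟩ := Matrix.exists_mulVec_eq_zero_iff.2 h0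
    refine hc (funext fun i => ?_)
    have hdiv := hv.nondeg (pol c) fun q => by
      rw [← hpol, ← hcf, hf_pull]
      show (fun i => S.σ (cf q i)) ⬝ᵥ (K *ᵥ c) = 0
      rw [hKc, dotProduct_zero]
    have hp0 : pol c = 0 := by
      refine eq_zero_of_dvd_of_degree_lt hdiv ?_
      rw [degree_eq_natDegree hv.monic.ne_zero]
      exact degree_sum_fin_lt c
    have := congrArg (fun p => p.coeff i.val) hp0
    simpa [pol, finsetSum_coeff, coeff_C_mul, coeff_X_pow, Fin.val_inj] using this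
  obtain ⟨m, K1, g1, hTK, hJ1, -, -, hgK, hcard, Q, hBQ, -⟩ := exists_compl S hJ hJh hg Ev K hK rfl G0 hgE
  simp only [Fintype.card_fin] at hcard
  refine ⟨m, K1, g1, hJ1, hgK, hcard, fun p x => ?_, fun M hM hMK => ?_⟩
  · rw [← hcf, ← hf_conj S hJh]
    have h1 : hf S J (K1 *ᵥ x) (Ev *ᵥ cf p) = 0 := by
      have h3 : (fun i => S.σ ((Ev *ᵥ cf p) i)) = Matrix.vecMul (fun i => S.σ (cf p i)) (cT S Ev) := by
        funext i; simp [Matrix.mulVec, Matrix.vecMul, dotProduct, cT_apply, map_sum, mul_comm]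
      show (fun i => S.σ ((Ev *ᵥ cf p) i)) ⬝ᵥ (J *ᵥ (K1 *ᵥ x)) = 0
      rw [h3, ← Matrix.dotProduct_mulVec, Matrix.mulVec_mulVec, Matrix.mulVec_mulVec, hTK,
        Matrix.zero_mulVec, dotProduct_zero]
    rw [h1, map_zero]
  · have hME : M * Ev = 0 := by
      ext x j
      simpa [Matrix.mul_apply, Matrix.mulVec, dotProduct, Ev] using congrFun (hM (X ^ j.val)) x
    calc M = M * (fromCols Ev K1 * Q) := by rw [hBQ, Matrix.mul_one]
      _ = 0 := by rw [← Matrix.mul_assoc, mul_fromCols, hME, hMK, fromCols_zero, Matrix.zero_mul]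

omit [Finite F] in
theorem det_of_nilpotent {n : ℕ} {G : Matrix ι ι F} {l : F} (h : (G - l • 1) ^ n = 0) :
    G.det = l ^ Fintype.card ι := by
  have h1 : (-(G - l • 1)).charpoly = X ^ Fintype.card ι :=
    sub_eq_zero.1 ((Matrix.isNilpotent_charpoly_sub_pow_of_isNilpotent
      (M := -(G - l • 1)) ⟨n, by rw [neg_pow, h, mul_zero]⟩).eq_zero)
  have h2 := congrArg (fun p => p.eval l) h1
  simp only [Matrix.eval_charpoly, eval_pow, eval_X] at h2
  rw [← h2]
  congr 1
  rw [Matrix.scalar_apply, ← Matrix.smul_one_eq_diagonal]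
  abel

theorem best_piece {J : Matrix ι ι F} (hJ : IsUnit J.det) (hJh : cT S J = J) {g : GL ι F}
    (hg : g ∈ U S J) (hns : ∀ l : F, (g : Matrix ι ι F) ≠ l • 1) :
    ∃ (v : ι → F) (P : F[X]), IsPiece S J g v P ∧ 2 ≤ P.natDegree ∧ P.natDegree ≤ Fintype.card ι ∧
      (Odd P.natDegree → P.natDegree + 1 = Fintype.card ι →
        ∃ (l : F) (u : ι → F), l * S.σ l = 1 ∧ (g : Matrix ι ι F) *ᵥ u = l • u ∧ hf S J u u ≠ 0 ∧
          (∀ p : F[X], hf S J (aeval (g : Matrix ι ι F) p *ᵥ v) u = 0) ∧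
          P = (X - C l) ^ P.natDegree ∧ ((g : Matrix ι ι F) - l • 1) ^ P.natDegree = 0) := by
  classical
  set G : Matrix ι ι F := (g : Matrix ι ι F)
  obtain ⟨v, P, hv, h2, hodd⟩ := exists_piece_two S _ rfl hJ hJh hg hns
  obtain ⟨m, K1, g1, hJ1, hgK, hcard, hcross, hspan⟩ := piece_compl S hJ hJh hg hv (by omega)
  by_cases hc : ¬(Odd P.natDegree ∧ P.natDegree + 1 = Fintype.card ι)
  · exact ⟨v, P, hv, h2, by omega, fun h h' => absurd ⟨h, h'⟩ hc⟩
  push Not at hc
  obtain ⟨ho, hn⟩ := hc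
  obtain rfl : m = 1 := by omega
  obtain ⟨π, hπ⟩ := hodd ho
  let e1 : Fin 1 → F := fun _ => 1
  set u := K1 *ᵥ e1
  set l := (g1 : Matrix (Fin 1) (Fin 1) F) 0 0
  have hg1l : (g1 : Matrix (Fin 1) (Fin 1) F) = l • 1 := by
    ext i j; rw [Subsingleton.elim i 0, Subsingleton.elim j 0]; simp [l]
  have hu : G *ᵥ u = l • u := by
    rw [Matrix.mulVec_mulVec, hgK, ← Matrix.mulVec_mulVec, hg1l, Matrix.smul_mulVec, Matrix.one_mulVec,
      Matrix.mulVec_smul]
  have huu : hf S J u u ≠ 0 := by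
    rw [hf_pull]
    have hdet : (cT S K1 * J * K1).det ≠ 0 := hJ1.ne_zero
    rw [Matrix.det_unique] at hdet
    simpa [hf, dotProduct, Matrix.mulVec, e1] using hdet
  have hl : l * S.σ l = 1 := by
    have h1 : hf S J (G *ᵥ u) (G *ᵥ u) = hf S J u u := by
      rw [hf_mulVec_right, hf_mulVec_left, show cT S G * J * G = J from hg]
    rw [hu, hf_smul_left, hf_smul_right, ← mul_assoc] at h1
    exact mul_right_cancel₀ huu (by rw [h1, one_mul])
  by_cases hPl : P.eval l ≠ 0
  · have hp := piece_add S hJh hg hv hπ hu huu (fun p => hcross p e1) hPl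
    have hd : (P * (X - C l)).natDegree = P.natDegree + 1 := by
      rw [hv.monic.natDegree_mul (monic_X_sub_C l), natDegree_X_sub_C]
    refine ⟨_, _, hp, by omega, by omega, fun _ h' => ?_⟩
    omega
  rw [not_not] at hPl
  have hPpow : P = (X - C l) ^ P.natDegree := by
    obtain ⟨R, hR, hnd⟩ := exists_eq_pow_rootMultiplicity_mul_and_not_dvd P hv.monic.ne_zero l
    have hRu : IsUnit R := by
      by_contra hu'
      obtain ⟨x, hx, hxR⟩ := WfDvdMonoid.exists_irreducible_factor hu' fun h => by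
        rw [h, mul_zero] at hR; exact hv.monic.ne_zero hR
      have h1 : Associated π (X - C l) :=
        (hπ _ (prime_X_sub_C l) (dvd_iff_isRoot.2 hPl)).elim id id
      have h2 : Associated π x := (hπ x hx.prime (hR ▸ dvd_mul_of_dvd_right hxR _)).elim id id
      exact hnd ((h1.symm.trans h2).dvd.trans hxR)
    obtain ⟨c, -, rfl⟩ := Polynomial.isUnit_iff.1 hRu
    have hc1 := congrArg leadingCoeff hR
    rw [hv.monic.leadingCoeff, leadingCoeff_mul, ((monic_X_sub_C l).pow _).leadingCoeff, one_mul, leadingCoeff_C] at hc1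
    rw [← hc1, map_one, mul_one] at hR
    conv_lhs => rw [hR]
    congr 1
    conv_rhs => rw [hR, natDegree_pow, natDegree_X_sub_C, mul_one]
  refine ⟨v, P, hv, h2, by omega, fun _ _ => ⟨l, u, hl, hu, huu, fun p => hcross p e1, hPpow, ?_⟩⟩
  have hae : aeval G P = (G - l • 1) ^ P.natDegree := by
    conv_lhs => rw [hPpow]
    rw [map_pow, map_sub, aeval_X, aeval_C, Matrix.algebraMap_eq_diagonal, Matrix.smul_one_eq_diagonal]
    rfl
  rw [← hae]
  refine hspan _ (fun p => ?_) ?_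
  · rw [Matrix.mulVec_mulVec, ← map_mul, mul_comm, map_mul, ← Matrix.mulVec_mulVec, hv.zero, Matrix.mulVec_zero]
  · rw [H60.Ore.Sim.aeval_intertwine hgK, hPpow, map_pow, map_sub, aeval_X, aeval_C,
      Matrix.algebraMap_eq_diagonal, hg1l, Matrix.smul_one_eq_diagonal]
    simp [show P.natDegree ≠ 0 by omega, Pi.algebraMap_def]

/-- The frame on an invariant totally isotropic plane. -/
theorem com_plane {J : Matrix ι ι F} (hJ : IsUnit J.det) (hJh : cT S J = J) {g : GL ι F}
    (hg : g ∈ U S J) (hn : Fintype.card ι = 4) {v u : ι → F} {l : F} (hl : l * S.σ l = 1)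
    (hl2 : l * l = 1) (hv : IsPiece S J g v ((X - C l) ^ 3)) (hu : (g : Matrix ι ι F) *ᵥ u = l • u)
    (huu : hf S J u u ≠ 0) (hvu : ∀ p : F[X], hf S J (aeval (g : Matrix ι ι F) p *ᵥ v) u = 0)
    (hP : ∀ a : Matrix (Fin 2) (Fin 2) F, Hess a → a.det = 1 → Pairable S a 1) : Com S J g := by
  classical
  haveI := Fintype.ofFinite F
  set G : Matrix ι ι F := (g : Matrix ι ι F)
  set z1 := aeval G (X - C l) *ᵥ v
  set z2 := aeval G ((X - C l) ^ 2) *ᵥ v
  have hN : ∀ x : ι → F, aeval G (X - C l) *ᵥ x = G *ᵥ x - l • x := fun x => by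
    rw [map_sub, aeval_X, aeval_C, Matrix.sub_mulVec, Algebra.algebraMap_eq_smul_one, Matrix.smul_mulVec,
      Matrix.one_mulVec]
  have hg1 : G *ᵥ z1 = l • z1 + z2 := by
    have := hN z1
    rw [Matrix.mulVec_mulVec, ← map_mul, ← pow_two] at this
    rw [show z2 = G *ᵥ z1 - l • z1 from this, add_sub_cancel]
  have hg2 : G *ᵥ z2 = l • z2 := by
    have := hN z2
    rw [Matrix.mulVec_mulVec, ← map_mul, ← pow_succ', hv.zero] at this
    exact sub_eq_zero.1 this.symm
  have hgv : G *ᵥ v = l • v + z1 := by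
    rw [show z1 = G *ᵥ v - l • v from hN v, add_sub_cancel]
  have hiso : ∀ x y : ι → F, hf S J (G *ᵥ x) (G *ᵥ y) = hf S J x y := fun x y => by
    rw [hf_mulVec_right, hf_mulVec_left, show cT S G * J * G = J from hg]
  have hl0 : l ≠ 0 := left_ne_zero_of_mul_eq_one hl
  have h22 : hf S J z2 z2 = 0 := by
    have := hiso z2 z1
    rw [hg2, hg1, hf_smul_left, hf_add_right, hf_smul_right, mul_add, ← mul_assoc, hl, one_mul,
      add_eq_left, mul_eq_zero] at this
    exact this.resolve_left hl0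
  have h21 : hf S J z2 z1 = 0 := by
    have := hiso z2 v
    rw [hg2, hgv, hf_smul_left, hf_add_right, hf_smul_right, mul_add, ← mul_assoc, hl, one_mul,
      add_eq_left, mul_eq_zero] at this
    exact this.resolve_left hl0
  have h12 : hf S J z1 z2 = 0 := by rw [← hf_conj S hJh, h21, map_zero]
  obtain ⟨a, ha⟩ := S.nrm (-(hf S J z1 z1) / hf S J u u)
    (by rw [map_div₀, map_neg, hf_conj S hJh, hf_conj S hJh])
  set v1 := z1 + a • u
  have h1u : hf S J z1 u = 0 := hvu _
  have h2u : hf S J z2 u = 0 := hvu _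
  have hu1 : hf S J u z1 = 0 := by rw [← hf_conj S hJh, h1u, map_zero]
  have hu2 : hf S J u z2 = 0 := by rw [← hf_conj S hJh, h2u, map_zero]
  have hA11 : hf S J v1 v1 = 0 := by
    simp only [v1, hf_add_left, hf_add_right, hf_smul_left, hf_smul_right, h1u, hu1]
    field_simp at ha
    linear_combination ha
  have hA12 : hf S J v1 z2 = 0 := by
    simp only [v1, hf_add_left, hf_smul_left, h12, hu2]; ring
  have hA21 : hf S J z2 v1 = 0 := by rw [← hf_conj S hJh, hA12, map_zero]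
  have hgv1 : G *ᵥ v1 = l • v1 + z2 := by
    simp only [v1, Matrix.mulVec_add, Matrix.mulVec_smul, hg1, hu]; module
  let A : Matrix ι (Fin 2) F := Matrix.of fun x i => (![v1, z2] i) x
  let am : Matrix (Fin 2) (Fin 2) F := !![l, 0; 1, l]
  have hAA : cT S A * J * A = 0 := by
    ext i j
    have h1 : (cT S A * J * A) i j = hf S J (![v1, z2] j) (![v1, z2] i) := by
      rw [Matrix.mul_assoc]
      simp [hf, dotProduct, Matrix.mulVec, Matrix.mul_apply, cT_apply, A]
    rw [h1]
    fin_cases i <;> fin_cases j <;> simp [hA11, hA12, hA21, h22]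
  have hgA : G * A = A * am := by
    ext x j
    have h1 : (G * A) x j = (G *ᵥ ![v1, z2] j) x := by simp [Matrix.mul_apply, Matrix.mulVec, dotProduct, A]
    rw [h1, Matrix.mul_apply, Fin.sum_univ_two]
    fin_cases j <;> simp [A, am, hgv1, hg2, mul_comm]
  have hz2 : z2 ≠ 0 := fun h => by
    have h1 : ((X - C l) ^ 3 : F[X]) ∣ (X - C l) ^ 2 :=
      hv.nondeg _ fun q => by rw [show aeval G ((X - C l) ^ 2) *ᵥ v = 0 from h, hf_zero_left]
    have := natDegree_le_of_dvd h1 (pow_ne_zero _ (X_sub_C_ne_zero l))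
    simp at this
  have hinj : Function.Injective A.mulVec := by
    refine (injective_iff_map_eq_zero A.mulVecLin).2 fun c hc => ?_
    have hc' : c 0 • v1 + c 1 • z2 = 0 := by
      funext x
      have := congrFun hc x
      simpa [Matrix.mulVec, dotProduct, A, Fin.sum_univ_two, mul_comm] using this
    have h3 := congrArg (fun w => G *ᵥ w - l • w) hc'
    simp only [Matrix.mulVec_add, Matrix.mulVec_smul, hgv1, hg2, Matrix.mulVec_zero, smul_zero, sub_zero] at h3
    have h4 : c 0 • z2 = 0 := by rw [← h3]; module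
    have h5 : c 0 = 0 := (smul_eq_zero.1 h4).resolve_right hz2
    rw [h5, zero_smul, zero_add] at hc'
    funext i
    fin_cases i
    · exact h5
    · exact (smul_eq_zero.1 hc').resolve_right hz2
  obtain ⟨L, hL⟩ : ∃ L : Matrix (Fin 2) ι F, L * A = 1 := by
    obtain ⟨φ, hφ⟩ := LinearMap.exists_leftInverse_of_injective A.mulVecLin (LinearMap.ker_eq_bot.2 hinj)
    refine ⟨LinearMap.toMatrix' φ, ?_⟩
    have h := congrArg LinearMap.toMatrix' hφ
    rwa [LinearMap.toMatrix'_comp, LinearMap.toMatrix'_id,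
      show LinearMap.toMatrix' A.mulVecLin = A from LinearMap.toMatrix'_toLin' A] at h
  let C0 : Matrix ι (Fin 2) F := J⁻¹ * cT S L
  have hC0 : cT S A * J * C0 = 1 := by
    simp only [C0, Matrix.mul_assoc]
    rw [← Matrix.mul_assoc J, Matrix.mul_nonsing_inv _ hJ, Matrix.one_mul, ← cT_mul, hL, cT_one]
  obtain ⟨Xc, hXc⟩ := exists_half S (cT S C0 * J * C0) (by simp only [cT_mul, cT_cT, hJh, Matrix.mul_assoc])
  set C1 := C0 - A * Xc
  have hAC : cT S A * J * C1 = 1 := by
    rw [Matrix.mul_sub, hC0, ← Matrix.mul_assoc, hAA, Matrix.zero_mul, sub_zero]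
  have hCA : cT S C1 * J * A = 1 := by
    have := congrArg (cT S) hAC
    simpa only [cT_mul, cT_cT, hJh, cT_one, Matrix.mul_assoc] using this
  have hC0A : cT S C0 * J * A = 1 := by
    have := congrArg (cT S) hC0
    simpa only [cT_mul, cT_cT, hJh, cT_one, Matrix.mul_assoc] using this
  have hCC : cT S C1 * J * C1 = 0 := by
    calc cT S C1 * J * C1 = cT S C0 * J * C0 - cT S C0 * J * A * Xc - cT S Xc * (cT S A * J * C0) +
          cT S Xc * (cT S A * J * A) * Xc := by
            simp only [C1, cT_sub, cT_mul, Matrix.mul_sub, Matrix.sub_mul, Matrix.mul_assoc]; abel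
      _ = 0 := by
          rw [hC0A, hC0, hAA, Matrix.one_mul, Matrix.mul_one, Matrix.mul_zero, Matrix.zero_mul, add_zero,
            ← hXc]; abel
  let μ : Fin 0 → F := fun x => x.elim0
  let E : Matrix ι (Idx (Fin 2) (Fin 0)) F := cols3 A 0 C1
  have hgram : cT S E * J * E = hypJ (diagonal μ) := by
    simp only [E, cols3_gram, hAA, hAC, hCA, hCC, cT_zero, Matrix.zero_mul, Matrix.mul_zero, hypJ]
    rw [b3_inj]
    exact ⟨rfl, rfl, rfl, rfl, Subsingleton.elim _ _, rfl, rfl, rfl, rfl⟩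
  set Q : Matrix (Idx (Fin 2) (Fin 0)) ι F := hypJ (diagonal fun j => (μ j)⁻¹) * (cT S E * J)
  have hQE : Q * E = 1 := (Matrix.mul_assoc _ _ _).trans ((congrArg _ hgram).trans (by
    simp only [hypJ, b3_mul]
    rw [← b3_one, b3_inj]
    simp [Subsingleton.elim _ (1 : Matrix (Fin 0) (Fin 0) F)]))
  have hEQ : E * Q = 1 :=
    (Matrix.mul_eq_one_comm_of_equiv (Fintype.equivOfCardEq (by simp [hn]))).1 hQE
  obtain ⟨a', b, c, d, e, f, k, h, i, hG0⟩ := exists_b3 (Q * G * E)
  have hact : G * E = E * b3 a' b c d e f k h i := by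
    rw [← hG0, ← Matrix.mul_assoc, ← Matrix.mul_assoc, hEQ, Matrix.one_mul]
  obtain ⟨rfl, rfl⟩ : a' = am ∧ d = 0 := by
    refine ⟨?_, Subsingleton.elim _ _⟩
    have h1 : Q * (G * A) = Q * A * am := by rw [hgA, Matrix.mul_assoc]
    have h2 : Q * A = fromRows (1 : Matrix (Fin 2) (Fin 2) F) 0 := by
      ext x y
      have := congrFun (congrFun hQE x) (Sum.inl y)
      rw [Matrix.mul_apply] at this ⊢
      rw [show (∑ j, Q x j * E j (Sum.inl y)) = ∑ j, Q x j * A j y from rfl] at this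
      rw [this]
      rcases x with x | x <;> simp [Matrix.one_apply]
    ext x y
    have h3 := congrFun (congrFun h1 (Sum.inl x)) y
    rw [h2, fromRows_mul, fromRows_apply_inl, Matrix.one_mul] at h3
    rw [← h3]
    have h4 := congrFun (congrFun hG0 (Sum.inl x)) (Sum.inl y)
    rw [show b3 a' b c d e f k h i (Sum.inl x) (Sum.inl y) = a' x y from rfl] at h4
    rw [← h4, Matrix.mul_assoc, Matrix.mul_apply, Matrix.mul_apply]
    rfl
  have hfr : Fr S J G E μ am b c 0 e f k h i := ⟨fun x => x.elim0, hgram, hact⟩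
  obtain ⟨g', hg', eg, -, hback⟩ := fr_transport S hg hfr (by simp [hn])
  have hdet : am.det = 1 := by simp [am, det_fin_two, hl2]
  let D : GL (Fin 2) F := Matrix.nonsingInvUnit am (by simp [hdet])
  refine hback (com_of_pair S μ (fun x => x.elim0) (fun x => x.elim0) hg' eg D rfl (Equiv.refl _)
    (fun _ => 1) (fun x => x.elim0) (Subsingleton.elim _ _) 1 one_ne_zero (by simp) (hP am ?_ hdet))
  refine ⟨fun i j h => absurd h (by omega), fun i j h => ?_⟩
  obtain ⟨rfl, rfl⟩ : i = 1 ∧ j = 0 := ⟨Fin.ext (by simp; omega), Fin.ext (by simp; omega)⟩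
  simp [am]

end Cfsg.Agent.H31.OreSU
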