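/-
Every non-scalar isometry of determinant one is a commutator.
-/
import Cfsg.Agent.H31.OreSU.Pick
import Cfsg.Agent.H31.OreSU.Pairs

set_option autoImplicit false
set_option linter.unusedSectionVars false

namespace Cfsg.Agent.H31.OreSU

open Matrix Polynomial
open Cfsg.Agent.H60.Ore (Hess)

variable {F : Type*} [Field F] [Fintype F] [DecidableEq F] {S : UConj F} {q : ℕ}
variable {ι : Type} [Fintype ι] [DecidableEq ι]

theorem QConj.norm_pow (h : QConj S q) {x : F} (hx : x * S.σ x = 1) : x ^ (q + 1) = 1 := by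
  rwa [pow_succ', ← h.pow]

theorem exists_sqrt_neg_one (h : QConj S 3) : ∃ e : F, e * e = -1 ∧ e * S.σ e = 1 := by
  obtain ⟨y, hy⟩ := S.nrm (-1) (by simp)
  refine ⟨y * y, ?_, by rw [map_mul]; linear_combination (y * S.σ y - 1) * hy⟩
  rw [← hy, h.pow]; ring

omit [Fintype F] [DecidableEq F] in
theorem det_fin_one_one (M : Matrix (Fin 1 ⊕ Fin 1) (Fin 1 ⊕ Fin 1) F) :
    M.det = M (Sum.inl 0) (Sum.inl 0) * M (Sum.inr 0) (Sum.inr 0) -
      M (Sum.inl 0) (Sum.inr 0) * M (Sum.inr 0) (Sum.inl 0) := by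
  rw [← det_submatrix_equiv_self finSumFinEquiv.symm, det_fin_two]
  rfl

theorem com_nonscalar (h : QConj S q) {J : Matrix ι ι F} (hJ : IsUnit J.det) (hJh : cT S J = J)
    {g : GL ι F} (hg : g ∈ U S J) (hdet : (g : Matrix ι ι F).det = 1) (hn : 3 ≤ Fintype.card ι)
    (hex : ¬(Fintype.card ι = 3 ∧ q = 2)) (hns : ∀ l : F, (g : Matrix ι ι F) ≠ l • 1) :
    Com S J g := by
  classical
  have hq2 := h.two_le
  set n := Fintype.card ι with hn_def
  obtain ⟨v, P, hv, h2, hle, hclause⟩ := best_piece S hJ hJh hg hns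
  by_cases hplane : n = 4 ∧ P.natDegree = 3 ∧ ∃ l : F, l * S.σ l = 1 ∧ l * l = 1 ∧ P = (X - C l) ^ 3
  · obtain ⟨hn4, hd3, l, hl, hl2, hP⟩ := hplane
    obtain ⟨l', u, -, hu, huu, hvu, hP', -⟩ := hclause (by rw [hd3]; decide) (by omega)
    have : l' = l := by
      have h1 := congrArg (fun p : F[X] => p.eval l) (hP'.symm.trans hP)
      simp [hd3, eq_comm (a := (0 : F)), sub_eq_zero] at h1
      exact h1.symm
    subst this
    exact com_plane S hJ hJh hg hn4 hl hl2 (hP ▸ hv) hu huu hvu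
      fun a ha hda => pair_gen h le_rfl ha hda 1 one_ne_zero fun _ _ => Or.inr rfl
  obtain ⟨k0, r, hk0e, hre, μ, E, G0, hμ, hgr, hgE, a0, b, c, Md0, f, β, hh, ii, rfl, ha0, hβ⟩ :
      ∃ k0 r, k0 = P.natDegree / 2 ∧ r = P.natDegree % 2 ∧ HasTop S J g k0 r :=
    ⟨_, _, rfl, rfl, top_of_piece S hJh hg hv h2⟩
  have hk0 : 1 ≤ k0 := by omega
  have hr : r ≤ 1 := by omega
  have hJJ : IsUnit (hypJ (diagonal μ) : Matrix (Idx (Fin k0) (Fin r)) _ F).det := by
    refine Matrix.isUnit_det_of_right_inverse (B := b3 0 0 1 0 (diagonal fun x => (μ x)⁻¹) 0 1 0 0) ?_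
    simp [hypJ, b3_mul, diagonal_mul_diagonal, fun x => (hμ x).1, b3_one]
  obtain ⟨m, K1, g1, hTK, hJ1, hJ1h, hg1, hgK, hcard, -⟩ := exists_compl S hJ hJh hg E _ hJJ hgr _ hgE
  simp only [Fintype.card_sum, Fintype.card_fin] at hcard
  obtain ⟨d1, m1, a1, k1, Md1, hGood, hm1, hd1, hk1, hsc⟩ :=
    good_exists S m (Fintype.card_fin m) hJ1 hJ1h hg1
  have hf : Fr S J (g : Matrix ι ι F) E μ a0 b c 0 (diagonal Md0) f (corner k0 β) hh ii := ⟨hμ, hgr, hgE⟩
  have hlink := fun l hl => link_one S hJh hg hdet hk0 hr hf ha0 hβ K1 (g1 : Matrix (Fin m) (Fin m) F)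
    hTK hgK hGood (by omega) l hl
  -- the eigenvalue on a one-dimensional complement
  have heig : r = 1 → m = 1 → ∃ l : F, l * S.σ l = 1 ∧ l ^ n = 1 ∧ P = (X - C l) ^ P.natDegree ∧
      ∀ x, Md1 x = l := by
    intro hr1 hm
    obtain ⟨l, u, hl, -, -, -, hP, hnil⟩ := hclause (Nat.odd_iff.2 (by omega)) (by omega)
    refine ⟨l, hl, by rw [← det_of_nilpotent hnil, hdet], hP, ?_⟩
    have h1 : aeval (g : Matrix ι ι F) ((X - C l) ^ P.natDegree) = 0 := by
      rw [map_pow, map_sub, aeval_X, aeval_C, Algebra.algebraMap_eq_smul_one]; exact hnil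
    have h2 := H60.Ore.Sim.aeval_intertwine hgK ((X - C l) ^ P.natDegree)
    rw [h1, Matrix.zero_mul] at h2
    have h3 := congrArg (fun M => (cT S K1 * J * K1)⁻¹ * (cT S K1 * J * M)) h2
    simp only [Matrix.mul_zero, ← Matrix.mul_assoc, Matrix.nonsing_inv_mul_cancel_right] at h3
    rw [Matrix.mul_assoc ((cT S K1 * J * K1)⁻¹), Matrix.mul_assoc ((cT S K1 * J * K1)⁻¹),
      Matrix.nonsing_inv_mul _ hJ1, Matrix.one_mul] at h3
    subst hm
    obtain ⟨l', hg', -, -, hMd⟩ := hsc ⟨(g1 : Matrix (Fin 1) (Fin 1) F) 0 0, by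
      ext i j; simp [Subsingleton.elim i 0, Subsingleton.elim j 0]⟩
    intro x
    rw [hMd x]
    have h4 := congrFun (congrFun h3.symm 0) 0
    rw [hg', map_pow, map_sub, aeval_X, aeval_C, Algebra.algebraMap_eq_smul_one, ← sub_smul,
      _root_.smul_pow, one_pow, Matrix.smul_apply, one_apply_eq, smul_eq_mul, mul_one, Matrix.zero_apply,
      pow_eq_zero_iff (by omega), sub_eq_zero] at h4
    exact h4
  by_cases hd : 2 ≤ k0 + d1
  · by_cases h32 : q = 3 ∧ k0 + d1 = 2
    swap
    · obtain ⟨s, A, w, -, hA, hAh, hw, hwp, -, -, hcom⟩ := hlink 1 one_ne_zero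
      obtain ⟨π, Ef, hE, hwE⟩ := exists_cycle S w hw hwp
      obtain ⟨δ, hδ, hδt⟩ := hilbert90 S (t := ∏ x, Ef x)
        (by rw [map_prod, ← Finset.prod_mul_distrib]; exact Finset.prod_eq_one fun x _ => hE x)
      exact hcom π Ef δ hE hwE hδ hδt (pair_gen h hd hAh hA δ hδ fun h3 h2' => absurd ⟨h3, h2'⟩ h32)
    obtain ⟨rfl, hd2⟩ := h32
    obtain ⟨e, he, heN⟩ := exists_sqrt_neg_one h
    rcases (show k0 = 2 ∨ k0 = 1 by omega) with hk | hk
    · obtain ⟨s, A, w, -, hA, hAh, hw, hwp, hwr, -, hcom⟩ := hlink 1 one_ne_zero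
      have hm : m ≤ 1 := by
        by_contra hc
        have := hd1 (by omega)
        omega
      rcases (show r + m1 ≤ 1 ∨ (r = 1 ∧ m1 = 1) by omega) with hsm | ⟨hr1, hm11⟩
      · have hw1 : ∀ x, w x = 1 := fun x => by
          haveI : Subsingleton (Fin r ⊕ Fin m1) := Fintype.card_le_one_iff_subsingleton.1 (by simpa using hsm)
          rw [← hwp, Fintype.prod_subsingleton w x]
        exact hcom (Equiv.refl _) (fun _ => 1) 1 (fun x => by simp) (fun x => by simp [hw1]) one_ne_zero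
          (by simp) (pair_gen h hd hAh hA 1 one_ne_zero fun _ _ => Or.inr rfl)
      · obtain ⟨l, hl, hln, -, hMd⟩ := heig hr1 (by omega)
        have hl4 := h.norm_pow hl
        have hn6 : n = 6 := by omega
        rw [hn6] at hln
        have hl2 : l * l = 1 := by
          linear_combination hln - (l ^ 2) * hl4
        subst hr1 hm11
        have hwi : w (Sum.inr 0) = l := (hwr rfl 0).trans (hMd 0)
        have hwl : w (Sum.inl 0) = l := by
          rw [Fintype.prod_sum_type, Fin.prod_univ_one, Fin.prod_univ_one, hwi] at hwp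
          linear_combination l * hwp - w (Sum.inl 0) * hl2
        rcases mul_self_eq_one_iff.1 hl2 with rfl | rfl
        · exact hcom (Equiv.refl _) (fun _ => 1) 1 (fun x => by simp)
            (fun x => by rcases x with x | x <;> rw [Subsingleton.elim x 0] <;> simp [hwi, hwl])
            one_ne_zero (by simp) (pair_gen h hd hAh hA 1 one_ne_zero fun _ _ => Or.inr rfl)
        · have he0 : e ≠ 0 := left_ne_zero_of_mul_eq_one heN
          refine hcom (Equiv.sumComm _ _) (Sum.elim (fun _ => e) (fun _ => -e)) 1 (fun x => ?_)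
            (fun x => ?_) one_ne_zero ?_ (pair_gen h hd hAh hA 1 one_ne_zero fun _ _ => Or.inr rfl)
          · rcases x with x | x <;> simp [heN]
          · rcases x with x | x <;> rw [Subsingleton.elim x 0] <;> simp [hwi, hwl, he0]
          · simp [Fintype.prod_sum_type, he]
    · subst hk
      obtain rfl : d1 = 1 := by omega
      by_cases hm : ∀ l : F, (g1 : Matrix (Fin m) (Fin m) F) ≠ l • 1
      · have hk : k1 0 0 ≠ 0 := fun h0 => hk1 hm (by
          ext i j; rw [Subsingleton.elim i 0, Subsingleton.elim j 0, h0]; rfl)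
        obtain ⟨l0, hl0⟩ := S.nrm (-1) (by simp)
        have hl00 : l0 ≠ 0 := fun h0 => by rw [h0, zero_mul] at hl0; exact neg_ne_zero.2 one_ne_zero hl0.symm
        obtain ⟨s, A, w, eA, hA, hAh, hw, hwp, -, -, hcom⟩ := hlink 1 one_ne_zero
        obtain ⟨s', A', w', eA', hA', hAh', hw', hwp', -, -, hcom'⟩ := hlink l0 hl00
        have fin : ∀ (A : Matrix (Fin (1 + 1)) (Fin (1 + 1)) F) (w : Fin r ⊕ Fin m1 → F), A.det = 1 →
            Hess A → (∀ x, w x * S.σ (w x) = 1) → (∏ x, w x) = 1 → A.trace ≠ -1 →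
            (∀ (π : Fin r ⊕ Fin m1 ≃ Fin r ⊕ Fin m1) (Ef : Fin r ⊕ Fin m1 → F) (δ : F),
              (∀ x, Ef x * S.σ (Ef x) = 1) → (∀ x, w x = Ef x * (Ef (π x))⁻¹) → δ ≠ 0 →
              δ * (∏ x, Ef x) = S.σ δ → Pairable S A δ → Com S J g) → Com S J g := by
          intro A w hA hAh hw hwp ht hcom
          obtain ⟨π, Ef, hE, hwE⟩ := exists_cycle S w hw hwp
          obtain ⟨δ, hδ, hδt⟩ := hilbert90 S (t := ∏ x, Ef x)
            (by rw [map_prod, ← Finset.prod_mul_distrib]; exact Finset.prod_eq_one fun x _ => hE x)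
          exact hcom π Ef δ hE hwE hδ hδt (pair_gen h hd hAh hA δ hδ fun _ _ => Or.inl ht)
        by_cases ht : A.trace = -1
        · refine fin A' w' hA' hAh' hw' hwp' (fun ht' => hk ?_) hcom'
          have e0 : ∀ s l : F, (aLink S a0 k1 a1 β s l).det =
              (a0 0 0 - s * β) * a1 0 0 + (l * S.σ l) * β * k1 0 0 := fun s l => by
            rw [det_fin_one_one]
            simp [aLink, corner]
            ring
          have e1 : ∀ s l : F, (aLink S a0 k1 a1 β s l).trace = (a0 0 0 - s * β) + a1 0 0 := fun s l => by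
            simp [Matrix.trace, aLink, corner, Fintype.sum_sum_type]
          rw [eA, det_submatrix_equiv_self, e0, map_one, one_mul] at hA
          rw [eA', det_submatrix_equiv_self, e0, hl0] at hA'
          have tsub : ∀ M : Matrix (Fin 1 ⊕ Fin 1) (Fin 1 ⊕ Fin 1) F,
              (M.submatrix finSumFinEquiv.symm finSumFinEquiv.symm).trace = M.trace := fun M =>
            Equiv.sum_comp finSumFinEquiv.symm (fun x => M x x)
          rw [eA, tsub, e1] at ht
          rw [eA', tsub, e1] at ht'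
          obtain ⟨-, -, hq2'⟩ := q3_facts h
          have : (2 : F) * β * k1 0 0 = 0 := by
            linear_combination hA - hA' - (a1 0 0) * ht + (a1 0 0) * ht'
          simpa [hq2', hβ] using this
        · exact fin A w hA hAh hw hwp ht hcom
      · push Not at hm
        obtain ⟨l, -, ha1, hk1', hMd⟩ := hsc hm
        obtain ⟨s, A, w, eA, hA, hAh, hw, hwp, -, hwone, hcom⟩ := hlink 1 one_ne_zero
        by_cases ht : A.trace = -1
        · have hl1 : l = 1 := by
            subst ha1 hk1'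
            rw [eA, det_submatrix_equiv_self, det_fin_one_one] at hA
            rw [eA] at ht
            have ht' : (aLink S a0 (0 : Matrix (Fin 1) (Fin 1) F) (l • 1) β s 1).trace = -1 := by
              rw [← ht]; exact (Equiv.sum_comp finSumFinEquiv.symm
                (fun x => aLink S a0 (0 : Matrix (Fin 1) (Fin 1) F) (l • 1) β s 1 x x)).symm
            simp [aLink, corner] at hA
            simp [Matrix.trace, aLink, corner, Fintype.sum_sum_type] at ht'
            obtain ⟨h3, -, -⟩ := q3_facts h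
            have : (l - 1) * (l - 1) = 0 := by linear_combination l * ht' - hA - l * h3
            exact sub_eq_zero.1 (mul_self_eq_zero.1 this)
          exact hcom (Equiv.refl _) (fun _ => 1) 1 (fun x => by simp)
            (fun x => by simp [hwone (fun y => (hMd y).trans hl1) x]) one_ne_zero (by simp)
            (pair_gen h hd hAh hA 1 one_ne_zero fun _ _ => Or.inr rfl)
        · obtain ⟨π, Ef, hE, hwE⟩ := exists_cycle S w hw hwp
          obtain ⟨δ, hδ, hδt⟩ := hilbert90 S (t := ∏ x, Ef x)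
            (by rw [map_prod, ← Finset.prod_mul_distrib]; exact Finset.prod_eq_one fun x _ => hE x)
          exact hcom π Ef δ hE hwE hδ hδt (pair_gen h hd hAh hA δ hδ fun _ _ => Or.inl ht)
  have hm : m ≤ 1 := by
    by_contra hc
    have := hd1 (by omega)
    omega
  obtain ⟨s, A, w, -, hA, -, hw, hwp, hwr, -, hcom⟩ := hlink 1 one_ne_zero
  by_cases hq4 : 4 ≤ q
  · obtain ⟨π, Ef, hE, hwE⟩ := exists_cycle S w hw hwp
    obtain ⟨δ, hδ, hδt⟩ := hilbert90 S (t := ∏ x, Ef x)
      (by rw [map_prod, ← Finset.prod_mul_distrib]; exact Finset.prod_eq_one fun x _ => hE x)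
    obtain ⟨x, hx0, hx, hxδ⟩ := exists_scale h hq4 hδ
    exact hcom π Ef δ hE hwE hδ hδt (pair_dim_one (by omega) A hA hx0 hx δ hxδ)
  suffices hgo : q = 3 ∧ ∃ (π : Fin r ⊕ Fin m1 ≃ Fin r ⊕ Fin m1) (Ef : Fin r ⊕ Fin m1 → F),
      (∀ x, Ef x * S.σ (Ef x) = 1) ∧ (∀ x, w x = Ef x * (Ef (π x))⁻¹) ∧
      (∏ x, Ef x) * (∏ x, Ef x) = -1 by
    obtain ⟨rfl, π, Ef, hE, hwE, ht⟩ := hgo
    obtain ⟨δ, hδ, hδt⟩ := hilbert90 S (t := ∏ x, Ef x)
      (by rw [map_prod, ← Finset.prod_mul_distrib]; exact Finset.prod_eq_one fun x _ => hE x)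
    refine hcom π Ef δ hE hwE hδ hδt (pair_dim_one (by omega) A hA hδ (fun e => ?_) δ (mul_comm _ _))
    set t := ∏ x, Ef x
    have h2 : δ * δ = t := by
      have h1 := hδt
      rw [h.pow] at h1
      exact mul_left_cancel₀ hδ (by linear_combination -h1)
    rw [← hδt] at e
    have hneg : (1 : F) = -1 := by linear_combination (δ * δ + t) * 0 - e + t * h2 + ht
    exact (q3_facts h).2.2 (by linear_combination hneg)
  rcases (show n = 3 ∨ (n = 4 ∧ r = 1 ∧ m1 = 1) by omega) with hn3 | ⟨hn4, hr1, hm11⟩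
  · obtain rfl : q = 3 := by
      have : q ≠ 2 := fun h' => hex ⟨hn3, h'⟩
      omega
    obtain ⟨e, he, heN⟩ := exists_sqrt_neg_one h
    haveI : Subsingleton (Fin r ⊕ Fin m1) := Fintype.card_le_one_iff_subsingleton.1 (by simp; omega)
    have hone : Fintype.card (Fin r ⊕ Fin m1) = 1 := by simp; omega
    obtain ⟨x0⟩ : Nonempty (Fin r ⊕ Fin m1) := Fintype.card_pos_iff.1 (by omega)
    refine ⟨rfl, Equiv.refl _, fun _ => e, fun x => heN, fun x => ?_, ?_⟩
    · rw [mul_inv_cancel₀ (left_ne_zero_of_mul_eq_one heN), ← hwp, Fintype.prod_subsingleton w x]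
    · rw [Finset.prod_const, Finset.card_univ, hone, pow_one, he]
  · obtain ⟨l, hl, hln, hP, hMd⟩ := heig hr1 (by omega)
    rw [hn4] at hln
    have hd3 : P.natDegree = 3 := by omega
    have hl2 : l * l ≠ 1 := fun e => hplane ⟨hn4, hd3, l, hl, e, hd3 ▸ hP⟩
    have hl4 := h.norm_pow hl
    obtain rfl : q = 3 := by
      by_contra hne
      obtain rfl : q = 2 := by omega
      refine hl2 ?_
      have : l = 1 := by linear_combination hln - l * hl4
      rw [this, mul_one]
    refine ⟨rfl, ?_⟩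
    subst hr1 hm11
    have hwi : w (Sum.inr 0) = l := (hwr rfl 0).trans (hMd 0)
    have hl0 : l ≠ 0 := left_ne_zero_of_mul_eq_one hl
    have hwl : w (Sum.inl 0) = l⁻¹ := by
      rw [Fintype.prod_sum_type, Fin.prod_univ_one, Fin.prod_univ_one, hwi] at hwp
      exact eq_inv_of_mul_eq_one_left hwp
    refine ⟨Equiv.sumComm _ _, Sum.elim (fun _ => 1) (fun _ => l), fun x => ?_, fun x => ?_, ?_⟩
    · rcases x with x | x <;> simp [hl]
    · rcases x with x | x <;> rw [Subsingleton.elim x 0] <;> simp [hwi, hwl]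
    · have : (l * l - 1) * (l * l + 1) = 0 := by linear_combination hl4
      simp only [Fintype.prod_sum_type, Fin.prod_univ_one, Sum.elim_inl, Sum.elim_inr, one_mul]
      linear_combination (mul_eq_zero.1 this).resolve_left (sub_ne_zero.2 hl2)

end Cfsg.Agent.H31.OreSU
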