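/-
Scalar isometries of determinant one are commutators.
-/
import Cfsg.Agent.H31.OreSU.Good
import Cfsg.Agent.H31.OreSU.Middle
import Cfsg.Agent.H31.OreSU.PairOdd

set_option autoImplicit false
set_option linter.unusedSectionVars false

namespace Cfsg.Agent.H31.OreSU

open Matrix

variable {F : Type*} [Field F] [Fintype F] [DecidableEq F] (S : UConj F) {q : ℕ}
variable {ι : Type} [Fintype ι] [DecidableEq ι]

theorem exists_std {n : ℕ} {J : Matrix (Fin n) (Fin n) F} (hJ : IsUnit J.det) (hJh : cT S J = J) :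
    ∃ P Q : Matrix (Fin n) (Fin n) F, P * Q = 1 ∧ Q * P = 1 ∧ cT S P * J * P = 1 := by
  obtain ⟨D, μ, hμ, hD⟩ := diag_basis S n J hJ hJh
  choose y hy using fun x => S.nrm (μ x)⁻¹ (by rw [map_inv₀, (hμ x).2])
  set P := D * diagonal y
  have hP : cT S P * J * P = 1 := by
    calc cT S P * J * P = cT S (diagonal y) * (cT S D * J * D) * diagonal y := by
          simp only [P, cT_mul, Matrix.mul_assoc]
      _ = 1 := by
          rw [hD, cT_diagonal, diagonal_mul_diagonal, diagonal_mul_diagonal, ← diagonal_one]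
          refine congrArg diagonal (funext fun x => ?_)
          rw [mul_right_comm, mul_comm (S.σ _), hy, inv_mul_cancel₀ (hμ x).1]
  exact ⟨P, cT S P * J, mul_eq_one_comm.1 hP, hP, hP⟩

theorem det_mono {β : Type} [Fintype β] [DecidableEq β] (π : β ≃ β) (s : β → F) :
    (mono π s).det = (Equiv.Perm.sign π : ℤ) * ∏ x, s x := by
  have : mono π s = diagonal s * Equiv.Perm.permMatrix F π := by
    ext i j
    rw [Matrix.diagonal_mul]
    simp [mono, Equiv.Perm.permMatrix, PEquiv.toMatrix_apply, Equiv.toPEquiv_apply, eq_comm]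
  rw [this, det_mul, det_diagonal, Matrix.det_permutation, mul_comm]

/-- The weighted shift and the diagonal of powers commute up to the scalar. -/
theorem com_shift {n : ℕ} [NeZero n] (c : Fin n) (hc : c + c = 0) {l x : F} (hl : l ^ n = 1)
    (hlN : l * S.σ l = 1) (hx : x * S.σ x * l ^ c.val = 1) (hdy : (∏ i : Fin n, x * l ^ i.val) = 1)
    (s : Fin n → F) (hs : ∀ i, S.σ (s i) * s (i + c) = 1)
    (hds : ((Equiv.Perm.sign (Equiv.addRight (1 : Fin n)) : ℤ) : F) * ∏ i, s i = 1) (g : GL (Fin n) F)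
    (hg : (g : Matrix (Fin n) (Fin n) F) = l • 1) :
    Com S (mono (Equiv.addRight c) fun _ => (1 : F)) g := by
  set y : Fin n → F := fun i => x * l ^ i.val
  have hpow : ∀ i j : Fin n, l ^ (i + j).val = l ^ i.val * l ^ j.val := fun i j => by
    rw [Fin.val_add, ← pow_add]
    exact (pow_eq_pow_mod _ hl).symm
  have hone : l ^ ((1 : Fin n).val) = l := by
    rw [Fin.val_one', ← pow_eq_pow_mod 1 hl, pow_one]
  have hy1 : ∀ i, y (i + 1) = l * y i := fun i => by simp only [y, hpow, hone]; ring
  have hyc : ∀ i, S.σ (y i) * y (i + c) = 1 := fun i => by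
    simp only [y, hpow, map_mul, map_pow]
    calc S.σ x * S.σ l ^ i.val * (x * (l ^ i.val * l ^ c.val)) =
          (x * S.σ x * l ^ c.val) * (l * S.σ l) ^ i.val := by ring
      _ = 1 := by rw [hx, hlN, one_pow, one_mul]
  have hym : diagonal y * mono (Equiv.refl (Fin n)) (fun _ => (1 : F)) = diagonal y := by
    ext i j; simp [mono, Matrix.diagonal_apply, eq_comm]
  set J : Matrix (Fin n) (Fin n) F := mono (Equiv.addRight c) fun _ => 1
  let a : GL (Fin n) F := Matrix.nonsingInvUnit (diagonal y) (by rw [det_diagonal, hdy]; exact isUnit_one)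
  have hbd : (mono (Equiv.addRight (1 : Fin n)) s).det = 1 := by rw [det_mono, hds]
  let b : GL (Fin n) F := Matrix.nonsingInvUnit (mono (Equiv.addRight (1 : Fin n)) s) (by rw [hbd]; exact isUnit_one)
  have ha : a ∈ U S J := by
    rw [mem_U]
    show cT S (diagonal y) * J * diagonal y = J
    ext i j
    rw [cT_diagonal, Matrix.mul_diagonal, Matrix.diagonal_mul]
    simp only [J, mono]
    by_cases h : j = Equiv.addRight c i
    · rw [if_pos h, mul_one, h]; exact hyc i
    · rw [if_neg h, mul_zero, zero_mul]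
  have hb : b ∈ U S J := by
    rw [mem_U]
    show cT S (mono (Equiv.addRight (1 : Fin n)) s) * J * mono (Equiv.addRight (1 : Fin n)) s = J
    ext i j
    rw [Matrix.mul_assoc, Matrix.mul_apply, Finset.sum_eq_single (i - 1)]
    · rw [mono_mul, cT_apply]
      simp only [J, mono]
      have e1 : i = Equiv.addRight (1 : Fin n) (i - 1) := (sub_add_cancel i 1).symm
      have e2 : Equiv.addRight (1 : Fin n) (Equiv.addRight c (i - 1)) = Equiv.addRight c i := by
        simp only [Equiv.coe_addRight]; abel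
      rw [if_pos e1, one_mul]
      by_cases h : j = Equiv.addRight c i
      · rw [if_pos (h.trans e2.symm), if_pos h]
        exact hs (i - 1)
      · rw [if_neg fun e => h (e.trans e2), mul_zero, if_neg h]
    · intro z _ hz
      rw [cT_apply, mono, if_neg, map_zero, zero_mul]
      exact fun e => hz (by rw [e]; simp)
    · simp
  have key : b * a = g * (a * b) := by
    refine Units.ext ?_
    show mono (Equiv.addRight (1 : Fin n)) s * diagonal y = (g : Matrix _ _ F) * (diagonal y * mono _ s)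
    rw [hg, Matrix.smul_mul, Matrix.one_mul]
    ext i j
    rw [Matrix.mul_diagonal, Matrix.smul_apply, Matrix.diagonal_mul, smul_eq_mul]
    simp only [mono]
    by_cases h : j = Equiv.addRight 1 i
    · rw [if_pos h, h, show y (Equiv.addRight 1 i) = l * y i from hy1 i]; ring
    · rw [if_neg h]; ring
  refine ⟨b, hb, a, ha, hbd, ?_, ?_⟩
  · show (diagonal y).det = 1
    rw [det_diagonal, hdy]
  · rw [key]; group

theorem exists_root_neg_one (h : QConj S q) (h2 : (2 : F) ≠ 0) {l : F} (hl : l * S.σ l = 1) :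
    ∃ x : F, x ^ orderOf l = -1 ∧ (x * S.σ x = 1 ∨ x * S.σ x = -1) := by
  have hl0 : l ≠ 0 := left_ne_zero_of_mul_eq_one hl
  have hlq : orderOf l ∣ q + 1 := orderOf_dvd_of_pow_eq_one (by rwa [pow_succ', ← h.pow])
  have hodd : q % 2 = 1 := by
    have hc : Fintype.card F % 2 = 1 := FiniteField.odd_card_of_char_ne_two fun hc => h2 (by
      haveI : CharP F 2 := ringChar.of_eq hc
      exact CharTwo.two_eq_zero)
    rw [h.card, Nat.pow_mod] at hc
    rcases Nat.mod_two_eq_zero_or_one q with e | e
    · rw [e] at hc; simp at hc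
    · exact e
  set o := orderOf l
  obtain ⟨e, he⟩ := hlq
  set N := Fintype.card Fˣ
  have hN : N = (q - 1) * (q + 1) := by
    simp only [N]
    rw [Fintype.card_units, h.card, mul_comm]
    exact Nat.sq_sub_sq q 1 ▸ by ring_nf
  obtain ⟨k, hk⟩ : 2 * o ∣ N := by
    rw [hN, he]; exact Nat.mul_dvd_mul (Nat.dvd_of_mod_eq_zero (by omega)) (Dvd.intro e rfl)
  obtain ⟨γ, hγ⟩ := IsCyclic.exists_generator (α := Fˣ)
  have hord : orderOf γ = N := by
    rw [orderOf_eq_card_of_forall_mem_zpowers hγ, Nat.card_eq_fintype_card]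
  have hopos : 0 < o := by
    rcases Nat.eq_zero_or_pos o with h0 | h0
    · rw [h0, zero_mul] at he; omega
    · exact h0
  have hkpos : 0 < k := by
    rcases Nat.eq_zero_or_pos k with rfl | h0
    · have := Fintype.card_pos (α := Fˣ); simp only [mul_zero] at hk; omega
    · exact h0
  refine ⟨(γ ^ k : Fˣ), ?_, ?_⟩
  · have hsq : ((γ : F) ^ (k * o)) ^ 2 = 1 := by
      rw [← pow_mul, show k * o * 2 = N by rw [hk]; ring, ← Units.val_pow_eq_pow_val, ← hord,
        pow_orderOf_eq_one, Units.val_one]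
    have hne : (γ : F) ^ (k * o) ≠ 1 := fun e1 => by
      rw [← Units.val_pow_eq_pow_val, Units.val_eq_one] at e1
      have := Nat.le_of_dvd (by positivity) (orderOf_dvd_of_pow_eq_one e1)
      rw [hord, hk] at this
      have : 0 < k * o := by positivity
      nlinarith
    rw [Units.val_pow_eq_pow_val, ← pow_mul]
    exact (sq_eq_one_iff.1 hsq).resolve_left hne
  · set x : F := ((γ ^ k : Fˣ) : F)
    have hx : x ^ o = -1 := by
      have hsq : ((γ : F) ^ (k * o)) ^ 2 = 1 := by
        rw [← pow_mul, show k * o * 2 = N by rw [hk]; ring, ← Units.val_pow_eq_pow_val, ← hord,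
          pow_orderOf_eq_one, Units.val_one]
      have hne : (γ : F) ^ (k * o) ≠ 1 := fun e1 => by
        rw [← Units.val_pow_eq_pow_val, Units.val_eq_one] at e1
        have := Nat.le_of_dvd (by positivity) (orderOf_dvd_of_pow_eq_one e1)
        rw [hord, hk] at this
        have : 0 < k * o := by positivity
        nlinarith
      simp only [x]
      rw [Units.val_pow_eq_pow_val, ← pow_mul]
      exact (sq_eq_one_iff.1 hsq).resolve_left hne
    rw [h.pow, ← pow_succ', he, pow_mul, hx]
    exact neg_one_pow_eq_or F e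

theorem com_scalar_std (h : QConj S q) {n : ℕ} (hn : 1 ≤ n) {l : F} (hlN : l * S.σ l = 1)
    (hl : l ^ n = 1) (g : GL (Fin n) F) (hg : (g : Matrix (Fin n) (Fin n) F) = l • 1) :
    ∃ J : Matrix (Fin n) (Fin n) F, IsUnit J.det ∧ cT S J = J ∧ Com S J g := by
  classical
  haveI : NeZero n := ⟨by omega⟩
  have hJ : ∀ c : Fin n, c + c = 0 → IsUnit (mono (Equiv.addRight c) fun _ : Fin n => (1 : F)).det ∧
      cT S (mono (Equiv.addRight c) fun _ => (1 : F)) = mono (Equiv.addRight c) fun _ => 1 := by
    intro c hc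
    refine ⟨?_, ?_⟩
    · rw [det_mono, Finset.prod_const_one, mul_one]
      exact (Int.cast ((Equiv.Perm.sign (Equiv.addRight c)) : ℤ) : F) |> fun _ =>
        ((Units.isUnit (Equiv.Perm.sign (Equiv.addRight c))).map (Int.castRingHom F))
    · ext i j
      simp only [cT_apply, mono]
      have : i = Equiv.addRight c j ↔ j = Equiv.addRight c i := by
        simp only [Equiv.coe_addRight]
        exact ⟨fun e => by rw [e, add_assoc, hc, add_zero], fun e => by rw [e, add_assoc, hc, add_zero]⟩
      by_cases hij : j = Equiv.addRight c i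
      · rw [if_pos hij, if_pos (this.2 hij), map_one]
      · rw [if_neg hij, if_neg (fun e => hij (this.1 e)), map_zero]
  set σP : F := ((Equiv.Perm.sign (Equiv.addRight (1 : Fin n)) : ℤ) : F)
  have hσP : σP * σP = 1 := by
    rw [← Int.cast_mul, ← Units.val_mul, Int.units_mul_self, Units.val_one, Int.cast_one]
  have hσσ : S.σ σP = σP := map_intCast S.σ _
  have hprod : ∀ x : F, (∏ i : Fin n, x * l ^ i.val) = x ^ n * l ^ (n * (n - 1) / 2) := fun x => by
    rw [Finset.prod_mul_distrib, Finset.prod_const, Finset.card_univ, Fintype.card_fin,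
      Finset.prod_pow_eq_pow_sum, Fin.sum_univ_eq_sum_range (fun i => i), Finset.sum_range_id]
  have diag : ∀ x : F, x * S.σ x = 1 → (∏ i : Fin n, x * l ^ i.val) = 1 →
      ∃ J : Matrix (Fin n) (Fin n) F, IsUnit J.det ∧ cT S J = J ∧ Com S J g := fun x hx hd =>
    ⟨_, (hJ 0 (add_zero 0)).1, (hJ 0 (add_zero 0)).2,
      com_shift S 0 (add_zero 0) hl hlN (by simp [hx]) hd (Function.update (fun _ => 1) 0 σP)
        (fun i => by by_cases hi : i = 0 <;> simp [hi, hσσ, hσP])
        (by rw [Finset.prod_update_of_mem (Finset.mem_univ _), Finset.prod_const_one, mul_one]; exact hσP)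
        g hg⟩
  by_cases ht : l ^ (n * (n - 1) / 2) = 1
  · exact diag 1 (by simp) (by rw [hprod, one_pow, one_mul, ht])
  rcases Nat.even_or_odd' n with ⟨k, hk | hk⟩
  swap
  · refine absurd ?_ ht
    rw [hk, show (2 * k + 1) * (2 * k + 1 - 1) / 2 = (2 * k + 1) * k by
      rw [Nat.add_sub_cancel, show (2 * k + 1) * (2 * k) = 2 * ((2 * k + 1) * k) by ring]; omega,
      pow_mul, ← hk, hl, one_pow]
  have hk0 : 0 < k := by omega
  have htk : n * (n - 1) / 2 = k * (2 * k - 1) := by
    rw [hk, mul_assoc, Nat.mul_div_cancel_left _ two_pos]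
  rw [htk, pow_mul] at ht
  have hlk : l ^ k = -1 := by
    refine (sq_eq_one_iff.1 ?_).resolve_left fun e => ht (by rw [e, one_pow])
    rw [← pow_mul, mul_comm, ← hk, hl]
  have h2 : (2 : F) ≠ 0 := fun h2 => ht (by
    rw [hlk, show (-1 : F) = 1 by linear_combination -h2, one_pow])
  obtain ⟨x, hxo, hxN⟩ := exists_root_neg_one S h h2 hlN
  obtain ⟨u, hu⟩ : orderOf l ∣ n := orderOf_dvd_of_pow_eq_one hl
  have huodd : Odd u := by
    rcases Nat.even_or_odd' u with ⟨w, hw | hw⟩
    · exfalso
      have : k = orderOf l * w := by rw [hw] at hu; linarith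
      rw [this, pow_mul, pow_orderOf_eq_one, one_pow] at hlk
      exact h2 (by linear_combination hlk)
    · exact ⟨w, hw⟩
  have hd : (∏ i : Fin n, x * l ^ i.val) = 1 := by
    rw [hprod, htk, hu, pow_mul, hxo, huodd.neg_one_pow, pow_mul, hlk,
      Odd.neg_one_pow ⟨k - 1, by omega⟩]
    ring
  rcases hxN with hxN | hxN
  · exact diag x hxN hd
  let c : Fin n := ⟨k, by omega⟩
  have hc : c + c = 0 := Fin.ext (by simp [Fin.val_add, c, hk, ← two_mul])
  have hc0 : c ≠ 0 := fun e => by have := congrArg Fin.val e; simp [c] at this; omega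
  obtain ⟨z, hz⟩ := S.ne
  set t := z - S.σ z
  have ht0 : t ≠ 0 := sub_ne_zero.2 (Ne.symm hz)
  have hts : S.σ t = -t := by simp [t, S.inv]
  have hsgn : σP = -1 := by
    simp only [σP]
    obtain ⟨m, rfl⟩ : ∃ m, n = m + 1 := ⟨n - 1, by omega⟩
    rw [show (Equiv.addRight (1 : Fin (m + 1))) = finRotate (m + 1) from
      Equiv.ext fun i => (finRotate_apply i).symm, sign_finRotate]
    simp [Odd.neg_one_pow (show Odd m from ⟨k - 1, by omega⟩)]
  refine ⟨_, (hJ c hc).1, (hJ c hc).2, com_shift S c hc hl hlN (by simp [c, hxN, hlk]) hd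
    (Function.update (Function.update (fun _ => 1) 0 t) c (S.σ t)⁻¹) (fun i => ?_) ?_ g hg⟩
  · by_cases hi : i = 0
    · subst hi; simp [Function.update_of_ne hc0.symm, hts, ht0]
    · by_cases hic : i = c
      · subst hic; simp [hc, Function.update_of_ne hc0.symm, S.inv, ht0]
      · have h1 : i + c ≠ c := fun e => hi (add_right_cancel (e.trans (zero_add c).symm))
        have h2' : i + c ≠ 0 := fun e => hic (add_right_cancel (e.trans hc.symm))
        simp [Function.update_of_ne, hi, hic, h1, h2']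
  · show σP * _ = 1
    rw [hsgn, Finset.prod_update_of_mem (Finset.mem_univ _), Finset.prod_update_of_mem (by simp [hc0.symm]),
      Finset.prod_const_one, mul_one, hts]
    field_simp

theorem com_scalar (h : QConj S q) {n : ℕ} (hn : 1 ≤ n) {J : Matrix (Fin n) (Fin n) F}
    (hJ : IsUnit J.det) (hJh : cT S J = J) {g : GL (Fin n) F} (hg : g ∈ U S J)
    (hdet : (g : Matrix (Fin n) (Fin n) F).det = 1) {l : F}
    (hl : (g : Matrix (Fin n) (Fin n) F) = l • 1) : Com S J g := by
  have hln : l ^ n = 1 := by simpa [hl] using hdet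
  have hlN : l * S.σ l = 1 := by
    rw [mem_U, hl, cT_smul, cT_one, Matrix.smul_mul, Matrix.one_mul, Matrix.mul_smul, Matrix.mul_one,
      smul_smul] at hg
    have h1 := congrArg Matrix.det hg
    obtain ⟨i, j, hij⟩ : ∃ i j, J i j ≠ 0 := by
      by_contra hc
      push Not at hc
      haveI : Nonempty (Fin n) := ⟨⟨0, hn⟩⟩
      rw [show J = 0 from Matrix.ext hc] at hJ
      simp at hJ
    have h2 := congrFun (congrFun hg i) j
    rw [Matrix.smul_apply, smul_eq_mul] at h2
    exact mul_right_cancel₀ hij (by rw [h2, one_mul])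
  obtain ⟨J', hJ', hJh', hC⟩ := com_scalar_std S h hn hlN hln g hl
  obtain ⟨P, Q, hPQ, hQP, hP⟩ := exists_std S hJ hJh
  obtain ⟨P', Q', hPQ', hQP', hP'⟩ := exists_std S hJ' hJh'
  have e : cT S (P * Q') * J * (P * Q') = J' := by
    calc cT S (P * Q') * J * (P * Q') = cT S Q' * (cT S P * J * P) * Q' := by
          simp only [cT_mul, Matrix.mul_assoc]
      _ = cT S Q' * (cT S P' * J' * P') * Q' := by rw [hP, hP']
      _ = cT S (P' * Q') * J' * (P' * Q') := by simp only [cT_mul, Matrix.mul_assoc]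
      _ = J' := by simp [hPQ']
  have h1 : P * Q' * (P' * Q) = 1 := by
    rw [Matrix.mul_assoc, ← Matrix.mul_assoc Q', hQP', Matrix.one_mul, hPQ]
  have h2 : P' * Q * (P * Q') = 1 := mul_eq_one_comm.1 h1
  have ht : transport (P * Q') (P' * Q) h1 h2 g = g := Units.ext (by
    rw [transport_val, hl, Matrix.mul_smul, Matrix.mul_one, Matrix.smul_mul, h1])
  rw [← ht]
  exact Com.of_transport S _ _ h1 h2 (e.symm ▸ hC)

end Cfsg.Agent.H31.OreSU
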