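/-
Ore's statement for the special unitary groups.
-/
import Cfsg.Agent.H31.OreSU.Final
import Cfsg.Agent.H31.OreSU.Scalar
import Cfsg.Prelude.Def_Classical

set_option autoImplicit false
set_option linter.unusedSectionVars false

namespace Cfsg.Agent.H31.OreSU

open Matrix

theorem exists_qconj {F : Type*} [Field F] [Fintype F] {q : ℕ} (hF : Fintype.card F = q ^ 2) :
    ∃ S : UConj F, QConj S q := by
  classical
  obtain ⟨p, hP⟩ := CharP.exists F
  obtain ⟨m, hp, hm⟩ := FiniteField.card F p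
  haveI := Fact.mk hp
  obtain ⟨k, -, hk⟩ := (Nat.dvd_prime_pow hp).1 (show q ∣ p ^ (m : ℕ) by
    rw [← hm, hF]; exact dvd_pow_self q two_ne_zero)
  have hq2 : 2 ≤ q := by
    have h1 := Fintype.one_lt_card (α := F)
    rw [hF] at h1
    by_contra hq
    interval_cases q <;> simp at h1
  let σ : F →+* F := iterateFrobenius F p k
  have hσ : ∀ x, σ x = x ^ q := fun x => by rw [hk]; exact iterateFrobenius_def p k x
  have inv : ∀ x, σ (σ x) = x := fun x => by
    rw [hσ, hσ, ← pow_mul, ← pow_two, ← hF, FiniteField.pow_card]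
  obtain ⟨w, hw⟩ : ∃ x, σ x ≠ x := by
    by_contra hc
    push Not at hc
    have h1 : Finset.univ ⊆ ((Polynomial.X ^ q - Polynomial.X : Polynomial F).roots.toFinset) := fun x _ => by
      rw [Multiset.mem_toFinset, Polynomial.mem_roots (FiniteField.X_pow_card_sub_X_ne_zero F hq2)]
      simp [← hσ, hc]
    have h2 := (Finset.card_le_card h1).trans
      ((Multiset.toFinset_card_le _).trans (Polynomial.card_roots' _))
    rw [Finset.card_univ, hF, FiniteField.X_pow_card_sub_X_natDegree_eq F hq2] at h2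
    nlinarith
  obtain ⟨y, hy⟩ : ∃ y, y + σ y ≠ 0 := by
    by_contra hc
    push Not at hc
    have h1 := hc 1
    rw [map_one] at h1
    exact hw (by linear_combination hc w - w * h1)
  refine ⟨⟨σ, inv, ⟨w, hw⟩, ⟨y / (y + σ y), ?_⟩, fun x hx => ?_⟩, ⟨hF, hσ⟩⟩
  · rw [map_div₀, map_add, inv, add_comm (σ y), ← add_div, div_self hy]
  by_cases hx0 : x = 0
  · exact ⟨0, by rw [zero_mul, hx0]⟩
  obtain ⟨γ, hγ⟩ := IsCyclic.exists_generator (α := Fˣ)
  obtain ⟨j, hj⟩ := (mem_powers_iff_mem_zpowers).2 (hγ (Units.mk0 x hx0))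
  have hord : orderOf γ = (q + 1) * (q - 1) := by
    rw [orderOf_eq_card_of_forall_mem_zpowers hγ, Nat.card_eq_fintype_card, Fintype.card_units, hF]
    simpa using Nat.sq_sub_sq q 1
  have hxv : x = (γ : F) ^ j := by
    have := congrArg Units.val hj
    simpa using this.symm
  have h1 : γ ^ (j * (q - 1)) = 1 := by
    refine Units.ext ?_
    rw [Units.val_pow_eq_pow_val, pow_mul, ← hxv, Units.val_one]
    refine mul_left_cancel₀ hx0 ?_
    rw [← pow_succ', Nat.sub_add_cancel (by omega), ← hσ, hx, mul_one]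
  have h2 := orderOf_dvd_of_pow_eq_one h1
  rw [hord] at h2
  obtain ⟨i, hi⟩ := Nat.dvd_of_mul_dvd_mul_right (by omega) h2
  exact ⟨(γ : F) ^ i, by rw [hσ, ← pow_succ', ← pow_mul, hxv, hi, mul_comm]⟩

theorem com_all {F : Type*} [Field F] [Fintype F] {S : UConj F} {q : ℕ} (h : QConj S q) {n : ℕ} (hn : 3 ≤ n)
    (hex : ¬(n = 3 ∧ q = 2)) {g : GL (Fin n) F} (hg : g ∈ U S (1 : Matrix (Fin n) (Fin n) F))
    (hdet : (g : Matrix (Fin n) (Fin n) F).det = 1) : Com S (1 : Matrix (Fin n) (Fin n) F) g := by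
  classical
  by_cases hs : ∀ l : F, (g : Matrix (Fin n) (Fin n) F) ≠ l • 1
  · exact com_nonscalar h (by simp) (cT_one S) hg hdet (by simpa using hn) (by simpa using hex) hs
  · push Not at hs
    obtain ⟨l, hl⟩ := hs
    exact com_scalar S h (by omega) (by simp) (cT_one S) hg hdet hl

theorem ore_su {F : Type*} [Field F] [Fintype F] (n q : ℕ) (hn : 3 ≤ n) (hF : Fintype.card F = q ^ 2)
    (hex : ¬(n = 3 ∧ q = 2)) :
    ∀ g : Cfsg.SU n F q, ∃ a b : Cfsg.SU n F q, g = a * b * a⁻¹ * b⁻¹ := by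
  intro g
  obtain ⟨S, hS⟩ := exists_qconj hF
  have hform : ∀ u v : Fin n → F, Cfsg.hermForm n F q u v = hf S (1 : Matrix (Fin n) (Fin n) F) u v := fun u v => by
    rw [hf, Matrix.one_mulVec]
    simp [Cfsg.hermForm, dotProduct, hS.pow, mul_comm]
  have hsl : ∀ x : Matrix.SpecialLinearGroup (Fin n) F,
      x ∈ Cfsg.SU n F q ↔ Matrix.SpecialLinearGroup.toGL x ∈ U S (1 : Matrix (Fin n) (Fin n) F) := by
    intro x
    show (∀ u v, _ = _) ↔ _
    simp only [hform]
    rw [mem_U]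
    set M : Matrix (Fin n) (Fin n) F := slToMat n F x with hM
    rw [show ((Matrix.SpecialLinearGroup.toGL x : GL (Fin n) F) : Matrix (Fin n) (Fin n) F) = M from rfl]
    refine ⟨fun hx => ?_, fun hx u v => by rw [hf_pull, hx]⟩
    refine sub_eq_zero.1 (hf_polar S _ fun u => ?_)
    have := hx u u
    rw [hf_pull] at this
    simp only [hf, Matrix.sub_mulVec, dotProduct_sub] at this ⊢
    rw [this, sub_self]
  obtain ⟨x, hx⟩ := g
  obtain ⟨a, ha, b, hb, hda, hdb, hab⟩ :=
    com_all hS hn hex ((hsl x).1 hx) x.2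
  let a' : Matrix.SpecialLinearGroup (Fin n) F := ⟨(a : Matrix (Fin n) (Fin n) F), hda⟩
  let b' : Matrix.SpecialLinearGroup (Fin n) F := ⟨(b : Matrix (Fin n) (Fin n) F), hdb⟩
  have ea : Matrix.SpecialLinearGroup.toGL a' = a := Units.ext rfl
  have eb : Matrix.SpecialLinearGroup.toGL b' = b := Units.ext rfl
  refine ⟨⟨a', (hsl a').2 (ea ▸ ha)⟩, ⟨b', (hsl b').2 (eb ▸ hb)⟩, Subtype.ext ?_⟩
  refine Matrix.SpecialLinearGroup.toGL_injective ?_
  show Matrix.SpecialLinearGroup.toGL x = Matrix.SpecialLinearGroup.toGL (a' * b' * a'⁻¹ * b'⁻¹)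
  rw [map_mul, map_mul, map_mul, map_inv, map_inv, ea, eb]
  exact hab

end Cfsg.Agent.H31.OreSU
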